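import Mathlib
import Cfsg.Agent.Lib.H98.DicksonSolv
import Cfsg.Agent.Lib.H17.SubfieldPSL

set_option autoImplicit false

/-! Subgroups of `PGL₂(F)`: the image of `SL₂`, subfield subgroups, centralizers. -/

namespace H98.PGLMax1

open MulAction Matrix OnePoint H98.Moebius H98.DicksonField H98.DicksonMoeb H98.DicksonNum H98.DicksonAbs H98.DicksonPGL
  H98.Dickson H98.DicksonPSL H98.DicksonIdx H98.DicksonDih H98.DicksonMax H98.DicksonSub
open scoped H98.Moebius

section basic

variable {F : Type*} [Field F]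

/-- the image of `SL₂(F)` in `PGL₂(F)` -/
def LL (F : Type*) [Field F] : Subgroup (ProjGenLinGroup (Fin 2) F) :=
  (Matrix.ProjGenLinGroup.mk.comp Matrix.SpecialLinearGroup.toGL).range

theorem range_toPGL : (ProjectiveSpecialLinearGroup.toPGL : Matrix.ProjectiveSpecialLinearGroup (Fin 2) F →* _).range = LL F := by
  ext x
  constructor
  · rintro ⟨g, rfl⟩
    obtain ⟨g, rfl⟩ := QuotientGroup.mk_surjective g
    exact ⟨g, rfl⟩
  · rintro ⟨g, rfl⟩
    exact ⟨QuotientGroup.mk g, rfl⟩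

/-- determinant criterion -/
theorem mk_mem_LL (g : GL (Fin 2) F) : ProjGenLinGroup.mk g ∈ LL F ↔ IsSquare (g.det : F) := by
  constructor
  · rintro ⟨s, hs⟩
    have h1 : ProjGenLinGroup.mk (Matrix.SpecialLinearGroup.toGL s) = ProjGenLinGroup.mk g := hs
    rw [ProjGenLinGroup.mk_eq_mk_iff] at h1
    obtain ⟨u, hu⟩ := h1
    refine ⟨u, ?_⟩
    rw [← hu, map_mul]
    have h2 : (Matrix.GeneralLinearGroup.det (Matrix.SpecialLinearGroup.toGL s)) = 1 := by
      apply Units.ext
      rw [Matrix.GeneralLinearGroup.val_det_apply]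
      exact s.det_coe
    rw [h2, one_mul, Matrix.GeneralLinearGroup.val_det_apply]
    simp [Matrix.GeneralLinearGroup.coe_scalar, Matrix.det_fin_two]
    ring
  · rintro ⟨r, hr⟩
    have hr0 : r ≠ 0 := by
      rintro rfl
      exact g.det.ne_zero (by rw [hr, zero_mul])
    have hdet : (g : Matrix (Fin 2) (Fin 2) F).det = r * r := by
      rw [← hr, Matrix.GeneralLinearGroup.val_det_apply]
    refine ⟨⟨r⁻¹ • (g : Matrix (Fin 2) (Fin 2) F), ?_⟩, ?_⟩
    · rw [Matrix.det_smul, Fintype.card_fin, hdet]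
      field_simp
    · show ProjGenLinGroup.mk (Matrix.SpecialLinearGroup.toGL _) = ProjGenLinGroup.mk g
      rw [ProjGenLinGroup.mk_eq_mk_iff]
      refine ⟨Units.mk0 r hr0, ?_⟩
      apply Units.ext
      rw [Units.val_mul]
      show (r⁻¹ • (g : Matrix (Fin 2) (Fin 2) F)) * _ = _
      rw [Matrix.GeneralLinearGroup.coe_scalar]
      ext i j
      fin_cases i <;> fin_cases j <;> simp [Matrix.mul_apply, Fin.sum_univ_two] <;> field_simp

instance normal_LL : (LL F).Normal := by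
  constructor
  intro x hx g
  induction x using Matrix.ProjGenLinGroup.induction_on with | mk x =>
  induction g using Matrix.ProjGenLinGroup.induction_on with | mk g =>
  rw [← map_inv, ← map_mul, ← map_mul, mk_mem_LL]
  rw [mk_mem_LL] at hx
  rwa [map_mul, map_mul, map_inv, mul_inv_cancel_comm]

theorem conj_mem_LL (g : ProjGenLinGroup (Fin 2) F) {x : ProjGenLinGroup (Fin 2) F} :
    g * x * g⁻¹ ∈ LL F ↔ x ∈ LL F := by
  constructor
  · intro h
    have h2 := normal_LL.conj_mem _ h g⁻¹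
    rw [inv_inv] at h2
    have e : g⁻¹ * (g * x * g⁻¹) * g = x := by group
    rwa [e] at h2
  · intro h; exact normal_LL.conj_mem _ h g

theorem sq_mem_LL (x : ProjGenLinGroup (Fin 2) F) : x * x ∈ LL F := by
  induction x using Matrix.ProjGenLinGroup.induction_on with | mk x =>
  rw [← map_mul, mk_mem_LL, map_mul, Units.val_mul]
  exact ⟨_, rfl⟩

theorem pow_even_mem_LL (x : ProjGenLinGroup (Fin 2) F) {n : ℕ} (h : Odd n) (hx : x ^ n = 1) : x ∈ LL F := by
  obtain ⟨k, rfl⟩ := h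
  have h1 : x = (x⁻¹ ^ k) * (x⁻¹ ^ k) := by
    rw [← pow_add, ← two_mul]
    have : x ^ (2 * k) * x = 1 := by rw [← pow_succ]; exact hx
    have h2 := inv_eq_of_mul_eq_one_right this
    rw [inv_pow, h2]
  rw [h1]
  exact sq_mem_LL _

/-- subfield subgroups -/
noncomputable def XX (K : Subfield F) : Subgroup (ProjGenLinGroup (Fin 2) F) :=
  (ProjGenLinGroup.map K.subtype : ProjGenLinGroup (Fin 2) K →* ProjGenLinGroup (Fin 2) F).range

theorem mk_mem_XX (K : Subfield F) (g : GL (Fin 2) F) (h : ∀ i j, (g : Matrix (Fin 2) (Fin 2) F) i j ∈ K) :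
    ProjGenLinGroup.mk g ∈ XX K := by
  let A : Matrix (Fin 2) (Fin 2) K := fun i j => ⟨(g : Matrix (Fin 2) (Fin 2) F) i j, h i j⟩
  have hA : A.map K.subtype = (g : Matrix (Fin 2) (Fin 2) F) := by
    ext i j; rfl
  have hdet : A.det ≠ 0 := by
    intro h0
    have h1 : (A.map K.subtype).det = 0 := by
      have := RingHom.map_det K.subtype A
      rw [h0, map_zero] at this
      exact this.symm
    rw [hA] at h1
    apply g.det.ne_zero
    rw [Matrix.GeneralLinearGroup.val_det_apply]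
    exact h1
  refine ⟨ProjGenLinGroup.mk (Matrix.GeneralLinearGroup.mkOfDetNeZero A hdet), ?_⟩
  rw [ProjGenLinGroup.map_mk]
  congr 1
  exact Units.ext rfl

theorem mem_XX_iff (K : Subfield F) (x : ProjGenLinGroup (Fin 2) F) :
    x ∈ XX K ↔ ∃ g : GL (Fin 2) F, (∀ i j, (g : Matrix (Fin 2) (Fin 2) F) i j ∈ K) ∧ ProjGenLinGroup.mk g = x := by
  constructor
  · rintro ⟨y, rfl⟩
    induction y using Matrix.ProjGenLinGroup.induction_on with | mk y =>
    refine ⟨Matrix.GeneralLinearGroup.map K.subtype y, ?_, (ProjGenLinGroup.map_mk _ _).symm⟩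
    intro i j
    exact (y i j).2
  · rintro ⟨g, h, rfl⟩
    exact mk_mem_XX K g h

theorem XX_mono {K K' : Subfield F} (h : K ≤ K') : XX K ≤ XX K' := by
  intro x hx
  rw [mem_XX_iff] at hx ⊢
  obtain ⟨g, hg, rfl⟩ := hx
  exact ⟨g, fun i j => h (hg i j), rfl⟩

theorem XX_top : XX (⊤ : Subfield F) = ⊤ := by
  rw [eq_top_iff]
  intro x _
  rw [mem_XX_iff]
  induction x using Matrix.ProjGenLinGroup.induction_on with | mk x =>
  exact ⟨x, fun _ _ => Subfield.mem_top _, rfl⟩

/-- subfield subgroups of `PSL₂` -/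
noncomputable def YY (K : Subfield F) : Subgroup (ProjGenLinGroup (Fin 2) F) := (pslHom K.subtype).range

theorem mem_YY_iff (K : Subfield F) (x : ProjGenLinGroup (Fin 2) F) :
    x ∈ YY K ↔ ∃ g : Matrix.SpecialLinearGroup (Fin 2) F, (∀ i j, g i j ∈ K) ∧
      ProjGenLinGroup.mk (Matrix.SpecialLinearGroup.toGL g) = x := by
  constructor
  · rintro ⟨y, rfl⟩
    obtain ⟨y, rfl⟩ := QuotientGroup.mk_surjective y
    refine ⟨Matrix.SpecialLinearGroup.map K.subtype y, ?_, ?_⟩
    · intro i j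
      exact (y i j).2
    · show _ = ProjGenLinGroup.map K.subtype (ProjGenLinGroup.mk (Matrix.SpecialLinearGroup.toGL y))
      rw [ProjGenLinGroup.map_mk]
      congr 1
      exact Units.ext rfl
  · rintro ⟨g, hg, rfl⟩
    let A : Matrix (Fin 2) (Fin 2) K := fun i j => ⟨g i j, hg i j⟩
    have hA : A.map K.subtype = (g : Matrix (Fin 2) (Fin 2) F) := by
      ext i j; rfl
    have hdet : A.det = 1 := by
      apply K.subtype.injective
      rw [RingHom.map_det, map_one]
      show (A.map K.subtype).det = 1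
      rw [hA]; exact g.det_coe
    refine ⟨QuotientGroup.mk ⟨A, hdet⟩, ?_⟩
    show ProjGenLinGroup.map K.subtype (ProjGenLinGroup.mk (Matrix.SpecialLinearGroup.toGL ⟨A, hdet⟩)) = _
    rw [ProjGenLinGroup.map_mk]
    congr 1
    exact Units.ext rfl

theorem YY_mono {K K' : Subfield F} (h : K ≤ K') : YY K ≤ YY K' := by
  intro x hx
  rw [mem_YY_iff] at hx ⊢
  obtain ⟨g, hg, rfl⟩ := hx
  exact ⟨g, fun i j => h (hg i j), rfl⟩

theorem YY_le_XX (K : Subfield F) : YY K ≤ XX K := by
  intro x hx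
  rw [mem_YY_iff] at hx
  obtain ⟨g, hg, rfl⟩ := hx
  exact mk_mem_XX K _ hg

theorem YY_le_LL (K : Subfield F) : YY K ≤ LL F := by
  intro x hx
  rw [mem_YY_iff] at hx
  obtain ⟨g, hg, rfl⟩ := hx
  exact ⟨g, rfl⟩

theorem YY_top : YY (⊤ : Subfield F) = LL F := by
  apply le_antisymm (YY_le_LL _)
  rintro x ⟨g, rfl⟩
  rw [mem_YY_iff]
  exact ⟨g, fun _ _ => Subfield.mem_top _, rfl⟩

end basic

end H98.PGLMax1
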