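import Mathlib
import Cfsg.Agent.Lib.H98.PGLMax1

set_option autoImplicit false

/-! Subgroups of `PGL₂(F)`: cardinalities, subfields, centralizers. -/

namespace H98.PGLMax2

open MulAction Matrix OnePoint H98.Moebius H98.DicksonField H98.DicksonMoeb H98.DicksonNum H98.DicksonAbs H98.DicksonPGL
  H98.Dickson H98.DicksonPSL H98.DicksonIdx H98.DicksonDih H98.DicksonMax H98.DicksonSub H98.PGLMax1
open scoped H98.Moebius

variable {F : Type*} [Field F] [Finite F]

theorem subfield_eq_of_card {K₁ K₂ : Subfield F} (h : Nat.card K₁ = Nat.card K₂) : K₁ = K₂ := by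
  classical
  have key : ∀ K : Subfield F, ∀ x ∈ K, x ^ Nat.card K = x := by
    intro K x hx
    letI := Fintype.ofFinite K
    have h1 := FiniteField.pow_card (⟨x, hx⟩ : K)
    rw [Nat.card_eq_fintype_card]
    exact congrArg Subtype.val h1
  have hk1 : 1 < Nat.card K₁ := Finite.one_lt_card
  let P : Polynomial F := Polynomial.X ^ Nat.card K₁ - Polynomial.X
  have hP0 : P ≠ 0 := FiniteField.X_pow_card_sub_X_ne_zero F hk1
  have hdeg : P.natDegree = Nat.card K₁ := FiniteField.X_pow_card_sub_X_natDegree_eq F hk1
  have hroots : P.roots.toFinset.card ≤ Nat.card K₁ := by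
    calc P.roots.toFinset.card ≤ Multiset.card P.roots := Multiset.toFinset_card_le _
      _ ≤ P.natDegree := Polynomial.card_roots' P
      _ = _ := hdeg
  have hmem : ∀ K : Subfield F, Nat.card K = Nat.card K₁ → (K : Set F) = (P.roots.toFinset : Set F) := by
    intro K hK
    apply Set.eq_of_subset_of_ncard_le
    · intro x hx
      rw [Finset.mem_coe, Multiset.mem_toFinset, Polynomial.mem_roots hP0]
      have := key K x hx
      rw [hK] at this
      simp [P, this]
    · rw [Set.ncard_coe_finset]
      refine hroots.trans ?_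
      rw [← hK]
      exact le_of_eq (Nat.card_coe_set_eq _)
    · exact Set.toFinite _
  apply SetLike.coe_injective
  rw [hmem K₁ rfl, hmem K₂ h.symm]

theorem card_pow_finrank (K : Subfield F) : Nat.card K ^ Module.finrank K F = Nat.card F := by
  letI := Fintype.ofFinite K
  letI := Fintype.ofFinite F
  rw [Nat.card_eq_fintype_card, Nat.card_eq_fintype_card]
  exact (Module.card_eq_pow_finrank (K := K) (V := F)).symm

/-- intermediate fields -/
theorem exists_between (K : Subfield F) (s t : ℕ) (h : Nat.card K ^ (s * t) = Nat.card F) (hs : s ≠ 0) :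
    ∃ K' : Subfield F, K ≤ K' ∧ Nat.card K' = Nat.card K ^ s := by
  obtain ⟨p, hpc⟩ := CharP.exists F
  haveI hpp : Fact p.Prime := ⟨CharP.char_is_prime F p⟩
  obtain ⟨a, ha1, ha⟩ := char_dvd (F := K) p
  have has : a * s ≠ 0 := Nat.mul_ne_zero (by omega) hs
  have hE : Nat.card (GaloisField p (a * s)) = Nat.card K ^ s := by
    rw [GaloisField.card p _ has, ha, pow_mul]
  haveI : Finite (GaloisField p (a * s)) := Nat.finite_of_card_ne_zero (by rw [hE, ha]; exact pow_ne_zero _ (pow_ne_zero _ hpp.out.ne_zero))
  obtain ⟨g⟩ := exists_ringHom K (GaloisField p (a * s)) s hE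
  obtain ⟨f⟩ := exists_ringHom (GaloisField p (a * s)) F t (by rw [hE, ← pow_mul, h])
  have h1 : Nat.card f.fieldRange = Nat.card K ^ s := by
    rw [← hE]
    exact (Nat.card_congr (Equiv.ofInjective f f.injective)).symm
  have h2 : Nat.card (f.comp g).fieldRange = Nat.card K :=
    (Nat.card_congr (Equiv.ofInjective (f.comp g) (f.comp g).injective)).symm
  refine ⟨f.fieldRange, ?_, h1⟩
  rw [← subfield_eq_of_card h2]
  rintro x ⟨y, rfl⟩
  exact ⟨g y, rfl⟩

theorem card_XX (K : Subfield F) : Nat.card (XX K) = (Nat.card K + 1) * (Nat.card K * (Nat.card K - 1)) := by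
  rw [← card_pgl_eq]
  exact (Nat.card_congr (MonoidHom.ofInjective (map_injective K.subtype)).toEquiv).symm

theorem card_YY (K : Subfield F) : Nat.gcd 2 (Nat.card K - 1) * Nat.card (YY K) =
    (Nat.card K + 1) * (Nat.card K * (Nat.card K - 1)) := by
  rw [← card_psl_eq]
  congr 1
  exact (Nat.card_congr (MonoidHom.ofInjective (pslHom_injective K.subtype)).toEquiv).symm

/-- `LL F` is `PSL₂(F)` -/
noncomputable def equivLL (F : Type*) [Field F] : Matrix.ProjectiveSpecialLinearGroup (Fin 2) F ≃* LL F :=
  (MonoidHom.ofInjective ProjectiveSpecialLinearGroup.toPGL_injective).trans (MulEquiv.subgroupCongr range_toPGL)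

theorem coe_equivLL (x : Matrix.ProjectiveSpecialLinearGroup (Fin 2) F) :
    ((equivLL F x : LL F) : ProjGenLinGroup (Fin 2) F) = ProjectiveSpecialLinearGroup.toPGL x := rfl

theorem card_LL : Nat.gcd 2 (Nat.card F - 1) * Nat.card (LL F) = (Nat.card F + 1) * (Nat.card F * (Nat.card F - 1)) := by
  rw [← card_psl_eq]
  congr 1
  exact (Nat.card_congr (equivLL F).toEquiv).symm

theorem card_PGL : Nat.card (ProjGenLinGroup (Fin 2) F) = (Nat.card F + 1) * (Nat.card F * (Nat.card F - 1)) := card_pgl_eq F

instance : Finite (ProjGenLinGroup (Fin 2) F) := inferInstanceAs (Finite (_ ⧸ _))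

theorem simple_LL (h4 : 4 ≤ Nat.card F) : IsSimpleGroup (LL F) := by
  haveI := Matrix.ProjectiveSpecialLinearGroup.rank_two_simple (F := F) h4
  exact (MulEquiv.isSimpleGroup_congr (equivLL F)).mp inferInstance

theorem not_solvable_LL (h4 : 4 ≤ Nat.card F) : ¬ Group.IsSolvable (LL F) := by
  intro h
  exact DicksonSolv.psl_not_solvable F h4 (DicksonSolv.solvable_of_equiv (equivLL F) h)

theorem index_LL : (LL F).index = Nat.gcd 2 (Nat.card F - 1) := by
  have h1 := card_LL (F := F)
  have h2 := Subgroup.card_mul_index (LL F)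
  rw [card_PGL, ← h1, mul_comm] at h2
  exact Nat.eq_of_mul_eq_mul_right Nat.card_pos h2

theorem card_le_inf (C : Subgroup (ProjGenLinGroup (Fin 2) F)) :
    Nat.card C ≤ Nat.gcd 2 (Nat.card F - 1) * Nat.card (C ⊓ LL F : Subgroup _) := by
  have h1 : Nat.card (C ⊓ LL F : Subgroup _) * (LL F).relIndex C = Nat.card C := by
    have := Subgroup.card_mul_index ((LL F).subgroupOf C)
    rw [← this, Subgroup.relIndex]
    congr 1
    rw [← Subgroup.inf_subgroupOf_left]
    exact (Nat.card_congr (Subgroup.subgroupOfEquivOfLe inf_le_left).toEquiv).symm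
  have h2 : (LL F).relIndex C ≤ (LL F).index := Nat.le_of_dvd (by rw [index_LL]; exact Nat.gcd_pos_of_pos_left _ (by norm_num))
    (Subgroup.relIndex_dvd_index_of_normal _ _)
  rw [index_LL] at h2
  rw [← h1, mul_comm]
  exact Nat.mul_le_mul_right _ h2

/-- centralizers are large -/
theorem card_centralizer_ge (c : ProjGenLinGroup (Fin 2) F) :
    Nat.card F - 1 ≤ Nat.card (Subgroup.centralizer ({c} : Set (ProjGenLinGroup (Fin 2) F))) := by
  classical
  induction c using Matrix.ProjGenLinGroup.induction_on with | mk A =>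
  by_cases hsc : ∃ r : F, (A : Matrix (Fin 2) (Fin 2) F) = Matrix.scalar (Fin 2) r
  · have h1 : ProjGenLinGroup.mk A = 1 := by
      rw [ProjGenLinGroup.mk_eq_one, Matrix.GeneralLinearGroup.mem_center_iff_val_eq_scalar]
      obtain ⟨r, hr⟩ := hsc
      exact ⟨r, hr.symm⟩
    rw [h1]
    have h2 : Subgroup.centralizer ({1} : Set (ProjGenLinGroup (Fin 2) F)) = ⊤ := by
      rw [eq_top_iff]
      intro x _
      rw [Subgroup.mem_centralizer_singleton_iff]; simp
    rw [h2, Subgroup.card_top, card_PGL]
    have hq : 1 < Nat.card F := Finite.one_lt_card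
    calc Nat.card F - 1 ≤ Nat.card F * (Nat.card F - 1) := Nat.le_mul_of_pos_left _ (by omega)
      _ ≤ _ := Nat.le_mul_of_pos_left _ (by omega)
  · -- nonscalar
    let a := (A : Matrix (Fin 2) (Fin 2) F) 0 0
    let b := (A : Matrix (Fin 2) (Fin 2) F) 0 1
    let c := (A : Matrix (Fin 2) (Fin 2) F) 1 0
    let d := (A : Matrix (Fin 2) (Fin 2) F) 1 1
    have hA : (A : Matrix (Fin 2) (Fin 2) F) = !![a, b; c, d] := by
      ext i j; fin_cases i <;> fin_cases j <;> rfl
    have hns : ¬ (b = 0 ∧ c = 0 ∧ a = d) := by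
      rintro ⟨h1, h2, h3⟩
      apply hsc
      refine ⟨a, ?_⟩
      rw [hA, h1, h2, ← h3]
      ext i j; fin_cases i <;> fin_cases j <;> simp
    let P : Polynomial F := Polynomial.X ^ 2 + Polynomial.C (a + d) * Polynomial.X + Polynomial.C (a * d - b * c)
    have hPdeg : P.natDegree = 2 := by
      have := Polynomial.natDegree_quadratic (R := F) (a := 1) (b := a + d) (c := a * d - b * c) one_ne_zero
      simpa [P] using this
    have hP0 : P ≠ 0 := by
      intro h0; rw [h0] at hPdeg; simp at hPdeg
    have hdet : ∀ x : F, (!![x + a, b; c, x + d]).det = P.eval x := by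
      intro x
      rw [Matrix.det_fin_two_of]
      simp only [P, Polynomial.eval_add, Polynomial.eval_mul, Polynomial.eval_pow, Polynomial.eval_X, Polynomial.eval_C]
      ring
    have hbad : Nat.card {x : F // P.eval x = 0} ≤ 2 := by
      have e : {x : F // P.eval x = 0} ≃ (P.roots.toFinset : Set F) := by
        refine Equiv.subtypeEquivRight fun x => ?_
        rw [Finset.mem_coe, Multiset.mem_toFinset, Polynomial.mem_roots hP0]; rfl
      rw [Nat.card_congr e, Nat.card_coe_set_eq, Set.ncard_coe_finset]
      calc P.roots.toFinset.card ≤ Multiset.card P.roots := Multiset.toFinset_card_le _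
        _ ≤ P.natDegree := Polynomial.card_roots' P
        _ = _ := hPdeg
    have hgood : Nat.card F ≤ Nat.card {x : F // ¬ P.eval x = 0} + 2 := by
      letI := Fintype.ofFinite F
      have h1 := Fintype.card_subtype_compl (fun x : F => P.eval x = 0)
      have h2 : Fintype.card {x : F // P.eval x = 0} ≤ Fintype.card F := Fintype.card_subtype_le _
      rw [Nat.card_eq_fintype_card] at hbad
      rw [Nat.card_eq_fintype_card, Nat.card_eq_fintype_card, h1]
      omega
    -- the injection
    let g : {x : F // ¬ P.eval x = 0} → GL (Fin 2) F := fun x =>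
      Matrix.GeneralLinearGroup.mkOfDetNeZero !![x.1 + a, b; c, x.1 + d] (by rw [hdet]; exact x.2)
    have hgcoe : ∀ x, (g x : Matrix (Fin 2) (Fin 2) F) = !![x.1 + a, b; c, x.1 + d] := fun x => rfl
    have hcomm : ∀ x, g x * A = A * g x := by
      intro x
      apply Units.ext
      rw [Units.val_mul, Units.val_mul, hgcoe, hA]
      ext i j; fin_cases i <;> fin_cases j <;> simp [Matrix.mul_apply, Fin.sum_univ_two] <;> ring
    let f : Option {x : F // ¬ P.eval x = 0} → Subgroup.centralizer ({ProjGenLinGroup.mk A} : Set (ProjGenLinGroup (Fin 2) F)) :=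
      fun o => match o with
        | Option.none => 1
        | Option.some x => ⟨ProjGenLinGroup.mk (g x), by
            rw [Subgroup.mem_centralizer_singleton_iff, ← map_mul, ← map_mul, hcomm]⟩
    have key : ∀ x : {x : F // ¬ P.eval x = 0}, ∀ r s : F, (∀ M : Matrix (Fin 2) (Fin 2) F, M = !![x.1 + a, b; c, x.1 + d] →
        M * Matrix.scalar (Fin 2) r = !![s, 0; 0, s] → r = 0) := by
      intro x r s M hM h
      rw [hM] at h
      by_contra hr
      apply hns
      have h01 := congrFun (congrFun h 0) 1
      have h10 := congrFun (congrFun h 1) 0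
      have h00 := congrFun (congrFun h 0) 0
      have h11 := congrFun (congrFun h 1) 1
      simp [Matrix.mul_apply, Fin.sum_univ_two, hr] at h01 h10 h00 h11
      refine ⟨h01, h10, ?_⟩
      have : (x.1 + a) * r = (x.1 + d) * r := h00.trans h11.symm
      have := mul_right_cancel₀ hr this
      exact add_left_cancel this
    have hinj : Function.Injective f := by
      intro o1 o2 h12
      match o1, o2 with
      | Option.none, Option.none => rfl
      | Option.none, Option.some x =>
        exfalso
        have h1 : (1 : ProjGenLinGroup (Fin 2) F) = ProjGenLinGroup.mk (g x) := congrArg Subtype.val h12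
        rw [eq_comm, ProjGenLinGroup.mk_eq_one, Matrix.GeneralLinearGroup.mem_center_iff_val_eq_scalar] at h1
        obtain ⟨r, hr⟩ := h1
        apply one_ne_zero (α := F)
        apply key x 1 r _ rfl
        rw [map_one, mul_one, ← hgcoe, ← hr]
        ext i j; fin_cases i <;> fin_cases j <;> simp
      | Option.some x, Option.none =>
        exfalso
        have h1 : ProjGenLinGroup.mk (g x) = (1 : ProjGenLinGroup (Fin 2) F) := congrArg Subtype.val h12
        rw [ProjGenLinGroup.mk_eq_one, Matrix.GeneralLinearGroup.mem_center_iff_val_eq_scalar] at h1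
        obtain ⟨r, hr⟩ := h1
        apply one_ne_zero (α := F)
        apply key x 1 r _ rfl
        rw [map_one, mul_one, ← hgcoe, ← hr]
        ext i j; fin_cases i <;> fin_cases j <;> simp
      | Option.some x, Option.some y =>
        have h1 : ProjGenLinGroup.mk (g x) = ProjGenLinGroup.mk (g y) := congrArg Subtype.val h12
        rw [ProjGenLinGroup.mk_eq_mk_iff] at h1
        obtain ⟨u, hu⟩ := h1
        have hu' := congrArg (fun z : GL (Fin 2) F => (z : Matrix (Fin 2) (Fin 2) F)) hu
        simp only [Units.val_mul, hgcoe, Matrix.GeneralLinearGroup.coe_scalar] at hu'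
        have h01 := congrFun (congrFun hu' 0) 1
        have h10 := congrFun (congrFun hu' 1) 0
        have h00 := congrFun (congrFun hu' 0) 0
        have h11 := congrFun (congrFun hu' 1) 1
        simp [Matrix.mul_apply, Fin.sum_univ_two] at h01 h10 h00 h11
        have hu1 : (u : F) = 1 := by
          by_contra hne
          apply hns
          have hz : (u : F) - 1 ≠ 0 := sub_ne_zero.mpr hne
          refine ⟨?_, ?_, ?_⟩
          · apply (mul_eq_zero.mp (show b * ((u : F) - 1) = 0 by linear_combination h01)).resolve_right hz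
          · apply (mul_eq_zero.mp (show c * ((u : F) - 1) = 0 by linear_combination h10)).resolve_right hz
          · have := (mul_eq_zero.mp (show (a - d) * ((u : F) - 1) = 0 by linear_combination h00 - h11)).resolve_right hz
            exact sub_eq_zero.mp this
        rw [hu1, mul_one] at h00
        exact congrArg Option.some (Subtype.ext (add_right_cancel h00))
    have hle := Nat.card_le_card_of_injective f hinj
    rw [Finite.card_option] at hle
    omega

/-- element orders in `PGL₂(F)` -/
theorem order_pgl_dvd (p : ℕ) [Fact p.Prime] [CharP F p] (c : ProjGenLinGroup (Fin 2) F) (hc : ¬ p ∣ orderOf c) :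
    orderOf c ∣ Nat.card F - 1 ∨ orderOf c ∣ Nat.card F + 1 := by
  have hq : 1 < Nat.card F := Finite.one_lt_card
  have key : ∀ x ∈ LL F, ¬ p ∣ orderOf x → (orderOf x ∣ (Nat.card F - 1) / Nat.gcd 2 (Nat.card F - 1) ∨
      orderOf x ∣ (Nat.card F + 1) / Nat.gcd 2 (Nat.card F - 1)) := by
    intro x hx hxp
    rw [← range_toPGL] at hx
    obtain ⟨y, rfl⟩ := hx
    rw [orderOf_injective _ ProjectiveSpecialLinearGroup.toPGL_injective] at hxp ⊢
    rcases H46.PSL2Orders.order_trichotomy (F := F) p y with h1 | h1 | h1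
    · left
      rcases (Nat.dvd_prime (Fact.out : p.Prime)).mp h1 with h2 | h2
      · rw [h2]; exact one_dvd _
      · exact absurd (by rw [h2]) hxp
    · exact Or.inl h1
    · exact Or.inr h1
  have hg : Nat.gcd 2 (Nat.card F - 1) = 1 ∨ Nat.gcd 2 (Nat.card F - 1) = 2 :=
    (Nat.dvd_prime Nat.prime_two).mp (Nat.gcd_dvd_left _ _)
  rcases hg with hg | hg
  · have hc' : c ∈ LL F := by
      have h1 := index_LL (F := F)
      rw [hg, Subgroup.index_eq_one] at h1
      rw [h1]; trivial
    have := key c hc' hc
    rw [hg, Nat.div_one, Nat.div_one] at this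
    exact this
  · have h1 : ¬ p ∣ orderOf (c * c) := fun h => hc (h.trans (by rw [← pow_two]; exact orderOf_pow_dvd 2))
    have h2 : orderOf c ∣ 2 * orderOf (c * c) := by
      rw [orderOf_dvd_iff_pow_eq_one, pow_mul, pow_two, pow_orderOf_eq_one]
    have h3 := key (c * c) (sq_mem_LL c) h1
    have h4 : 2 ∣ Nat.card F - 1 := by rw [← hg]; exact Nat.gcd_dvd_right _ _
    rw [hg] at h3
    rcases h3 with h3 | h3
    · left
      refine h2.trans ?_
      obtain ⟨t, ht⟩ := h4
      rw [ht, Nat.mul_div_cancel_left _ (by norm_num)] at h3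
      rw [ht]; exact Nat.mul_dvd_mul_left 2 h3
    · right
      refine h2.trans ?_
      obtain ⟨t, ht⟩ := h4
      have h5 : Nat.card F + 1 = 2 * (t + 1) := by omega
      rw [h5, Nat.mul_div_cancel_left _ (by norm_num)] at h3
      rw [h5]; exact Nat.mul_dvd_mul_left 2 h3

end H98.PGLMax2
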