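import Mathlib
import Cfsg.Agent.Lib.H98.PGLMax1
import Cfsg.Agent.Lib.H6.SL2Tor

set_option autoImplicit false

/-! Four-groups in `PSL₂(F)` (`F` of odd characteristic): quaternion coordinates. -/

namespace H98.PGLMax3

open Matrix H98.PGLMax1

variable {F : Type*} [Field F]

/-- class of a matrix of determinant one -/
noncomputable def cl (A : Matrix.SpecialLinearGroup (Fin 2) F) : ProjGenLinGroup (Fin 2) F :=
  ProjGenLinGroup.mk (Matrix.SpecialLinearGroup.toGL A)

theorem cl_mul (A B : Matrix.SpecialLinearGroup (Fin 2) F) : cl (A * B) = cl A * cl B := by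
  unfold cl; rw [map_mul, map_mul]

theorem cl_eq_one_iff (A : Matrix.SpecialLinearGroup (Fin 2) F) :
    cl A = 1 ↔ A 0 1 = 0 ∧ A 1 0 = 0 ∧ A 0 0 = A 1 1 := by
  unfold cl
  rw [ProjGenLinGroup.mk_eq_one, Matrix.GeneralLinearGroup.mem_center_iff_val_eq_scalar]
  constructor
  · rintro ⟨r, hr⟩
    have h01 := congrFun (congrFun hr 0) 1
    have h10 := congrFun (congrFun hr 1) 0
    have h00 := congrFun (congrFun hr 0) 0
    have h11 := congrFun (congrFun hr 1) 1
    simp at h01 h10 h00 h11
    exact ⟨h01.symm, h10.symm, h00.symm.trans h11⟩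
  · rintro ⟨h1, h2, h3⟩
    refine ⟨A 0 0, ?_⟩
    ext i j
    fin_cases i <;> fin_cases j
    · simp
    · simp [h1]
    · simp [h2]
    · simp [h3]

theorem mul_entries (A B : Matrix.SpecialLinearGroup (Fin 2) F) :
    (A * B) 0 0 = A 0 0 * B 0 0 + A 0 1 * B 1 0 ∧ (A * B) 0 1 = A 0 0 * B 0 1 + A 0 1 * B 1 1 ∧
    (A * B) 1 0 = A 1 0 * B 0 0 + A 1 1 * B 1 0 ∧ (A * B) 1 1 = A 1 0 * B 0 1 + A 1 1 * B 1 1 := by
  simp [Matrix.mul_apply, Fin.sum_univ_two]

theorem det_eq (A : Matrix.SpecialLinearGroup (Fin 2) F) : A 0 0 * A 1 1 - A 0 1 * A 1 0 = 1 := by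
  have := A.det_coe
  rw [Matrix.det_fin_two] at this
  exact this

/-- involutions of `PSL₂` have trace zero -/
theorem trace_of_sq {A : Matrix.SpecialLinearGroup (Fin 2) F} (h : cl A * cl A = 1) (h1 : cl A ≠ 1) :
    A 1 1 = - A 0 0 := by
  rw [← cl_mul, cl_eq_one_iff] at h
  obtain ⟨e1, e2, e3, e4⟩ := mul_entries A A
  rw [e1, e2, e3, e4] at h
  obtain ⟨h2, h3, h4⟩ := h
  by_contra hne
  have hz : A 0 0 + A 1 1 ≠ 0 := by
    intro h0; apply hne; linear_combination h0
  apply h1
  rw [cl_eq_one_iff]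
  refine ⟨?_, ?_, ?_⟩
  · exact (mul_eq_zero.mp (show A 0 1 * (A 0 0 + A 1 1) = 0 by linear_combination h2)).resolve_right hz
  · exact (mul_eq_zero.mp (show A 1 0 * (A 0 0 + A 1 1) = 0 by linear_combination h3)).resolve_right hz
  · exact sub_eq_zero.mp ((mul_eq_zero.mp (show (A 0 0 - A 1 1) * (A 0 0 + A 1 1) = 0 by
      linear_combination h4)).resolve_right hz)

/-- elements of order three have trace `±1` -/
theorem trace_of_cube {A : Matrix.SpecialLinearGroup (Fin 2) F} (h : cl A * cl A * cl A = 1) (h1 : cl A ≠ 1) :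
    (A 0 0 + A 1 1) ^ 2 = 1 := by
  rw [← cl_mul, ← cl_mul, cl_eq_one_iff] at h
  obtain ⟨f1, f2, f3, f4⟩ := mul_entries (A * A) A
  obtain ⟨e1, e2, e3, e4⟩ := mul_entries A A
  rw [f1, f2, f3, f4, e1, e2, e3, e4] at h
  obtain ⟨h2, h3, h4⟩ := h
  have hd := det_eq A
  by_contra hne
  have hz : (A 0 0 + A 1 1) ^ 2 - 1 ≠ 0 := sub_ne_zero.mpr hne
  apply h1
  rw [cl_eq_one_iff]
  refine ⟨?_, ?_, ?_⟩
  · exact (mul_eq_zero.mp (show A 0 1 * ((A 0 0 + A 1 1) ^ 2 - 1) = 0 by
      linear_combination h2 + A 0 1 * hd)).resolve_right hz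
  · exact (mul_eq_zero.mp (show A 1 0 * ((A 0 0 + A 1 1) ^ 2 - 1) = 0 by
      linear_combination h3 + A 1 0 * hd)).resolve_right hz
  · exact sub_eq_zero.mp ((mul_eq_zero.mp (show (A 0 0 - A 1 1) * ((A 0 0 + A 1 1) ^ 2 - 1) = 0 by
      linear_combination h4 + (A 0 0 - A 1 1) * hd)).resolve_right hz)

/-- elements of order five -/
theorem trace_of_five {A : Matrix.SpecialLinearGroup (Fin 2) F} (h : (cl A * cl A) * (cl A * cl A) * cl A = 1)
    (h1 : cl A ≠ 1) : (A 0 0 + A 1 1) ^ 4 - 3 * (A 0 0 + A 1 1) ^ 2 + 1 = 0 := by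
  rw [← cl_mul, ← cl_mul, ← cl_mul, cl_eq_one_iff] at h
  obtain ⟨g1, g2, g3, g4⟩ := mul_entries (A * A * (A * A)) A
  obtain ⟨f1, f2, f3, f4⟩ := mul_entries (A * A) (A * A)
  obtain ⟨e1, e2, e3, e4⟩ := mul_entries A A
  rw [g1, g2, g3, g4, f1, f2, f3, f4, e1, e2, e3, e4] at h
  obtain ⟨h2, h3, h4⟩ := h
  have hd := det_eq A
  have hbc : A 0 1 * A 1 0 = A 0 0 * A 1 1 - 1 := by linear_combination -hd
  by_contra hz
  apply h1
  rw [cl_eq_one_iff]
  generalize A 0 0 = x at *
  generalize A 0 1 = y at *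
  generalize A 1 0 = z at *
  generalize A 1 1 = w at *
  refine ⟨?_, ?_, ?_⟩
  · exact (mul_eq_zero.mp (show y * ((x + w) ^ 4 - 3 * (x + w) ^ 2 + 1) = 0 by
      linear_combination h2 + (y * (3 * (x + w) ^ 2 - 1 - (x * w - y * z))) * hd)).resolve_right hz
  · exact (mul_eq_zero.mp (show z * ((x + w) ^ 4 - 3 * (x + w) ^ 2 + 1) = 0 by
      linear_combination h3 + (z * (3 * (x + w) ^ 2 - 1 - (x * w - y * z))) * hd)).resolve_right hz
  · exact sub_eq_zero.mp ((mul_eq_zero.mp (show (x - w) * ((x + w) ^ 4 - 3 * (x + w) ^ 2 + 1) = 0 by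
      linear_combination h4 + ((x - w) * (3 * (x + w) ^ 2 - 1 - (x * w - y * z))) * hd)).resolve_right hz)

section quat

variable (a b : F) (hab : a ^ 2 + b ^ 2 = -1)

/-- the quaternion `i` -/
def qi : Matrix.SpecialLinearGroup (Fin 2) F :=
  ⟨!![a, b; b, -a], by rw [Matrix.det_fin_two_of]; linear_combination -hab⟩

/-- the quaternion `j` -/
def qj : Matrix.SpecialLinearGroup (Fin 2) F := ⟨!![0, -1; 1, 0], by rw [Matrix.det_fin_two_of]; ring⟩

theorem qi_entries : (qi a b hab) 0 0 = a ∧ (qi a b hab) 0 1 = b ∧ (qi a b hab) 1 0 = b ∧ (qi a b hab) 1 1 = -a :=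
  ⟨rfl, rfl, rfl, rfl⟩

omit [Field F] in
theorem qj_entries [Field F] : (qj : Matrix.SpecialLinearGroup (Fin 2) F) 0 0 = 0 ∧ (qj : Matrix.SpecialLinearGroup (Fin 2) F) 0 1 = -1 ∧
    (qj : Matrix.SpecialLinearGroup (Fin 2) F) 1 0 = 1 ∧ (qj : Matrix.SpecialLinearGroup (Fin 2) F) 1 1 = 0 :=
  ⟨rfl, rfl, rfl, rfl⟩

include hab in
/-- two distinct commuting involutions are conjugate to the standard ones -/
theorem conj_std (h2 : (2 : F) ≠ 0) {A B : Matrix.SpecialLinearGroup (Fin 2) F} (hA : cl A * cl A = 1) (hA1 : cl A ≠ 1)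
    (hB : cl B * cl B = 1) (hB1 : cl B ≠ 1) (hAB : cl A * cl B = cl B * cl A) (hne : cl A ≠ cl B) :
    ∃ g : ProjGenLinGroup (Fin 2) F, g * cl A * g⁻¹ = cl (qi a b hab) ∧ g * cl B * g⁻¹ = cl qj := by
  have hC : cl (A * B) * cl (A * B) = 1 := by
    rw [cl_mul]
    calc cl A * cl B * (cl A * cl B) = cl A * (cl B * cl A) * cl B := by group
      _ = cl A * (cl A * cl B) * cl B := by rw [hAB]
      _ = (cl A * cl A) * (cl B * cl B) := by group
      _ = 1 := by rw [hA, hB, one_mul]
  have hC1 : cl (A * B) ≠ 1 := by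
    intro h
    rw [cl_mul] at h
    apply hne
    calc cl A = cl A * (cl B * cl B) := by rw [hB, mul_one]
      _ = (cl A * cl B) * cl B := by group
      _ = cl B := by rw [h, one_mul]
  have tA := trace_of_sq hA hA1
  have tB := trace_of_sq hB hB1
  have tC := trace_of_sq hC hC1
  obtain ⟨e1, e2, e3, e4⟩ := mul_entries A B
  rw [e1, e4] at tC
  have dA := det_eq A
  have dB := det_eq B
  rw [tA] at dA tC
  rw [tB] at dB tC
  -- the eigenvector
  have hdet : (!![A 0 0 - b * B 0 0 - a, A 0 1 - b * B 0 1; A 1 0 - b * B 1 0, -A 0 0 + b * B 0 0 - a]).det = 0 := by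
    rw [Matrix.det_fin_two_of]
    linear_combination dA + b ^ 2 * dB + b * tC + hab
  obtain ⟨w, hw, hNw⟩ := Matrix.exists_mulVec_eq_zero_iff.mpr hdet
  have E1 := congrFun hNw 0
  have E2 := congrFun hNw 1
  simp [Matrix.mulVec, dotProduct, Fin.sum_univ_two] at E1 E2
  have eA : (A : Matrix (Fin 2) (Fin 2) F) = !![A 0 0, A 0 1; A 1 0, - A 0 0] := by
    ext i j; fin_cases i <;> fin_cases j
    · rfl
    · rfl
    · rfl
    · exact tA
  have eB : (B : Matrix (Fin 2) (Fin 2) F) = !![B 0 0, B 0 1; B 1 0, - B 0 0] := by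
    ext i j; fin_cases i <;> fin_cases j
    · rfl
    · rfl
    · rfl
    · exact tB
  generalize hx : A 0 0 = x at *
  generalize hy : A 0 1 = y at *
  generalize hz : A 1 0 = z at *
  generalize hx' : B 0 0 = x' at *
  generalize hy' : B 0 1 = y' at *
  generalize hz' : B 1 0 = z' at *
  -- the base change
  have hPdet : w 0 * (z' * w 0 - x' * w 1) - w 1 * (x' * w 0 + y' * w 1) ≠ 0 := by
    intro h0
    have hdet' : ![w 0, w 1] 0 * ![x' * w 0 + y' * w 1, z' * w 0 - x' * w 1] 1 =
        ![w 0, w 1] 1 * ![x' * w 0 + y' * w 1, z' * w 0 - x' * w 1] 0 := by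
      simp only [Matrix.cons_val_zero, Matrix.cons_val_one]
      linear_combination h0
    have hw' : ![w 0, w 1] ≠ 0 := by
      intro h
      apply hw
      have := congrFun h 0
      have h1 := congrFun h 1
      ext i; fin_cases i
      · exact this
      · exact h1
    obtain ⟨l, hl⟩ := H6.SL2Tor.exists_smul_of_det hw' hdet'
    have l0 := congrFun hl 0
    have l1 := congrFun hl 1
    simp at l0 l1
    have m0 : x * w 0 + y * w 1 = (a + b * l) * w 0 := by linear_combination E1 + b * l0
    have m1 : z * w 0 - x * w 1 = (a + b * l) * w 1 := by linear_combination E2 + b * l1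
    have key : ∀ c : F, (c * w 0 = 0 ∧ c * w 1 = 0) → c = 0 := by
      rintro c ⟨h3, h4⟩
      by_contra hc
      apply hw
      ext i; fin_cases i
      · exact (mul_eq_zero.mp h3).resolve_left hc
      · exact (mul_eq_zero.mp h4).resolve_left hc
    have hl2 : l ^ 2 + 1 = 0 := by
      apply key
      constructor
      · linear_combination -l * l0 - x' * l0 - y' * l1 - w 0 * dB
      · linear_combination -l * l1 - z' * l0 + x' * l1 - w 1 * dB
    have hm2 : (a + b * l) ^ 2 + 1 = 0 := by
      apply key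
      constructor
      · linear_combination -(a + b * l) * m0 - x * m0 - y * m1 - w 0 * dA
      · linear_combination -(a + b * l) * m1 - z * m0 + x * m1 - w 1 * dA
    have hlm : 2 * (l * (a + b * l)) = 0 := by
      apply key
      constructor
      · linear_combination -(a + b * l) * l0 - x * l0 - y * l1 - l * m0 - x' * m0 - y' * m1 + w 0 * tC
      · linear_combination -(a + b * l) * l1 - z * l0 + x * l1 - l * m1 - z' * m0 + x' * m1 + w 1 * tC
    have h3 := (mul_eq_zero.mp hlm).resolve_left h2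
    rcases mul_eq_zero.mp h3 with h4 | h4
    · rw [h4] at hl2; simp at hl2
    · rw [h4] at hm2; simp at hm2
  let P : GL (Fin 2) F := Matrix.GeneralLinearGroup.mkOfDetNeZero
    !![w 0, x' * w 0 + y' * w 1; w 1, z' * w 0 - x' * w 1] (by
      rw [Matrix.det_fin_two_of]
      intro h; apply hPdet; linear_combination h)
  have hPc : (P : Matrix (Fin 2) (Fin 2) F) = !![w 0, x' * w 0 + y' * w 1; w 1, z' * w 0 - x' * w 1] := rfl
  have h1 : Matrix.SpecialLinearGroup.toGL A * P = P * Matrix.SpecialLinearGroup.toGL (qi a b hab) := by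
    apply Units.ext
    rw [Units.val_mul, Units.val_mul, hPc]
    show (A : Matrix (Fin 2) (Fin 2) F) * _ = _ * !![a, b; b, -a]
    rw [eA]
    ext i j; fin_cases i <;> fin_cases j
    · simp [Matrix.mul_apply, Fin.sum_univ_two]
      linear_combination E1
    · simp [Matrix.mul_apply, Fin.sum_univ_two]
      linear_combination -x' * E1 - y' * E2 + w 0 * tC + b * w 0 * dB
    · simp [Matrix.mul_apply, Fin.sum_univ_two]
      linear_combination E2
    · simp [Matrix.mul_apply, Fin.sum_univ_two]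
      linear_combination -z' * E1 + x' * E2 + w 1 * tC + b * w 1 * dB
  have h3 : Matrix.SpecialLinearGroup.toGL B * P = P * Matrix.SpecialLinearGroup.toGL qj := by
    apply Units.ext
    rw [Units.val_mul, Units.val_mul, hPc]
    show (B : Matrix (Fin 2) (Fin 2) F) * _ = _ * !![0, -1; 1, 0]
    rw [eB]
    ext i j; fin_cases i <;> fin_cases j
    · simp [Matrix.mul_apply, Fin.sum_univ_two]
    · simp [Matrix.mul_apply, Fin.sum_univ_two]
      linear_combination -w 0 * dB
    · simp [Matrix.mul_apply, Fin.sum_univ_two]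
      ring
    · simp [Matrix.mul_apply, Fin.sum_univ_two]
      linear_combination -w 1 * dB
  refine ⟨(ProjGenLinGroup.mk P)⁻¹, ?_, ?_⟩
  · unfold cl
    rw [inv_inv, mul_assoc, ← map_mul, h1, map_mul, inv_mul_cancel_left]
  · unfold cl
    rw [inv_inv, mul_assoc, ← map_mul, h3, map_mul, inv_mul_cancel_left]

theorem mk_eq_of_smul (Y Z : GL (Fin 2) F) (c : F) (hc : c ≠ 0)
    (h : (Y : Matrix (Fin 2) (Fin 2) F) = c • (Z : Matrix (Fin 2) (Fin 2) F)) :
    ProjGenLinGroup.mk Y = ProjGenLinGroup.mk Z := by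
  symm
  rw [ProjGenLinGroup.mk_eq_mk_iff]
  refine ⟨Units.mk0 c hc, ?_⟩
  apply Units.ext
  rw [Units.val_mul, h, Matrix.GeneralLinearGroup.coe_scalar]
  ext i j
  fin_cases i <;> fin_cases j <;> simp [Matrix.mul_apply, Fin.sum_univ_two, mul_comm]

/-- the centralizer of the standard four-group -/
theorem centralizer_std (h2 : (2 : F) ≠ 0) (y : ProjGenLinGroup (Fin 2) F)
    (hi : y * cl (qi a b hab) = cl (qi a b hab) * y) (hj : y * cl qj = cl qj * y) :
    y = 1 ∨ y = cl (qi a b hab) ∨ y = cl qj ∨ y = cl (qi a b hab) * cl qj := by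
  induction y using Matrix.ProjGenLinGroup.induction_on with | mk Y =>
  obtain ⟨p, q, r, s, hY⟩ : ∃ p q r s : F, (Y : Matrix (Fin 2) (Fin 2) F) = !![p, q; r, s] :=
    ⟨Y 0 0, Y 0 1, Y 1 0, Y 1 1, by ext i j; fin_cases i <;> fin_cases j <;> rfl⟩
  have hdetY : p * s - q * r ≠ 0 := by
    have := Y.det.ne_zero
    rw [Matrix.GeneralLinearGroup.val_det_apply, hY, Matrix.det_fin_two_of] at this
    exact this
  -- commutation relations
  have hab0 : ¬ (a = 0 ∧ b = 0) := by
    rintro ⟨rfl, rfl⟩
    simp at hab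
  unfold cl at hi hj
  rw [← map_mul, ← map_mul, ProjGenLinGroup.mk_eq_mk_iff] at hi hj
  obtain ⟨u, hu⟩ := hi
  obtain ⟨v, hv⟩ := hj
  have hu' := congrArg (fun z : GL (Fin 2) F => (z : Matrix (Fin 2) (Fin 2) F)) hu
  have hv' := congrArg (fun z : GL (Fin 2) F => (z : Matrix (Fin 2) (Fin 2) F)) hv
  simp only [Units.val_mul, hY, Matrix.GeneralLinearGroup.coe_scalar] at hu' hv'
  have hqi : ((Matrix.SpecialLinearGroup.toGL (qi a b hab) : GL (Fin 2) F) : Matrix (Fin 2) (Fin 2) F) = !![a, b; b, -a] := rfl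
  have hqj : ((Matrix.SpecialLinearGroup.toGL (qj : Matrix.SpecialLinearGroup (Fin 2) F) : GL (Fin 2) F) : Matrix (Fin 2) (Fin 2) F)
    = !![0, -1; 1, 0] := rfl
  rw [hqi] at hu'
  rw [hqj] at hv'
  have u00 := congrFun (congrFun hu' 0) 0
  have u01 := congrFun (congrFun hu' 0) 1
  have u10 := congrFun (congrFun hu' 1) 0
  have u11 := congrFun (congrFun hu' 1) 1
  have v00 := congrFun (congrFun hv' 0) 0
  have v01 := congrFun (congrFun hv' 0) 1
  have v10 := congrFun (congrFun hv' 1) 0
  have v11 := congrFun (congrFun hv' 1) 1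
  simp [Matrix.mul_apply, Fin.sum_univ_two] at u00 u01 u10 u11 v00 v01 v10 v11
  -- v = ±1
  have hv2 : ((v : F) - 1) * ((v : F) + 1) = 0 := by
    have h1 : (p * s - q * r) * (((v : F) - 1) * ((v : F) + 1)) = 0 := by
      linear_combination s * v * v01 + s * v10 - r * v * v00 - r * v11
    exact (mul_eq_zero.mp h1).resolve_left hdetY
  have hu2 : ((u : F) - 1) * ((u : F) + 1) = 0 := by
    have h1 : (p * s - q * r) * (((u : F) - 1) * ((u : F) + 1)) = 0 := by
      linear_combination (p * a + q * b) * u * u11 + (b * q + -(a * s)) * u00 - (p * b + -(q * a)) * u * u10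
        - (b * p + -(a * r)) * u01 + (p * s - q * r) * (((u : F) - 1) * ((u : F) + 1)) * hab
    exact (mul_eq_zero.mp h1).resolve_left hdetY
  rcases mul_eq_zero.mp hv2 with hv1 | hv1
  · -- v = 1
    have hv1' : (v : F) = 1 := sub_eq_zero.mp hv1
    rw [hv1'] at v00 v01 v10 v11
    simp only [mul_one] at v00 v01 v10 v11
    rcases mul_eq_zero.mp hu2 with hu1 | hu1
    · have hu1' : (u : F) = 1 := sub_eq_zero.mp hu1
      left
      have hr : r = 0 := by
        by_contra hr
        apply hab0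
        constructor
        · have : (2 * r) * a = 0 := by rw [hu1'] at u01; linear_combination u01 + 2 * a * v00 - b * v01
          exact (mul_eq_zero.mp this).resolve_left (mul_ne_zero h2 hr)
        · have : (2 * r) * b = 0 := by rw [hu1'] at u00; linear_combination -u00 + b * v00
          exact (mul_eq_zero.mp this).resolve_left (mul_ne_zero h2 hr)
      have hp : p ≠ 0 := by
        rintro rfl
        apply hdetY
        rw [hr]; ring
      rw [← map_one (ProjGenLinGroup.mk : GL (Fin 2) F →* _)]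
      apply mk_eq_of_smul Y 1 p hp
      rw [hY, hr]
      ext i j; fin_cases i <;> fin_cases j
      · simp
      · simp; rw [v00, hr, neg_zero]
      · simp
      · simp [← v01]
    · have hu1' : (u : F) = -1 := by linear_combination hu1
      right; right; left
      have hp : p = 0 := by
        by_contra hp
        apply hab0
        constructor
        · have : (2 * p) * a = 0 := by rw [hu1'] at u00; linear_combination -u00 - b * v00
          exact (mul_eq_zero.mp this).resolve_left (mul_ne_zero h2 hp)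
        · have : (2 * p) * b = 0 := by rw [hu1'] at u01; linear_combination -u01 + b * v01
          exact (mul_eq_zero.mp this).resolve_left (mul_ne_zero h2 hp)
      have hr : r ≠ 0 := by
        rintro rfl
        apply hdetY
        rw [hp]; ring
      unfold cl
      apply mk_eq_of_smul Y _ r hr
      rw [hY, hqj, hp]
      ext i j; fin_cases i <;> fin_cases j
      · simp
      · simp [v00]
      · simp
      · simp [← v01, hp]
  · have hv1' : (v : F) = -1 := by linear_combination hv1
    rw [hv1'] at v00 v01 v10 v11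
    have hqr : q = r := by linear_combination -v00
    have hsp : s = -p := by linear_combination -v01
    subst hsp
    subst hqr
    rcases mul_eq_zero.mp hu2 with hu1 | hu1
    · have hu1' : (u : F) = 1 := sub_eq_zero.mp hu1
      right; left
      rw [hu1'] at u01
      have h3 : p * b = q * a := by
        have : 2 * (p * b - q * a) = 0 := by linear_combination u01
        exact sub_eq_zero.mp ((mul_eq_zero.mp this).resolve_left h2)
      obtain ⟨c, hc1, hc2⟩ : ∃ c : F, p = c * a ∧ q = c * b := by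
        refine ⟨-(p * a + q * b), ?_, ?_⟩
        · linear_combination p * hab - b * h3
        · linear_combination q * hab + a * h3
      have hc : c ≠ 0 := by
        rintro rfl
        apply hdetY
        rw [hc1, hc2]; ring
      unfold cl
      apply mk_eq_of_smul Y _ c hc
      rw [hY, hqi, hc1, hc2]
      ext i j; fin_cases i <;> fin_cases j <;> simp
    · have hu1' : (u : F) = -1 := by linear_combination hu1
      right; right; right
      rw [hu1'] at u00
      have h3 : p * a + q * b = 0 := by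
        have : 2 * (p * a + q * b) = 0 := by linear_combination -u00
        exact (mul_eq_zero.mp this).resolve_left h2
      obtain ⟨c, hc1, hc2⟩ : ∃ c : F, p = c * b ∧ q = -(c * a) := by
        refine ⟨q * a - p * b, ?_, ?_⟩
        · linear_combination p * hab - a * h3
        · linear_combination q * hab - b * h3
      have hc : c ≠ 0 := by
        rintro rfl
        apply hdetY
        rw [hc1, hc2]; ring
      unfold cl
      rw [← map_mul]
      apply mk_eq_of_smul Y _ c hc
      rw [hY, Units.val_mul, hqi, hqj, hc1, hc2]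
      ext i j; fin_cases i <;> fin_cases j <;> simp [Matrix.mul_apply, Fin.sum_univ_two]

end quat

end H98.PGLMax3
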