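import Mathlib
import Cfsg.Agent.Lib.H98.PGLMax3

set_option autoImplicit false

/-! Subgroups `A₄`, `S₄`, `A₅` of `PSL₂(F)` (`F` of odd characteristic) in quaternion coordinates. -/

namespace H98.PGLMax4

open Matrix H98.PGLMax1 H98.PGLMax3

variable {F : Type*} [Field F] (a b : F) (hab : a ^ 2 + b ^ 2 = -1)

/-- a traceless matrix with traces in a subfield -/
theorem entries_mem (h2 : (2 : F) ≠ 0) (K : Subfield F) (ha : a ∈ K) (hb : b ∈ K) (T : Matrix.SpecialLinearGroup (Fin 2) F)
    (ht : T 1 1 = - T 0 0)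
    (h1 : (T * qi a b hab : Matrix.SpecialLinearGroup (Fin 2) F) 0 0 + (T * qi a b hab : Matrix.SpecialLinearGroup (Fin 2) F) 1 1 ∈ K) (h3 : (T * (qj : Matrix.SpecialLinearGroup (Fin 2) F)) 0 0 + (T * (qj : Matrix.SpecialLinearGroup (Fin 2) F)) 1 1 ∈ K)
    (h4 : (T * (qi a b hab * qj) : Matrix.SpecialLinearGroup (Fin 2) F) 0 0 + (T * (qi a b hab * qj) : Matrix.SpecialLinearGroup (Fin 2) F) 1 1 ∈ K) : ∀ i j, T i j ∈ K := by
  obtain ⟨e1, e2, e3, e4⟩ := mul_entries T (qi a b hab)
  obtain ⟨f1, f2, f3, f4⟩ := mul_entries T qj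
  obtain ⟨g1, g2, g3, g4⟩ := mul_entries T (qi a b hab * qj)
  obtain ⟨k1, k2, k3, k4⟩ := mul_entries (qi a b hab) qj
  obtain ⟨i1, i2, i3, i4⟩ := qi_entries a b hab
  obtain ⟨j1, j2, j3, j4⟩ := qj_entries (F := F)
  rw [e1, e4, i1, i2, i3, i4] at h1
  rw [f1, f4, j1, j2, j3, j4] at h3
  rw [g1, g4, k1, k2, k3, k4, i1, i2, i3, i4, j1, j2, j3, j4] at h4
  rw [ht] at h1 h3 h4
  generalize hα : T 0 0 * a + T 0 1 * b + (T 1 0 * b + -T 0 0 * -a) = α at h1
  generalize hβ : T 0 0 * 0 + T 0 1 * 1 + (T 1 0 * -1 + -T 0 0 * 0) = β at h3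
  generalize hγ : T 0 0 * (a * 0 + b * 1) + T 0 1 * (b * 0 + -a * 1) + (T 1 0 * (a * -1 + b * 0) + -T 0 0 * (b * -1 + -a * 0)) = γ at h4
  have h2K : (2 : F)⁻¹ ∈ K := K.inv_mem (by exact_mod_cast natCast_mem K 2)
  have e00 : T 0 0 = -(a * α + b * γ) * 2⁻¹ := by
    have : 2 * T 0 0 = -(a * α + b * γ) := by
      linear_combination -a * hα - b * hγ + 2 * T 0 0 * hab
    rw [← this]; field_simp
  have e01 : T 0 1 = (a * γ - b * α + β) * 2⁻¹ := by
    have : 2 * T 0 1 = (a * γ - b * α + β) := by
      linear_combination a * hγ - b * hα + hβ + (T 0 1 + T 1 0) * hab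
    rw [← this]; field_simp
  have e10 : T 1 0 = (a * γ - b * α - β) * 2⁻¹ := by
    have : 2 * T 1 0 = (a * γ - b * α - β) := by
      linear_combination a * hγ - b * hα - hβ + (T 0 1 + T 1 0) * hab
    rw [← this]; field_simp
  have m00 : T 0 0 ∈ K := by
    rw [e00]
    exact K.mul_mem (K.neg_mem (K.add_mem (K.mul_mem ha h1) (K.mul_mem hb h4))) h2K
  intro i j
  fin_cases i <;> fin_cases j
  · exact m00
  · show T 0 1 ∈ K
    rw [e01]
    exact K.mul_mem (K.add_mem (K.sub_mem (K.mul_mem ha h4) (K.mul_mem hb h1)) h3) h2K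
  · show T 1 0 ∈ K
    rw [e10]
    exact K.mul_mem (K.sub_mem (K.sub_mem (K.mul_mem ha h4) (K.mul_mem hb h1)) h3) h2K
  · show T 1 1 ∈ K
    rw [ht]; exact K.neg_mem m00

/-- the element `1 + i + j + k` -/
noncomputable def S0 (h2 : (2 : F) ≠ 0) : GL (Fin 2) F :=
  Matrix.GeneralLinearGroup.mkOfDetNeZero !![1 + a + b, b - 1 - a; b + 1 - a, 1 - a - b] (by
    rw [Matrix.det_fin_two_of]
    have : (1 + a + b) * (1 - a - b) - (b - 1 - a) * (b + 1 - a) = 2 * 2 := by linear_combination -2 * hab
    rw [this]; exact mul_ne_zero h2 h2)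

/-- the element `i + j` -/
noncomputable def S1 (h2 : (2 : F) ≠ 0) : GL (Fin 2) F :=
  Matrix.GeneralLinearGroup.mkOfDetNeZero !![a, b - 1; b + 1, -a] (by
    rw [Matrix.det_fin_two_of]
    have : a * -a - (b - 1) * (b + 1) = 2 := by linear_combination -hab
    rw [this]; exact h2)

theorem S0_coe (h2 : (2 : F) ≠ 0) : (S0 a b hab h2 : Matrix (Fin 2) (Fin 2) F) = !![1 + a + b, b - 1 - a; b + 1 - a, 1 - a - b] := rfl

theorem S1_coe (h2 : (2 : F) ≠ 0) : (S1 a b hab h2 : Matrix (Fin 2) (Fin 2) F) = !![a, b - 1; b + 1, -a] := rfl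

theorem toGL_qi : ((Matrix.SpecialLinearGroup.toGL (qi a b hab) : GL (Fin 2) F) : Matrix (Fin 2) (Fin 2) F) = !![a, b; b, -a] := rfl

theorem toGL_qj : ((Matrix.SpecialLinearGroup.toGL (qj : Matrix.SpecialLinearGroup (Fin 2) F) : GL (Fin 2) F) : Matrix (Fin 2) (Fin 2) F)
    = !![0, -1; 1, 0] := rfl

theorem S0_i (h2 : (2 : F) ≠ 0) : ProjGenLinGroup.mk (S0 a b hab h2) * cl (qi a b hab) = cl qj * ProjGenLinGroup.mk (S0 a b hab h2) := by
  unfold cl
  rw [← map_mul, ← map_mul]
  congr 1
  apply Units.ext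
  rw [Units.val_mul, Units.val_mul, S0_coe, toGL_qi, toGL_qj]
  ext i j; fin_cases i <;> fin_cases j
  · simp [Matrix.mul_apply, Fin.sum_univ_two]; first | ring1 | linear_combination hab | linear_combination -hab | linear_combination 2 * hab | linear_combination -2 * hab
  · simp [Matrix.mul_apply, Fin.sum_univ_two]; first | ring1 | linear_combination hab | linear_combination -hab | linear_combination 2 * hab | linear_combination -2 * hab
  · simp [Matrix.mul_apply, Fin.sum_univ_two]; first | ring1 | linear_combination hab | linear_combination -hab | linear_combination 2 * hab | linear_combination -2 * hab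
  · simp [Matrix.mul_apply, Fin.sum_univ_two]; first | ring1 | linear_combination hab | linear_combination -hab | linear_combination 2 * hab | linear_combination -2 * hab

theorem S0_j (h2 : (2 : F) ≠ 0) : ProjGenLinGroup.mk (S0 a b hab h2) * cl qj =
    (cl (qi a b hab) * cl qj) * ProjGenLinGroup.mk (S0 a b hab h2) := by
  unfold cl
  rw [← map_mul, ← map_mul, ← map_mul]
  congr 1
  apply Units.ext
  rw [Units.val_mul, Units.val_mul, Units.val_mul, S0_coe, toGL_qi, toGL_qj]
  ext i j; fin_cases i <;> fin_cases j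
  · simp [Matrix.mul_apply, Fin.sum_univ_two]; first | ring1 | linear_combination hab | linear_combination -hab | linear_combination 2 * hab | linear_combination -2 * hab
  · simp [Matrix.mul_apply, Fin.sum_univ_two]; first | ring1 | linear_combination hab | linear_combination -hab | linear_combination 2 * hab | linear_combination -2 * hab
  · simp [Matrix.mul_apply, Fin.sum_univ_two]; first | ring1 | linear_combination hab | linear_combination -hab | linear_combination 2 * hab | linear_combination -2 * hab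
  · simp [Matrix.mul_apply, Fin.sum_univ_two]; first | ring1 | linear_combination hab | linear_combination -hab | linear_combination 2 * hab | linear_combination -2 * hab

theorem S1_i (h2 : (2 : F) ≠ 0) : ProjGenLinGroup.mk (S1 a b hab h2) * cl (qi a b hab) = cl qj * ProjGenLinGroup.mk (S1 a b hab h2) := by
  unfold cl
  rw [← map_mul, ← map_mul]
  congr 1
  apply Units.ext
  rw [Units.val_mul, Units.val_mul, S1_coe, toGL_qi, toGL_qj]
  ext i j; fin_cases i <;> fin_cases j
  · simp [Matrix.mul_apply, Fin.sum_univ_two]; first | ring1 | linear_combination hab | linear_combination -hab | linear_combination 2 * hab | linear_combination -2 * hab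
  · simp [Matrix.mul_apply, Fin.sum_univ_two]; first | ring1 | linear_combination hab | linear_combination -hab | linear_combination 2 * hab | linear_combination -2 * hab
  · simp [Matrix.mul_apply, Fin.sum_univ_two]; first | ring1 | linear_combination hab | linear_combination -hab | linear_combination 2 * hab | linear_combination -2 * hab
  · simp [Matrix.mul_apply, Fin.sum_univ_two]; first | ring1 | linear_combination hab | linear_combination -hab | linear_combination 2 * hab | linear_combination -2 * hab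

theorem S1_j (h2 : (2 : F) ≠ 0) : ProjGenLinGroup.mk (S1 a b hab h2) * cl qj = cl (qi a b hab) * ProjGenLinGroup.mk (S1 a b hab h2) := by
  unfold cl
  rw [← map_mul, ← map_mul]
  congr 1
  apply Units.ext
  rw [Units.val_mul, Units.val_mul, S1_coe, toGL_qi, toGL_qj]
  ext i j; fin_cases i <;> fin_cases j
  · simp [Matrix.mul_apply, Fin.sum_univ_two]; first | ring1 | linear_combination hab | linear_combination -hab | linear_combination 2 * hab | linear_combination -2 * hab
  · simp [Matrix.mul_apply, Fin.sum_univ_two]; first | ring1 | linear_combination hab | linear_combination -hab | linear_combination 2 * hab | linear_combination -2 * hab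
  · simp [Matrix.mul_apply, Fin.sum_univ_two]; first | ring1 | linear_combination hab | linear_combination -hab | linear_combination 2 * hab | linear_combination -2 * hab
  · simp [Matrix.mul_apply, Fin.sum_univ_two]; first | ring1 | linear_combination hab | linear_combination -hab | linear_combination 2 * hab | linear_combination -2 * hab

theorem S0_mem_XX (h2 : (2 : F) ≠ 0) (K : Subfield F) (ha : a ∈ K) (hb : b ∈ K) : ProjGenLinGroup.mk (S0 a b hab h2) ∈ XX K := by
  apply mk_mem_XX
  rw [S0_coe]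
  have h1 := K.one_mem
  intro i j
  fin_cases i <;> fin_cases j
  · exact K.add_mem (K.add_mem h1 ha) hb
  · exact K.sub_mem (K.sub_mem hb h1) ha
  · exact K.sub_mem (K.add_mem hb h1) ha
  · exact K.sub_mem (K.sub_mem h1 ha) hb

theorem S1_mem_XX (h2 : (2 : F) ≠ 0) (K : Subfield F) (ha : a ∈ K) (hb : b ∈ K) : ProjGenLinGroup.mk (S1 a b hab h2) ∈ XX K := by
  apply mk_mem_XX
  rw [S1_coe]
  have h1 := K.one_mem
  intro i j
  fin_cases i <;> fin_cases j
  · exact ha
  · exact K.sub_mem hb h1
  · exact K.add_mem hb h1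
  · exact K.neg_mem ha

theorem qi_mem_XX (K : Subfield F) (ha : a ∈ K) (hb : b ∈ K) : cl (qi a b hab) ∈ XX K := by
  apply mk_mem_XX
  rw [toGL_qi]
  intro i j
  fin_cases i <;> fin_cases j
  · exact ha
  · exact hb
  · exact hb
  · exact K.neg_mem ha

theorem qj_mem_XX (K : Subfield F) : cl qj ∈ XX K := by
  apply mk_mem_XX
  rw [toGL_qj]
  intro i j
  fin_cases i <;> fin_cases j
  · exact K.zero_mem
  · exact K.neg_mem K.one_mem
  · exact K.one_mem
  · exact K.zero_mem

theorem cl_mem_LL (A : Matrix.SpecialLinearGroup (Fin 2) F) : cl A ∈ LL F := ⟨A, rfl⟩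

theorem S0_mem_LL (h2 : (2 : F) ≠ 0) : ProjGenLinGroup.mk (S0 a b hab h2) ∈ LL F := by
  rw [mk_mem_LL, Matrix.GeneralLinearGroup.val_det_apply, S0_coe, Matrix.det_fin_two_of]
  exact ⟨2, by linear_combination -2 * hab⟩

theorem S1_mem_LL (h2 : (2 : F) ≠ 0) : ProjGenLinGroup.mk (S1 a b hab h2) ∈ LL F ↔ IsSquare (2 : F) := by
  rw [mk_mem_LL, Matrix.GeneralLinearGroup.val_det_apply, S1_coe, Matrix.det_fin_two_of]
  have : a * -a - (b - 1) * (b + 1) = 2 := by linear_combination -hab
  rw [this]

end H98.PGLMax4
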