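import Mathlib
import Cfsg.Agent.Lib.H98.PGLMax4

set_option autoImplicit false

/-! Subgroups `A₄`, `S₄`, `A₅` of `PSL₂(F)`: conjugacy into standard position. -/

namespace H98.PGLMax5

open Matrix H98.PGLMax1 H98.PGLMax3 H98.PGLMax4

theorem A4_data : ∃ v1 v2 c : alternatingGroup (Fin 4), v1 * v1 = 1 ∧ v1 ≠ 1 ∧ v2 * v2 = 1 ∧ v2 ≠ 1 ∧ v1 * v2 = v2 * v1 ∧
    v1 ≠ v2 ∧ c * v1 * c⁻¹ = v2 ∧ c * v2 * c⁻¹ = v1 * v2 ∧
    (∀ x, ∃ i j : Fin 2, ∃ k : Fin 3, x = v1 ^ (i : ℕ) * v2 ^ (j : ℕ) * c ^ (k : ℕ)) ∧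
    (∀ x : alternatingGroup (Fin 4), x * v1 * x⁻¹ = v2 → x * v2 * x⁻¹ ≠ v1) := by
  refine ⟨⟨Equiv.swap 0 1 * Equiv.swap 2 3, by rw [Equiv.Perm.mem_alternatingGroup]; decide⟩, ⟨Equiv.swap 0 2 * Equiv.swap 1 3, by rw [Equiv.Perm.mem_alternatingGroup]; decide⟩,
    ⟨Equiv.swap 1 2 * Equiv.swap 2 3, by rw [Equiv.Perm.mem_alternatingGroup]; decide⟩, ?_⟩
  decide

set_option maxRecDepth 10000 in
theorem S4_data : ∃ v1 v2 c s f1 f2 : Equiv.Perm (Fin 4), v1 * v1 = 1 ∧ v1 ≠ 1 ∧ v2 * v2 = 1 ∧ v2 ≠ 1 ∧ v1 * v2 = v2 * v1 ∧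
    v1 ≠ v2 ∧ c * v1 * c⁻¹ = v2 ∧ c * v2 * c⁻¹ = v1 * v2 ∧ s * v1 * s⁻¹ = v2 ∧ s * v2 * s⁻¹ = v1 ∧ f1 * f1 = v1 ∧ f2 * f2 = v2 ∧
    (∀ x, ∃ i j l : Fin 2, ∃ k : Fin 3, x = v1 ^ (i : ℕ) * v2 ^ (j : ℕ) * c ^ (k : ℕ) * s ^ (l : ℕ)) := by
  refine ⟨Equiv.swap 0 1 * Equiv.swap 2 3, Equiv.swap 0 2 * Equiv.swap 1 3,
    Equiv.swap 1 2 * Equiv.swap 2 3, Equiv.swap 1 2, Equiv.swap 0 2 * Equiv.swap 2 1 * Equiv.swap 1 3,
    Equiv.swap 0 1 * Equiv.swap 1 2 * Equiv.swap 2 3, ?_⟩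
  decide

set_option maxRecDepth 10000 in
theorem A5_data : ∃ v1 v2 c t : alternatingGroup (Fin 5), v1 * v1 = 1 ∧ v1 ≠ 1 ∧ v2 * v2 = 1 ∧ v2 ≠ 1 ∧ v1 * v2 = v2 * v1 ∧
    v1 ≠ v2 ∧ c * v1 * c⁻¹ = v2 ∧ c * v2 * c⁻¹ = v1 * v2 ∧ t * t = 1 ∧ t ≠ 1 ∧ (t * v1) * (t * v1) * (t * v1) = 1 ∧ t * v1 ≠ 1 ∧
    ((t * v2) * (t * v2)) * ((t * v2) * (t * v2)) * (t * v2) = 1 ∧ t * v2 ≠ 1 ∧
    ((t * (v1 * v2)) * (t * (v1 * v2))) * ((t * (v1 * v2)) * (t * (v1 * v2))) * (t * (v1 * v2)) = 1 ∧ t * (v1 * v2) ≠ 1 := by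
  refine ⟨⟨Equiv.swap 0 1 * Equiv.swap 2 3, by rw [Equiv.Perm.mem_alternatingGroup]; decide⟩, ⟨Equiv.swap 0 2 * Equiv.swap 1 3, by rw [Equiv.Perm.mem_alternatingGroup]; decide⟩,
    ⟨Equiv.swap 1 2 * Equiv.swap 2 3, by rw [Equiv.Perm.mem_alternatingGroup]; decide⟩, ⟨Equiv.swap 0 1 * Equiv.swap 3 4, by rw [Equiv.Perm.mem_alternatingGroup]; decide⟩, ?_⟩
  decide

variable {F : Type*} [Field F] (a b : F) (hab : a ^ 2 + b ^ 2 = -1) (h2 : (2 : F) ≠ 0)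

/-- the standard `A₄` -/
noncomputable def T0 : Subgroup (ProjGenLinGroup (Fin 2) F) :=
  Subgroup.closure {cl (qi a b hab), cl qj, ProjGenLinGroup.mk (S0 a b hab h2)}

/-- the standard `S₄` -/
noncomputable def O0 : Subgroup (ProjGenLinGroup (Fin 2) F) :=
  Subgroup.closure {cl (qi a b hab), cl qj, ProjGenLinGroup.mk (S0 a b hab h2), ProjGenLinGroup.mk (S1 a b hab h2)}

theorem qi_mem_T0 : cl (qi a b hab) ∈ T0 a b hab h2 := Subgroup.subset_closure (by simp)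
theorem qj_mem_T0 : cl qj ∈ T0 a b hab h2 := Subgroup.subset_closure (by simp)
theorem S0_mem_T0 : ProjGenLinGroup.mk (S0 a b hab h2) ∈ T0 a b hab h2 := Subgroup.subset_closure (by simp)
theorem S1_mem_O0 : ProjGenLinGroup.mk (S1 a b hab h2) ∈ O0 a b hab h2 := Subgroup.subset_closure (by simp)
theorem T0_le_O0 : T0 a b hab h2 ≤ O0 a b hab h2 := by
  apply Subgroup.closure_mono
  intro x hx
  simp only [Set.mem_insert_iff, Set.mem_singleton_iff] at hx ⊢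
  tauto

theorem T0_le (H : Subgroup (ProjGenLinGroup (Fin 2) F)) (h1 : cl (qi a b hab) ∈ H) (h3 : cl qj ∈ H)
    (h4 : ProjGenLinGroup.mk (S0 a b hab h2) ∈ H) : T0 a b hab h2 ≤ H := by
  unfold T0
  rw [Subgroup.closure_le]
  intro x hx
  simp only [Set.mem_insert_iff, Set.mem_singleton_iff] at hx
  rcases hx with rfl | rfl | rfl <;> assumption

theorem O0_le (H : Subgroup (ProjGenLinGroup (Fin 2) F)) (h1 : T0 a b hab h2 ≤ H)
    (h4 : ProjGenLinGroup.mk (S1 a b hab h2) ∈ H) : O0 a b hab h2 ≤ H := by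
  unfold O0
  rw [Subgroup.closure_le]
  intro x hx
  simp only [Set.mem_insert_iff, Set.mem_singleton_iff] at hx
  rcases hx with rfl | rfl | rfl | rfl
  · exact h1 (qi_mem_T0 a b hab h2)
  · exact h1 (qj_mem_T0 a b hab h2)
  · exact h1 (S0_mem_T0 a b hab h2)
  · assumption

theorem T0_le_LL : T0 a b hab h2 ≤ LL F :=
  T0_le a b hab h2 _ (cl_mem_LL _) (cl_mem_LL _) (S0_mem_LL a b hab h2)

theorem O0_le_XX (K : Subfield F) (ha : a ∈ K) (hb : b ∈ K) : O0 a b hab h2 ≤ XX K :=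
  O0_le a b hab h2 _ (T0_le a b hab h2 _ (qi_mem_XX a b hab K ha hb) (qj_mem_XX K) (S0_mem_XX a b hab h2 K ha hb))
    (S1_mem_XX a b hab h2 K ha hb)

/-- an element acting as `s` on the standard four-group lies in every subgroup containing it and `s` -/
theorem coset_std {s c v w : ProjGenLinGroup (Fin 2) F} (hs1 : s * cl (qi a b hab) = v * s) (hs2 : s * cl qj = w * s)
    (hc1 : c * cl (qi a b hab) * c⁻¹ = v) (hc2 : c * cl qj * c⁻¹ = w) (h2 : (2 : F) ≠ 0) :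
    ∃ y, (∀ H : Subgroup (ProjGenLinGroup (Fin 2) F), cl (qi a b hab) ∈ H → cl qj ∈ H → y ∈ H) ∧ c = s * y := by
  refine ⟨s⁻¹ * c, ?_, by group⟩
  intro H h1 h3
  have hc1' : c * cl (qi a b hab) = v * c := by rw [← hc1]; group
  have hc2' : c * cl qj = w * c := by rw [← hc2]; group
  have k1 : (s⁻¹ * c) * cl (qi a b hab) = cl (qi a b hab) * (s⁻¹ * c) := by
    rw [mul_assoc, hc1', ← mul_assoc, ← mul_assoc]
    congr 1
    rw [inv_mul_eq_iff_eq_mul, ← mul_assoc, hs1]; group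
  have k2 : (s⁻¹ * c) * cl qj = cl qj * (s⁻¹ * c) := by
    rw [mul_assoc, hc2', ← mul_assoc, ← mul_assoc]
    congr 1
    rw [inv_mul_eq_iff_eq_mul, ← mul_assoc, hs2]; group
  rcases centralizer_std a b hab h2 _ k1 k2 with h | h | h | h
  · rw [h]; exact H.one_mem
  · rw [h]; exact h1
  · rw [h]; exact h3
  · rw [h]; exact H.mul_mem h1 h3

/-- the data of a `V₄` with an element of order three -/
theorem std_of_data {v1 v2 : ProjGenLinGroup (Fin 2) F} (hv1 : v1 ∈ LL F) (hv2 : v2 ∈ LL F)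
    (r1 : v1 * v1 = 1) (r2 : v1 ≠ 1) (r3 : v2 * v2 = 1) (r4 : v2 ≠ 1) (r5 : v1 * v2 = v2 * v1) (r6 : v1 ≠ v2) (h2 : (2 : F) ≠ 0) :
    ∃ g : ProjGenLinGroup (Fin 2) F, g * v1 * g⁻¹ = cl (qi a b hab) ∧ g * v2 * g⁻¹ = cl qj := by
  obtain ⟨A, rfl⟩ := hv1
  obtain ⟨B, rfl⟩ := hv2
  exact conj_std a b hab h2 r1 r2 r3 r4 r5 r6

include h2 in
theorem conj_A4 (M : Subgroup (ProjGenLinGroup (Fin 2) F)) (hM : M ≤ LL F) (e : M ≃* alternatingGroup (Fin 4)) :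
    ∃ g : ProjGenLinGroup (Fin 2) F, M.map (MulAut.conj g).toMonoidHom = T0 a b hab h2 := by
  obtain ⟨v1, v2, c, r1, r2, r3, r4, r5, r6, r7, r8, hgen, -⟩ := A4_data
  have inj : ∀ x y : alternatingGroup (Fin 4), x ≠ y → (e.symm x : ProjGenLinGroup (Fin 2) F) ≠ e.symm y :=
    fun x y h h' => h (e.symm.injective (Subtype.ext h'))
  have tr : ∀ x y : alternatingGroup (Fin 4), x = y → (e.symm x : ProjGenLinGroup (Fin 2) F) = e.symm y :=
    fun x y h => by rw [h]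
  have s1 := tr _ _ r1; have s2 := inj _ _ r2; have s3 := tr _ _ r3; have s4 := inj _ _ r4; have s5 := tr _ _ r5
  have s6 := inj _ _ r6; have s7 := tr _ _ r7; have s8 := tr _ _ r8
  simp only [map_mul, map_one, map_inv, Subgroup.coe_mul, Subgroup.coe_one, Subgroup.coe_inv] at s1 s2 s3 s4 s5 s6 s7 s8
  obtain ⟨g, g1, g2⟩ := std_of_data a b hab (hM (e.symm v1).2) (hM (e.symm v2).2) s1 s2 s3 s4 s5 s6 h2
  refine ⟨g, ?_⟩
  set m1 : ProjGenLinGroup (Fin 2) F := (e.symm v1 : ProjGenLinGroup (Fin 2) F) with hm1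
  set m2 : ProjGenLinGroup (Fin 2) F := (e.symm v2 : ProjGenLinGroup (Fin 2) F) with hm2
  set mc : ProjGenLinGroup (Fin 2) F := (e.symm c : ProjGenLinGroup (Fin 2) F) with hmc
  have c1 : (g * mc * g⁻¹) * cl (qi a b hab) * (g * mc * g⁻¹)⁻¹ = cl qj := by
    rw [← g1, ← g2, ← s7]; group
  have c2 : (g * mc * g⁻¹) * cl qj * (g * mc * g⁻¹)⁻¹ = cl (qi a b hab) * cl qj := by
    have : g * (m1 * m2) * g⁻¹ = (g * m1 * g⁻¹) * (g * m2 * g⁻¹) := by group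
    rw [← g1, ← g2, ← this, ← s8]; group
  obtain ⟨y, hy, hcy⟩ := coset_std a b hab (S0_i a b hab h2) (S0_j a b hab h2) c1 c2 h2
  apply le_antisymm
  · rintro x ⟨m, hm, rfl⟩
    obtain ⟨i, j, k, hw⟩ := hgen (e ⟨m, hm⟩)
    have hm' : m = m1 ^ (i : ℕ) * m2 ^ (j : ℕ) * mc ^ (k : ℕ) := by
      have := congrArg (fun z => ((e.symm z : M) : ProjGenLinGroup (Fin 2) F)) hw
      simpa using this
    show g * m * g⁻¹ ∈ _
    have hm'' : g * m * g⁻¹ = (g * m1 * g⁻¹) ^ (i : ℕ) * (g * m2 * g⁻¹) ^ (j : ℕ) * (g * mc * g⁻¹) ^ (k : ℕ) := by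
      rw [hm', conj_pow, conj_pow, conj_pow]; group
    rw [hm'', g1, g2, hcy]
    exact Subgroup.mul_mem _ (Subgroup.mul_mem _ (Subgroup.pow_mem _ (qi_mem_T0 a b hab h2) _) (Subgroup.pow_mem _ (qj_mem_T0 a b hab h2) _))
      (Subgroup.pow_mem _ (Subgroup.mul_mem _ (S0_mem_T0 a b hab h2) (hy _ (qi_mem_T0 a b hab h2) (qj_mem_T0 a b hab h2))) _)
  · have k1 : cl (qi a b hab) ∈ M.map (MulAut.conj g).toMonoidHom := ⟨m1, (e.symm v1).2, g1⟩
    have k2 : cl qj ∈ M.map (MulAut.conj g).toMonoidHom := ⟨m2, (e.symm v2).2, g2⟩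
    have k3 : g * mc * g⁻¹ ∈ M.map (MulAut.conj g).toMonoidHom := ⟨mc, (e.symm c).2, rfl⟩
    apply T0_le a b hab h2 _ k1 k2
    have := Subgroup.mul_mem _ k3 (Subgroup.inv_mem _ (hy _ k1 k2))
    rwa [hcy, mul_inv_cancel_right] at this

include h2 in
theorem conj_S4 (M : Subgroup (ProjGenLinGroup (Fin 2) F)) (e : M ≃* Equiv.Perm (Fin 4)) :
    ∃ g : ProjGenLinGroup (Fin 2) F, M.map (MulAut.conj g).toMonoidHom = O0 a b hab h2 := by
  obtain ⟨v1, v2, c, s, f1, f2, r1, r2, r3, r4, r5, r6, r7, r8, r9, r10, r11, r12, hgen⟩ := S4_data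
  have inj : ∀ x y : Equiv.Perm (Fin 4), x ≠ y → (e.symm x : ProjGenLinGroup (Fin 2) F) ≠ e.symm y :=
    fun x y h h' => h (e.symm.injective (Subtype.ext h'))
  have tr : ∀ x y : Equiv.Perm (Fin 4), x = y → (e.symm x : ProjGenLinGroup (Fin 2) F) = e.symm y :=
    fun x y h => by rw [h]
  have s1 := tr _ _ r1; have s2 := inj _ _ r2; have s3 := tr _ _ r3; have s4 := inj _ _ r4; have s5 := tr _ _ r5
  have s6 := inj _ _ r6; have s7 := tr _ _ r7; have s8 := tr _ _ r8; have s9 := tr _ _ r9; have s10 := tr _ _ r10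
  have s11 := tr _ _ r11; have s12 := tr _ _ r12
  simp only [map_mul, map_one, map_inv, Subgroup.coe_mul, Subgroup.coe_one, Subgroup.coe_inv] at s1 s2 s3 s4 s5 s6 s7 s8 s9 s10 s11 s12
  have L1 : (e.symm v1 : ProjGenLinGroup (Fin 2) F) ∈ LL F := by rw [← s11]; exact sq_mem_LL _
  have L2 : (e.symm v2 : ProjGenLinGroup (Fin 2) F) ∈ LL F := by rw [← s12]; exact sq_mem_LL _
  obtain ⟨g, g1, g2⟩ := std_of_data a b hab L1 L2 s1 s2 s3 s4 s5 s6 h2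
  refine ⟨g, ?_⟩
  set m1 : ProjGenLinGroup (Fin 2) F := (e.symm v1 : ProjGenLinGroup (Fin 2) F) with hm1
  set m2 : ProjGenLinGroup (Fin 2) F := (e.symm v2 : ProjGenLinGroup (Fin 2) F) with hm2
  set mc : ProjGenLinGroup (Fin 2) F := (e.symm c : ProjGenLinGroup (Fin 2) F) with hmc
  set ms : ProjGenLinGroup (Fin 2) F := (e.symm s : ProjGenLinGroup (Fin 2) F) with hms
  have c1 : (g * mc * g⁻¹) * cl (qi a b hab) * (g * mc * g⁻¹)⁻¹ = cl qj := by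
    rw [← g1, ← g2, ← s7]; group
  have c2 : (g * mc * g⁻¹) * cl qj * (g * mc * g⁻¹)⁻¹ = cl (qi a b hab) * cl qj := by
    have : g * (m1 * m2) * g⁻¹ = (g * m1 * g⁻¹) * (g * m2 * g⁻¹) := by group
    rw [← g1, ← g2, ← this, ← s8]; group
  have d1 : (g * ms * g⁻¹) * cl (qi a b hab) * (g * ms * g⁻¹)⁻¹ = cl qj := by
    rw [← g1, ← g2, ← s9]; group
  have d2 : (g * ms * g⁻¹) * cl qj * (g * ms * g⁻¹)⁻¹ = cl (qi a b hab) := by
    rw [← g1, ← g2, ← s10]; group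
  obtain ⟨y, hy, hcy⟩ := coset_std a b hab (S0_i a b hab h2) (S0_j a b hab h2) c1 c2 h2
  obtain ⟨z, hz, hsz⟩ := coset_std a b hab (S1_i a b hab h2) (S1_j a b hab h2) d1 d2 h2
  have q1 := T0_le_O0 a b hab h2 (qi_mem_T0 a b hab h2)
  have q2 := T0_le_O0 a b hab h2 (qj_mem_T0 a b hab h2)
  have q3 := T0_le_O0 a b hab h2 (S0_mem_T0 a b hab h2)
  have q4 := S1_mem_O0 a b hab h2
  apply le_antisymm
  · rintro x ⟨m, hm, rfl⟩
    obtain ⟨i, j, l, k, hw⟩ := hgen (e ⟨m, hm⟩)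
    have hm' : m = m1 ^ (i : ℕ) * m2 ^ (j : ℕ) * mc ^ (k : ℕ) * ms ^ (l : ℕ) := by
      have := congrArg (fun z => ((e.symm z : M) : ProjGenLinGroup (Fin 2) F)) hw
      simpa using this
    show g * m * g⁻¹ ∈ _
    have hm'' : g * m * g⁻¹ = (g * m1 * g⁻¹) ^ (i : ℕ) * (g * m2 * g⁻¹) ^ (j : ℕ) * (g * mc * g⁻¹) ^ (k : ℕ) *
        (g * ms * g⁻¹) ^ (l : ℕ) := by
      rw [hm', conj_pow, conj_pow, conj_pow, conj_pow]; group
    rw [hm'', g1, g2, hcy, hsz]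
    exact Subgroup.mul_mem _ (Subgroup.mul_mem _ (Subgroup.mul_mem _ (Subgroup.pow_mem _ q1 _) (Subgroup.pow_mem _ q2 _))
      (Subgroup.pow_mem _ (Subgroup.mul_mem _ q3 (hy _ q1 q2)) _)) (Subgroup.pow_mem _ (Subgroup.mul_mem _ q4 (hz _ q1 q2)) _)
  · have k1 : cl (qi a b hab) ∈ M.map (MulAut.conj g).toMonoidHom := ⟨m1, (e.symm v1).2, g1⟩
    have k2 : cl qj ∈ M.map (MulAut.conj g).toMonoidHom := ⟨m2, (e.symm v2).2, g2⟩
    have k3 : g * mc * g⁻¹ ∈ M.map (MulAut.conj g).toMonoidHom := ⟨mc, (e.symm c).2, rfl⟩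
    have k4 : g * ms * g⁻¹ ∈ M.map (MulAut.conj g).toMonoidHom := ⟨ms, (e.symm s).2, rfl⟩
    apply O0_le a b hab h2 _ (T0_le a b hab h2 _ k1 k2 _)
    · have := Subgroup.mul_mem _ k4 (Subgroup.inv_mem _ (hz _ k1 k2))
      rwa [hsz, mul_inv_cancel_right] at this
    · have := Subgroup.mul_mem _ k3 (Subgroup.inv_mem _ (hy _ k1 k2))
      rwa [hcy, mul_inv_cancel_right] at this

/-- a subgroup of `A₅` with elements of orders 2, 3, 5 is everything -/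
theorem A5_top (H : Subgroup (alternatingGroup (Fin 5))) {t u w : alternatingGroup (Fin 5)} (ht : t ∈ H) (hu : u ∈ H) (hw : w ∈ H)
    (h1 : t * t = 1) (h1' : t ≠ 1) (h3 : u * u * u = 1) (h3' : u ≠ 1) (h5 : (w * w) * (w * w) * w = 1) (h5' : w ≠ 1) : H = ⊤ := by
  classical
  have hG : Nat.card (alternatingGroup (Fin 5)) = 60 := by
    rw [Nat.card_eq_fintype_card]; decide
  have o2 : orderOf t = 2 := orderOf_eq_prime (by rw [pow_two]; exact h1) h1'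
  have o3 : orderOf u = 3 := orderOf_eq_prime (by rw [pow_succ, pow_two]; exact h3) h3'
  haveI : Fact (Nat.Prime 5) := ⟨by norm_num⟩
  have o5 : orderOf w = 5 := orderOf_eq_prime (by
    simp only [pow_succ, pow_zero, one_mul]
    simpa only [mul_assoc] using h5) h5'
  have d2 := Subgroup.orderOf_dvd_natCard H ht
  have d3 := Subgroup.orderOf_dvd_natCard H hu
  have d5 := Subgroup.orderOf_dvd_natCard H hw
  rw [o2] at d2
  rw [o3] at d3
  rw [o5] at d5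
  have h30 : 30 ∣ Nat.card H := by
    have h6 : 2 * 3 ∣ Nat.card H := Nat.Coprime.mul_dvd_of_dvd_of_dvd (by norm_num) d2 d3
    exact Nat.Coprime.mul_dvd_of_dvd_of_dvd (by norm_num : Nat.Coprime 6 5) h6 d5
  obtain ⟨k, hk⟩ := h30
  have hmul := Subgroup.card_mul_index H
  rw [hG, hk] at hmul
  have hki : k * H.index = 2 := by
    have : 30 * (k * H.index) = 30 * 2 := by rw [← mul_assoc, hmul]
    exact Nat.eq_of_mul_eq_mul_left (by norm_num) this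
  have hdi : H.index ∣ 2 := ⟨k, by rw [mul_comm]; exact hki.symm⟩
  rcases (Nat.dvd_prime Nat.prime_two).mp hdi with h | h
  · exact Subgroup.index_eq_one.mp h
  · exfalso
    haveI := Subgroup.normal_of_index_eq_two h
    rcases (alternatingGroup.isSimpleGroup_five).eq_bot_or_eq_top_of_normal H inferInstance with h' | h'
    · rw [h', Subgroup.index_bot, hG] at h; omega
    · rw [h', Subgroup.index_top] at h; omega

include h2 in
theorem conj_A5 (M : Subgroup (ProjGenLinGroup (Fin 2) F)) (hM : M ≤ LL F) (e : M ≃* alternatingGroup (Fin 5)) (K : Subfield F)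
    (ha : a ∈ K) (hb : b ∈ K) (hK : ∀ x : F, x ^ 4 - 3 * x ^ 2 + 1 = 0 → x ∈ K) :
    ∃ g : ProjGenLinGroup (Fin 2) F, T0 a b hab h2 ≤ M.map (MulAut.conj g).toMonoidHom ∧ M.map (MulAut.conj g).toMonoidHom ≤ XX K := by
  obtain ⟨v1, v2, c, t, r1, r2, r3, r4, r5, r6, r7, r8, r9, r10, r11, r12, r13, r14, r15, r16⟩ := A5_data
  have inj : ∀ x y : alternatingGroup (Fin 5), x ≠ y → (e.symm x : ProjGenLinGroup (Fin 2) F) ≠ e.symm y :=
    fun x y h h' => h (e.symm.injective (Subtype.ext h'))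
  have tr : ∀ x y : alternatingGroup (Fin 5), x = y → (e.symm x : ProjGenLinGroup (Fin 2) F) = e.symm y :=
    fun x y h => by rw [h]
  have s1 := tr _ _ r1; have s2 := inj _ _ r2; have s3 := tr _ _ r3; have s4 := inj _ _ r4; have s5 := tr _ _ r5
  have s6 := inj _ _ r6; have s7 := tr _ _ r7; have s8 := tr _ _ r8; have s9 := tr _ _ r9; have s10 := inj _ _ r10
  have s11 := tr _ _ r11; have s12 := inj _ _ r12; have s13 := tr _ _ r13; have s14 := inj _ _ r14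
  have s15 := tr _ _ r15; have s16 := inj _ _ r16
  simp only [map_mul, map_one, map_inv, Subgroup.coe_mul, Subgroup.coe_one, Subgroup.coe_inv] at s1 s2 s3 s4 s5 s6 s7 s8 s9 s10 s11 s12 s13 s14 s15 s16
  obtain ⟨g, g1, g2⟩ := std_of_data a b hab (hM (e.symm v1).2) (hM (e.symm v2).2) s1 s2 s3 s4 s5 s6 h2
  refine ⟨g, ?_⟩
  set m1 : ProjGenLinGroup (Fin 2) F := (e.symm v1 : ProjGenLinGroup (Fin 2) F) with hm1
  set m2 : ProjGenLinGroup (Fin 2) F := (e.symm v2 : ProjGenLinGroup (Fin 2) F) with hm2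
  set mc : ProjGenLinGroup (Fin 2) F := (e.symm c : ProjGenLinGroup (Fin 2) F) with hmc
  set mt : ProjGenLinGroup (Fin 2) F := (e.symm t : ProjGenLinGroup (Fin 2) F) with hmt
  have c1 : (g * mc * g⁻¹) * cl (qi a b hab) * (g * mc * g⁻¹)⁻¹ = cl qj := by
    rw [← g1, ← g2, ← s7]; group
  have c2 : (g * mc * g⁻¹) * cl qj * (g * mc * g⁻¹)⁻¹ = cl (qi a b hab) * cl qj := by
    have : g * (m1 * m2) * g⁻¹ = (g * m1 * g⁻¹) * (g * m2 * g⁻¹) := by group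
    rw [← g1, ← g2, ← this, ← s8]; group
  obtain ⟨y, hy, hcy⟩ := coset_std a b hab (S0_i a b hab h2) (S0_j a b hab h2) c1 c2 h2
  have k1 : cl (qi a b hab) ∈ M.map (MulAut.conj g).toMonoidHom := ⟨m1, (e.symm v1).2, g1⟩
  have k2 : cl qj ∈ M.map (MulAut.conj g).toMonoidHom := ⟨m2, (e.symm v2).2, g2⟩
  have k3 : g * mc * g⁻¹ ∈ M.map (MulAut.conj g).toMonoidHom := ⟨mc, (e.symm c).2, rfl⟩
  refine ⟨?_, ?_⟩
  · apply T0_le a b hab h2 _ k1 k2
    have := Subgroup.mul_mem _ k3 (Subgroup.inv_mem _ (hy _ k1 k2))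
    rwa [hcy, mul_inv_cancel_right] at this
  -- the element `t`
  have ht : g * mt * g⁻¹ ∈ XX K := by
    have htL : g * mt * g⁻¹ ∈ LL F := (conj_mem_LL g).mpr (hM (e.symm t).2)
    obtain ⟨T, hT'⟩ := htL
    have hT : cl T = g * mt * g⁻¹ := hT'
    have cne : ∀ x : ProjGenLinGroup (Fin 2) F, x ≠ 1 → g * x * g⁻¹ ≠ 1 := by
      intro x hx h; apply hx
      rw [mul_inv_eq_one] at h
      exact mul_left_cancel (h.trans (mul_one g).symm)
    have cm : ∀ x z : ProjGenLinGroup (Fin 2) F, g * (x * z) * g⁻¹ = (g * x * g⁻¹) * (g * z * g⁻¹) := by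
      intro x z; group
    have ce : ∀ x : ProjGenLinGroup (Fin 2) F, x = 1 → g * x * g⁻¹ = 1 := by
      intro x hx; rw [hx]; group
    have w9 := ce _ s9; have w11 := ce _ s11; have w13 := ce _ s13; have w15 := ce _ s15
    have w10 := cne _ s10; have w12 := cne _ s12; have w14 := cne _ s14; have w16 := cne _ s16
    simp only [cm, g1, g2, ← hT, ← cl_mul] at w9 w10 w11 w12 w13 w14 w15 w16
    simp only [cl_mul] at w9 w11 w13 w15
    simp only [← cl_mul] at w9 w11 w13 w15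
    have t1 : T 1 1 = - T 0 0 := trace_of_sq (by rw [← cl_mul]; exact w9) w10
    have t2 := trace_of_cube (A := T * qi a b hab) (by rw [← cl_mul, ← cl_mul]; exact w11) w12
    have t3 := trace_of_five (A := T * qj) (by rw [← cl_mul, ← cl_mul, ← cl_mul]; exact w13) w14
    have t4 := trace_of_five (A := T * (qi a b hab * qj)) (by rw [← cl_mul, ← cl_mul, ← cl_mul]; exact w15) w16
    rw [← hT]
    apply mk_mem_XX
    apply entries_mem a b hab h2 K ha hb T t1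
    · rw [pow_two] at t2
      rcases mul_self_eq_one_iff.mp t2 with h | h
      · rw [h]; exact K.one_mem
      · rw [h]; exact K.neg_mem K.one_mem
    · exact hK _ t3
    · exact hK _ t4
  let H : Subgroup (alternatingGroup (Fin 5)) :=
    (XX K).comap ((MulAut.conj g).toMonoidHom.comp (M.subtype.comp e.symm.toMonoidHom))
  have q1 : cl (qi a b hab) ∈ XX K := qi_mem_XX a b hab K ha hb
  have q2 : (cl qj : ProjGenLinGroup (Fin 2) F) ∈ XX K := qj_mem_XX K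
  have e1 : v1 ∈ H := by
    show g * m1 * g⁻¹ ∈ XX K
    rw [g1]; exact q1
  have e2 : v2 ∈ H := by
    show g * m2 * g⁻¹ ∈ XX K
    rw [g2]; exact q2
  have e3 : t ∈ H := ht
  have htop : H = ⊤ := A5_top H e1 (H.mul_mem e3 e1) (H.mul_mem e3 e2) r1 r2 r11 r12 r13 r14
  rintro x ⟨m, hm, rfl⟩
  have : e ⟨m, hm⟩ ∈ H := by rw [htop]; trivial
  have h5 : g * ((e.symm (e ⟨m, hm⟩) : M) : ProjGenLinGroup (Fin 2) F) * g⁻¹ ∈ XX K := this
  rw [MulEquiv.symm_apply_apply] at h5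
  exact h5

end H98.PGLMax5
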