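import Mathlib
import Cfsg.Agent.Lib.H98.PGLMax2
import Cfsg.Agent.Lib.H98.PGLMax5
import Cfsg.Agent.S4039

set_option autoImplicit false

/-! Maximal subgroups of `PGL₂(F)` and `PSL₂(F)`: general arguments. -/

namespace H98.PGLMax6

open MulAction Matrix OnePoint H98.Moebius H98.DicksonField H98.DicksonMoeb H98.DicksonNum H98.DicksonAbs H98.DicksonPGL
  H98.Dickson H98.DicksonPSL H98.DicksonIdx H98.DicksonDih H98.DicksonMax H98.DicksonSub H98.PGLMax1 H98.PGLMax2 H98.PGLMax3
  H98.PGLMax4 H98.PGLMax5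
open scoped H98.Moebius

variable {F : Type*} [Field F] [Finite F]

/-- conjugates -/
abbrev cj (g : ProjGenLinGroup (Fin 2) F) (P : Subgroup (ProjGenLinGroup (Fin 2) F)) : Subgroup (ProjGenLinGroup (Fin 2) F) :=
  P.map (MulAut.conj g).toMonoidHom

theorem card_cj (g : ProjGenLinGroup (Fin 2) F) (P : Subgroup (ProjGenLinGroup (Fin 2) F)) : Nat.card (cj g P) = Nat.card P :=
  Nat.card_congr (P.equivMapOfInjective _ (MulAut.conj g).injective).symm.toEquiv

theorem cj_covBy (g : ProjGenLinGroup (Fin 2) F) {P Q : Subgroup (ProjGenLinGroup (Fin 2) F)} (hQ : Q.Normal) (h : P ⋖ Q) :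
    cj g P ⋖ Q := by
  have h1 : cj g Q = Q := by
    apply le_antisymm
    · rintro x ⟨y, hy, rfl⟩
      exact hQ.conj_mem y hy g
    · intro x hx
      refine ⟨g⁻¹ * x * g, ?_, ?_⟩
      · have := hQ.conj_mem x hx g⁻¹
        rwa [inv_inv] at this
      · show g * (g⁻¹ * x * g) * g⁻¹ = x
        group
  have h2 := (apply_covBy_apply_iff (MulEquiv.mapSubgroup (MulAut.conj g))).mpr h
  have h3 : MulEquiv.mapSubgroup (MulAut.conj g) P = cj g P := rfl
  have h4 : MulEquiv.mapSubgroup (MulAut.conj g) Q = cj g Q := rfl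
  rw [h3, h4, h1] at h2
  exact h2

theorem eq_of_covBy {P Q R : Subgroup (ProjGenLinGroup (Fin 2) F)} (h : P ⋖ Q) (h1 : P ≤ R) (h2 : R ≤ Q) : R = P ∨ R = Q :=
  h.wcovBy.eq_or_eq h1 h2

/-- an abelian maximal subgroup is impossible -/
theorem not_comm (h4 : 4 ≤ Nat.card F) {P Q : Subgroup (ProjGenLinGroup (Fin 2) F)} (hQ : LL F ≤ Q) (h : P ⋖ Q)
    (hc : ∀ x ∈ P, ∀ y ∈ P, x * y = y * x) : False := by
  have hmax : IsCoatom (P.subgroupOf Q) := by
    rw [← covBy_top_iff]
    refine ⟨?_, ?_⟩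
    · rw [lt_top_iff_ne_top, ne_eq, Subgroup.subgroupOf_eq_top]
      exact not_le_of_gt h.lt
    · intro C h1 h2
      have e1 : C.map Q.subtype ≤ Q := by
        rintro x ⟨y, -, rfl⟩; exact y.2
      have e2 : P ≤ C.map Q.subtype := by
        intro x hx
        exact ⟨⟨x, h.le hx⟩, h1.le (by rw [Subgroup.mem_subgroupOf]; exact hx), rfl⟩
      rcases eq_of_covBy h e2 e1 with h3 | h3
      · apply not_le_of_gt h1
        intro x hx
        rw [Subgroup.mem_subgroupOf, ← h3]
        exact ⟨x, hx, rfl⟩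
      · apply not_le_of_gt h2
        intro x _
        have : (x : ProjGenLinGroup (Fin 2) F) ∈ C.map Q.subtype := by rw [h3]; exact x.2
        obtain ⟨y, hy, hyx⟩ := this
        have : y = x := Subtype.ext hyx
        rwa [← this]
  haveI hcomm : IsMulCommutative (P.subgroupOf Q) := by
    refine ⟨⟨fun x y => ?_⟩⟩
    apply Subtype.ext
    apply Subtype.ext
    exact hc _ (Subgroup.mem_subgroupOf.mp x.2) _ (Subgroup.mem_subgroupOf.mp y.2)
  letI : CommGroup (P.subgroupOf Q) := { (inferInstance : Group (P.subgroupOf Q)) with mul_comm := fun x y => hcomm.is_comm.comm x y }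
  have hnil : Group.IsNilpotent (P.subgroupOf Q) := CommGroup.isNilpotent
  have hcl : Group.nilpotencyClass (P.subgroupOf Q) ≤ 2 := le_trans CommGroup.nilpotencyClass_le_one (by norm_num)
  have hsol := Cfsg.Agent.S4039.result (P.subgroupOf Q) hmax hnil hcl
  apply not_solvable_LL (F := F) h4
  exact solvable_of_solvable_injective (f := Subgroup.inclusion hQ) (Subgroup.inclusion_injective hQ)

/-- no large commutative subgroup is normalized by `PSL₂` -/
theorem card_le_of_normal (h4 : 4 ≤ Nat.card F) (N : Subgroup (ProjGenLinGroup (Fin 2) F)) (hN : LL F ≤ Subgroup.normalizer (N : Set _))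
    (hc : ∀ x ∈ N, ∀ y ∈ N, x * y = y * x) : Nat.card N ≤ 2 := by
  haveI := simple_LL (F := F) h4
  have hnorm : (N.subgroupOf (LL F)).Normal := by
    constructor
    intro x hx g
    rw [Subgroup.mem_subgroupOf] at hx ⊢
    exact (Subgroup.mem_normalizer_iff.mp (hN g.2) _).mp hx
  rcases hnorm.eq_bot_or_eq_top with h | h
  · have h1 := card_le_inf N
    have h2 : N ⊓ LL F = ⊥ := by
      rw [eq_bot_iff]
      rintro x ⟨hx, hx'⟩
      have : (⟨x, hx'⟩ : LL F) ∈ N.subgroupOf (LL F) := by rw [Subgroup.mem_subgroupOf]; exact hx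
      rw [h] at this
      exact congrArg Subtype.val (Subgroup.mem_bot.mp this)
    rw [h2, Subgroup.card_bot, mul_one] at h1
    exact h1.trans (Nat.le_of_dvd (by norm_num) (Nat.gcd_dvd_left _ _))
  · exfalso
    rw [Subgroup.subgroupOf_eq_top] at h
    apply not_solvable_LL (F := F) h4
    rw [← IsSimpleGroup.comm_iff_isSolvable]
    intro x y
    exact Subtype.ext (hc _ (h x.2) _ (h y.2))

theorem order_LL_dvd (p : ℕ) [Fact p.Prime] [CharP F p] : ∀ x ∈ LL F, ¬ p ∣ orderOf x →
    (orderOf x ∣ (Nat.card F - 1) / Nat.gcd 2 (Nat.card F - 1) ∨ orderOf x ∣ (Nat.card F + 1) / Nat.gcd 2 (Nat.card F - 1)) := by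
  intro x hx hxp
  rw [← range_toPGL] at hx
  obtain ⟨y, rfl⟩ := hx
  rw [orderOf_injective _ ProjectiveSpecialLinearGroup.toPGL_injective] at hxp ⊢
  rcases H46.PSL2Orders.order_trichotomy (F := F) p y with h1 | h1 | h1
  · left
    rcases (Nat.dvd_prime (Fact.out : p.Prime)).mp h1 with h2 | h2
    · rw [h2]; exact one_dvd _
    · exact absurd (by rw [h2]) hxp
  · exact Or.inl h1
  · exact Or.inr h1

/-- the centralizer of a rotation in a dihedral maximal subgroup -/
theorem dihedral_aux (h4 : 4 ≤ Nat.card F) {P Q : Subgroup (ProjGenLinGroup (Fin 2) F)} (hQ : LL F ≤ Q) (h : P ⋖ Q)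
    {k : ℕ} (hk : 3 ≤ k) (e : P ≃* DihedralGroup k) :
    ∃ c ∈ P, orderOf c = k ∧ Nat.card (Subgroup.centralizer ({c} : Set (ProjGenLinGroup (Fin 2) F)) ⊓ Q : Subgroup _) = k ∧
      Subgroup.normalizer (Subgroup.zpowers c : Set (ProjGenLinGroup (Fin 2) F)) ⊓ Q = P := by
  haveI : NeZero k := ⟨by omega⟩
  let c : ProjGenLinGroup (Fin 2) F := (e.symm (DihedralGroup.r 1) : ProjGenLinGroup (Fin 2) F)
  have hcP : c ∈ P := (e.symm (DihedralGroup.r 1)).2
  have hoc : orderOf c = k := by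
    show orderOf ((e.symm (DihedralGroup.r 1) : P) : ProjGenLinGroup (Fin 2) F) = k
    rw [Subgroup.orderOf_coe, MulEquiv.orderOf_eq, DihedralGroup.orderOf_r_one]
  have hrot : ∀ i : ZMod k, ((e.symm (DihedralGroup.r i) : P) : ProjGenLinGroup (Fin 2) F) ∈ Subgroup.zpowers c := by
    intro i
    refine ⟨(i.val : ℤ), ?_⟩
    show c ^ ((i.val : ℤ)) = _
    rw [zpow_natCast]
    show ((e.symm (DihedralGroup.r 1) : P) : ProjGenLinGroup (Fin 2) F) ^ _ = _
    rw [← Subgroup.coe_pow, ← map_pow, DihedralGroup.r_one_pow, ZMod.natCast_zmod_val]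
  have hrot' : ∀ x ∈ Subgroup.zpowers c, ∃ i : ZMod k, ((e.symm (DihedralGroup.r i) : P) : ProjGenLinGroup (Fin 2) F) = x := by
    rintro x ⟨n, rfl⟩
    refine ⟨(n : ZMod k), ?_⟩
    show _ = c ^ n
    show _ = ((e.symm (DihedralGroup.r 1) : P) : ProjGenLinGroup (Fin 2) F) ^ n
    rw [← Subgroup.coe_zpow, ← map_zpow, DihedralGroup.r_one_zpow]
  -- normalizer
  have hPn : P ≤ Subgroup.normalizer (Subgroup.zpowers c : Set (ProjGenLinGroup (Fin 2) F)) := by
    intro x hx
    rw [Subgroup.mem_normalizer_iff]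
    have key : ∀ y ∈ P, ∀ z ∈ Subgroup.zpowers c, y * z * y⁻¹ ∈ Subgroup.zpowers c := by
      intro y hy z hz
      obtain ⟨i, hi⟩ := hrot' z hz
      have hy' : ((e.symm (e ⟨y, hy⟩) : P) : ProjGenLinGroup (Fin 2) F) = y := by rw [MulEquiv.symm_apply_apply]
      rw [← hi, ← hy', ← Subgroup.coe_mul, ← Subgroup.coe_inv, ← Subgroup.coe_mul, ← map_mul, ← map_inv, ← map_mul]
      rcases hd : e ⟨y, hy⟩ with j | j
      · rw [DihedralGroup.r_mul_r, DihedralGroup.inv_r, DihedralGroup.r_mul_r]; exact hrot _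
      · rw [DihedralGroup.sr_mul_r, DihedralGroup.inv_sr, DihedralGroup.sr_mul_sr]; exact hrot _
    intro z
    constructor
    · exact key x hx z
    · intro hz
      have := key x⁻¹ (P.inv_mem hx) _ hz
      have e1 : x⁻¹ * (x * z * x⁻¹) * x⁻¹⁻¹ = z := by group
      rwa [e1] at this
  have hNP : Subgroup.normalizer (Subgroup.zpowers c : Set (ProjGenLinGroup (Fin 2) F)) ⊓ Q = P := by
    rcases eq_of_covBy h (le_inf hPn h.le) inf_le_right with h1 | h1
    · exact h1
    · exfalso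
      have h2 : LL F ≤ Subgroup.normalizer (Subgroup.zpowers c : Set _) := hQ.trans (inf_eq_right.mp h1)
      have h3 := card_le_of_normal h4 _ h2 (fun x hx y hy => by
        obtain ⟨m, rfl⟩ := hx
        obtain ⟨n, rfl⟩ := hy
        exact (Commute.refl c).zpow_zpow m n)
      rw [Nat.card_zpowers, hoc] at h3
      omega
  refine ⟨c, hcP, hoc, ?_, hNP⟩
  have hCZ : Subgroup.centralizer ({c} : Set (ProjGenLinGroup (Fin 2) F)) ⊓ Q = Subgroup.zpowers c := by
    apply le_antisymm
    · rintro x ⟨hx, hxQ⟩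
      have hxN : x ∈ Subgroup.normalizer (Subgroup.zpowers c : Set (ProjGenLinGroup (Fin 2) F)) := by
        rw [Subgroup.mem_normalizer_iff]
        have key : ∀ z ∈ Subgroup.zpowers c, x * z * x⁻¹ = z := by
          rintro z ⟨n, rfl⟩
          have h1 : Commute x c := Subgroup.mem_centralizer_singleton_iff.mp hx
          rw [mul_inv_eq_iff_eq_mul]
          exact (h1.zpow_right n)
        intro z
        constructor
        · intro hz; rw [key z hz]; exact hz
        · intro hz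
          have h1 := key _ hz
          have h2 : x * z * x⁻¹ = z := by
            have h3 : x * (x * z * x⁻¹) * x⁻¹ = x * z * x⁻¹ := h1
            have h4 : x⁻¹ * (x * (x * z * x⁻¹) * x⁻¹) * x = x⁻¹ * (x * z * x⁻¹) * x := by rw [h3]
            have h5 : x⁻¹ * (x * (x * z * x⁻¹) * x⁻¹) * x = x * z * x⁻¹ := by group
            have h6 : x⁻¹ * (x * z * x⁻¹) * x = z := by group
            rw [h5, h6] at h4; exact h4
          rwa [h2] at hz
      have hxP : x ∈ P := by rw [← hNP]; exact ⟨hxN, hxQ⟩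
      have hx' : ((e.symm (e ⟨x, hxP⟩) : P) : ProjGenLinGroup (Fin 2) F) = x := by rw [MulEquiv.symm_apply_apply]
      rcases hd : e ⟨x, hxP⟩ with j | j
      · rw [← hx', hd]; exact hrot j
      · exfalso
        have h1 := Subgroup.mem_centralizer_singleton_iff.mp hx
        have h2 : (⟨x, hxP⟩ : P) * e.symm (DihedralGroup.r 1) = e.symm (DihedralGroup.r 1) * ⟨x, hxP⟩ := Subtype.ext h1
        have h3 := congrArg e h2
        rw [map_mul, map_mul, hd, MulEquiv.apply_symm_apply, DihedralGroup.sr_mul_r, DihedralGroup.r_mul_sr] at h3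
        have h5 := DihedralGroup.sr.inj h3
        have h6 : ((2 : ℕ) : ZMod k) = 0 := by
          push_cast
          linear_combination h5
        rw [ZMod.natCast_eq_zero_iff] at h6
        exact absurd (Nat.le_of_dvd (by norm_num) h6) (by omega)
    · rintro x ⟨n, rfl⟩
      refine ⟨?_, ?_⟩
      · show c ^ n ∈ Subgroup.centralizer ({c} : Set (ProjGenLinGroup (Fin 2) F))
        rw [Subgroup.mem_centralizer_singleton_iff]
        exact ((Commute.refl c).zpow_left n)
      · exact Q.zpow_mem (h.le hcP) n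
  rw [hCZ, Nat.card_zpowers, hoc]

/-- dihedral maximal subgroups of `PGL₂` -/
theorem dihedral_top (p : ℕ) [Fact p.Prime] [CharP F p] (h4 : 4 ≤ Nat.card F) {P : Subgroup (ProjGenLinGroup (Fin 2) F)}
    (h : P ⋖ ⊤) {k : ℕ} (hk : 3 ≤ k) (hpk : ¬ p ∣ k) (e : P ≃* DihedralGroup k) :
    k = Nat.card F - 1 ∨ k = Nat.card F + 1 := by
  obtain ⟨c, hc, hoc, hcard, -⟩ := dihedral_aux h4 le_top h hk e
  have h1 := card_centralizer_ge c
  rw [inf_top_eq] at hcard
  rw [hcard] at h1
  have h2 := order_pgl_dvd p c (by rw [hoc]; exact hpk)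
  rw [hoc] at h2
  rcases h2 with h2 | h2
  · left; exact le_antisymm (Nat.le_of_dvd (by omega) h2) h1
  · right
    obtain ⟨m, hm⟩ := h2
    have hm0 : m ≠ 0 := by rintro rfl; omega
    have hm1 : m = 1 := by
      by_contra hne
      have : 2 ≤ m := by omega
      have := Nat.mul_le_mul_left k this
      omega
    rw [hm1, mul_one] at hm
    exact hm.symm

/-- dihedral maximal subgroups of `PSL₂` -/
theorem dihedral_LL (p : ℕ) [Fact p.Prime] [CharP F p] (h4 : 4 ≤ Nat.card F) {P : Subgroup (ProjGenLinGroup (Fin 2) F)}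
    (h : P ⋖ LL F) {k : ℕ} (hk : 3 ≤ k) (hpk : ¬ p ∣ k) (e : P ≃* DihedralGroup k) :
    Nat.gcd 2 (Nat.card F - 1) * k = Nat.card F - 1 ∨ Nat.gcd 2 (Nat.card F - 1) * k = Nat.card F + 1 := by
  obtain ⟨c, hc, hoc, hcard, -⟩ := dihedral_aux h4 le_rfl h hk e
  have h1 := card_centralizer_ge c
  have h1' := card_le_inf (Subgroup.centralizer ({c} : Set (ProjGenLinGroup (Fin 2) F)))
  rw [hcard] at h1'
  have h2 := order_LL_dvd p c (h.le hc) (by rw [hoc]; exact hpk)
  rw [hoc] at h2
  have hd1 : Nat.gcd 2 (Nat.card F - 1) ∣ Nat.card F - 1 := Nat.gcd_dvd_right _ _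
  have hd2 : Nat.gcd 2 (Nat.card F - 1) ∣ 2 := Nat.gcd_dvd_left _ _
  have hd3 : Nat.gcd 2 (Nat.card F - 1) ∣ Nat.card F + 1 := by
    have : Nat.card F + 1 = (Nat.card F - 1) + 2 := by omega
    rw [this]; exact Nat.dvd_add hd1 hd2
  set d := Nat.gcd 2 (Nat.card F - 1) with hd
  have hd0 : 0 < d := Nat.gcd_pos_of_pos_left _ (by norm_num)
  rcases h2 with h2 | h2
  · left
    obtain ⟨t, ht⟩ := hd1
    rw [ht, Nat.mul_div_cancel_left _ hd0] at h2
    have h3 : d * k ∣ Nat.card F - 1 := by rw [ht]; exact Nat.mul_dvd_mul_left d h2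
    exact le_antisymm (Nat.le_of_dvd (by omega) h3) (h1.trans h1')
  · right
    obtain ⟨t, ht⟩ := hd3
    rw [ht, Nat.mul_div_cancel_left _ hd0] at h2
    have h3 : d * k ∣ Nat.card F + 1 := by rw [ht]; exact Nat.mul_dvd_mul_left d h2
    obtain ⟨m, hm⟩ := h3
    have hle := h1.trans h1'
    have hm0 : m ≠ 0 := by rintro rfl; omega
    have hm1 : m = 1 := by
      by_contra hne
      have : 2 ≤ m := by omega
      have := Nat.mul_le_mul_left (d * k) this
      omega
    rw [hm1, mul_one] at hm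
    exact hm.symm

end H98.PGLMax6
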