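import Mathlib
import Cfsg.Agent.Lib.H98.PGLMax6

set_option autoImplicit false

/-! Maximal subgroups of `PGL₂(F)` and `PSL₂(F)`: subfields and fixed points. -/

namespace H98.PGLMax7

open MulAction Matrix OnePoint H98.Moebius H98.DicksonField H98.DicksonMoeb H98.DicksonNum H98.DicksonAbs H98.DicksonPGL
  H98.Dickson H98.DicksonPSL H98.DicksonIdx H98.DicksonDih H98.DicksonMax H98.DicksonSub H98.PGLMax1 H98.PGLMax2 H98.PGLMax3
  H98.PGLMax4 H98.PGLMax5 H98.PGLMax6
open scoped H98.Moebius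

variable {F : Type*} [Field F] [Finite F]

/-- a maximal subgroup fixing a point -/
theorem fixed_case [DecidableEq F] {P Q : Subgroup (ProjGenLinGroup (Fin 2) F)} (hQ : LL F ≤ Q) (h : P ⋖ Q)
    (x₀ : OnePoint F) (hfix : ∀ g ∈ P, g • x₀ = x₀) : (Nat.card F + 1) * Nat.card P = Nat.card Q := by
  have htr : ∀ x y : OnePoint F, ∃ g ∈ Q, g • x = y := by
    intro x y
    obtain ⟨g, hg⟩ := psl_transitive x
    obtain ⟨k, hk⟩ := psl_transitive y
    refine ⟨ιP F (k * g⁻¹), hQ ?_, ?_⟩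
    · rw [← range_toPGL]; exact ⟨_, rfl⟩
    · rw [map_mul, map_inv, mul_smul, ← hg, inv_smul_smul, hk]
  let R : Subgroup (ProjGenLinGroup (Fin 2) F) := stabilizer (ProjGenLinGroup (Fin 2) F) x₀ ⊓ Q
  have hPR : P ≤ R := le_inf (fun g hg => hfix g hg) h.le
  have hR : R = P := by
    rcases eq_of_covBy h hPR inf_le_right with h1 | h1
    · exact h1
    · exfalso
      obtain ⟨y, hy⟩ : ∃ y : OnePoint F, y ≠ x₀ := by
        cases x₀ with
        | infty => exact ⟨((0 : F) : OnePoint F), OnePoint.coe_ne_infty 0⟩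
        | coe z => exact ⟨∞, OnePoint.infty_ne_coe z⟩
      obtain ⟨g, hg, hgy⟩ := htr x₀ y
      have : g ∈ R := by rw [h1]; exact hg
      exact hy (hgy.symm.trans this.1)
  have h1 := H98.DicksonCount.orb_stab (G := Q) x₀
  have h2 : orbit Q x₀ = Set.univ := by
    rw [Set.eq_univ_iff_forall]
    intro y
    obtain ⟨g, hg, hgy⟩ := htr x₀ y
    exact ⟨⟨g, hg⟩, hgy⟩
  rw [h2, Nat.card_univ, card_onePoint] at h1
  rw [← h1]
  congr 1
  rw [← hR]
  refine Nat.card_congr ⟨fun g => ⟨⟨g.1, g.2.2⟩, g.2.1⟩, fun g => ⟨g.1.1, g.2, g.1.2⟩, fun _ => rfl, fun _ => rfl⟩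

theorem gcd_le_two (n : ℕ) : Nat.gcd 2 n ≤ 2 := Nat.le_of_dvd (by norm_num) (Nat.gcd_dvd_left _ _)

theorem card_lt_of_ne_top {K : Subfield F} (hK : K ≠ ⊤) : Nat.card K ^ 2 ≤ Nat.card F := by
  have h1 := card_pow_finrank K
  have hk : 1 < Nat.card K := Finite.one_lt_card
  have hm : 2 ≤ Module.finrank K F := by
    by_contra hlt
    have h2 : Module.finrank K F ≠ 0 := by
      intro h0
      rw [h0, pow_zero] at h1
      have : 1 < Nat.card F := Finite.one_lt_card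
      omega
    have h3 : Module.finrank K F = 1 := by omega
    rw [h3, pow_one] at h1
    apply hK
    apply subfield_eq_of_card
    rw [h1]
    exact (Nat.card_congr Subfield.topEquiv.toEquiv).symm
  rw [← h1]
  exact Nat.pow_le_pow_right (by omega) hm

theorem num_big (k q : ℕ) (hk : 2 ≤ k) (hq : k ^ 2 ≤ q) :
    6 * ((k + 1) * (k * (k - 1))) ≤ (q + 1) * (q * (q - 1)) := by
  obtain ⟨j, rfl⟩ : ∃ j, k = j + 2 := ⟨k - 2, by omega⟩
  have e1 : j + 2 - 1 = j + 1 := by omega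
  rw [e1]
  calc 6 * ((j + 2 + 1) * ((j + 2) * (j + 1))) ≤ ((j + 2) ^ 2 + 1) * ((j + 2) ^ 2 * ((j + 2) ^ 2 - 1)) := by
        have e2 : (j + 2) ^ 2 - 1 = (j + 3) * (j + 1) := by
          have : (j + 2) ^ 2 = (j + 3) * (j + 1) + 1 := by ring
          omega
        rw [e2]
        have e3 : 6 * ((j + 2 + 1) * ((j + 2) * (j + 1))) = 6 * ((j + 2) * ((j + 3) * (j + 1))) := by ring
        rw [e3]
        have e4 : ((j + 2) ^ 2 + 1) * ((j + 2) ^ 2 * ((j + 3) * (j + 1))) =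
          (((j + 2) ^ 2 + 1) * (j + 2)) * ((j + 2) * ((j + 3) * (j + 1))) := by ring
        rw [e4]
        apply Nat.mul_le_mul_right
        nlinarith [Nat.zero_le j]
    _ ≤ _ := by
        apply Nat.mul_le_mul (by omega) (Nat.mul_le_mul hq (by omega))

/-- not both `LL ≤ XX K` and `K ≠ ⊤` -/
theorem LL_not_le_XX {K : Subfield F} (hK : K ≠ ⊤) : ¬ LL F ≤ XX K := by
  intro h
  have h1 := Subgroup.card_le_of_le h
  rw [card_XX] at h1
  have h2 := card_LL (F := F)
  have h3 := num_big (Nat.card K) (Nat.card F) Finite.one_lt_card (card_lt_of_ne_top hK)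
  have h4 := gcd_le_two (Nat.card F - 1)
  have h5 : (Nat.card F + 1) * (Nat.card F * (Nat.card F - 1)) ≤ 2 * ((Nat.card K + 1) * (Nat.card K * (Nat.card K - 1))) := by
    rw [← h2]; exact Nat.mul_le_mul h4 h1
  have h6 : 0 < (Nat.card K + 1) * (Nat.card K * (Nat.card K - 1)) := by
    have : 1 < Nat.card K := Finite.one_lt_card
    have : 0 < Nat.card K - 1 := by omega
    positivity
  omega

theorem field_red {P Q : Subgroup (ProjGenLinGroup (Fin 2) F)} (hQn : Q.Normal) (hQ : LL F ≤ Q) (h : P ⋖ Q)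
    (K : Subfield F) (g : ProjGenLinGroup (Fin 2) F) (hle : cj g P ≤ XX K) :
    K = ⊤ ∨ (Nat.card K + 1) * (Nat.card K * (Nat.card K - 1)) ≤ 2 * Nat.card P := by
  by_cases hK : K = ⊤
  · exact Or.inl hK
  right
  have h1 := cj_covBy g hQn h
  rcases eq_of_covBy h1 (le_inf hle h1.le : cj g P ≤ XX K ⊓ Q) inf_le_right with h2 | h2
  · have h3 : YY K ≤ cj g P := by
      rw [← h2]
      exact le_inf (YY_le_XX K) ((YY_le_LL K).trans hQ)
    have h4 := Subgroup.card_le_of_le h3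
    rw [card_cj] at h4
    rw [← card_YY]
    exact Nat.mul_le_mul (gcd_le_two _) h4
  · exact absurd (hQ.trans (inf_eq_right.mp h2)) (LL_not_le_XX hK)

/-- elements fixed by the `n`-th power of Frobenius -/
def Kn (F : Type*) [Field F] (p : ℕ) [Fact p.Prime] [CharP F p] (n : ℕ) : Subfield F :=
  (iterateFrobenius F p n).eqLocusField (RingHom.id F)

omit [Finite F] in
theorem mem_Kn (p : ℕ) [Fact p.Prime] [CharP F p] (n : ℕ) (x : F) : x ∈ Kn F p n ↔ x ^ p ^ n = x := Iff.rfl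

theorem card_le_of_Kn (p : ℕ) [hp : Fact p.Prime] [CharP F p] (n : ℕ) (hn : n ≠ 0) (h : Kn F p n = ⊤) : Nat.card F ≤ p ^ n := by
  classical
  letI := Fintype.ofFinite F
  have hq1 : 1 < p ^ n := Nat.one_lt_pow hn hp.out.one_lt
  let P : Polynomial F := Polynomial.X ^ (p ^ n) - Polynomial.X
  have hP0 : P ≠ 0 := FiniteField.X_pow_card_sub_X_ne_zero F hq1
  have hdeg : P.natDegree = p ^ n := FiniteField.X_pow_card_sub_X_natDegree_eq F hq1
  have h1 : (Finset.univ : Finset F) ⊆ P.roots.toFinset := by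
    intro x _
    rw [Multiset.mem_toFinset, Polynomial.mem_roots hP0]
    have : x ∈ Kn F p n := by rw [h]; trivial
    rw [mem_Kn] at this
    simp [P, this]
  calc Nat.card F = (Finset.univ : Finset F).card := by rw [Nat.card_eq_fintype_card]; rfl
    _ ≤ P.roots.toFinset.card := Finset.card_le_card h1
    _ ≤ Multiset.card P.roots := Multiset.toFinset_card_le _
    _ ≤ P.natDegree := Polynomial.card_roots' P
    _ = _ := hdeg

omit [Finite F] in
theorem cast_mem (p : ℕ) [hp : Fact p.Prime] [CharP F p] (K : Subfield F) (x : ZMod p) : ZMod.castHom (dvd_refl p) F x ∈ K := by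
  have : x = ((x.val : ℕ) : ZMod p) := (ZMod.natCast_zmod_val x).symm
  rw [this, map_natCast]
  exact natCast_mem K _

omit [Finite F] in
theorem exists_ab (p : ℕ) [hp : Fact p.Prime] [CharP F p] :
    ∃ a b : F, a ^ 2 + b ^ 2 = -1 ∧ ∀ K : Subfield F, a ∈ K ∧ b ∈ K := by
  obtain ⟨a, b, hab⟩ := ZMod.sq_add_sq p (-1)
  refine ⟨ZMod.castHom (dvd_refl p) F a, ZMod.castHom (dvd_refl p) F b, ?_, fun K => ⟨cast_mem p K a, cast_mem p K b⟩⟩
  rw [← map_pow, ← map_pow, ← map_add, hab, map_neg, map_one]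

omit [Finite F] in
theorem roots_two (p : ℕ) [hp : Fact p.Prime] [CharP F p] (hp2 : p ≠ 2) (x : F) (hx : x ^ 4 - 3 * x ^ 2 + 1 = 0) : x ∈ Kn F p 2 := by
  rw [mem_Kn]
  have hfac : ∃ ε : F, ε ^ p = ε ∧ x ^ 2 - ε * x - 1 = 0 := by
    have : (x ^ 2 - 1 * x - 1) * (x ^ 2 - (-1) * x - 1) = 0 := by linear_combination hx
    rcases mul_eq_zero.mp this with h | h
    · exact ⟨1, one_pow p, h⟩
    · exact ⟨-1, (hp.out.odd_of_ne_two hp2).neg_one_pow, h⟩
  obtain ⟨ε, hε, h1⟩ := hfac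
  have h2 : (x ^ p) ^ 2 - ε * x ^ p - 1 = 0 := by
    have : (x ^ 2 - ε * x - 1) ^ p = 0 := by rw [h1]; exact zero_pow hp.out.ne_zero
    rw [sub_pow_char, sub_pow_char, one_pow, mul_pow, hε, ← pow_mul, mul_comm 2 p, pow_mul] at this
    exact this
  have h3 : (x ^ p - x) * (x ^ p + x - ε) = 0 := by linear_combination h2 - h1
  rw [pow_two p, pow_mul]
  rcases mul_eq_zero.mp h3 with h4 | h4
  · rw [sub_eq_zero.mp h4, sub_eq_zero.mp h4]
  · have h5 : x ^ p = ε - x := by linear_combination h4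
    rw [h5, sub_pow_char, hε, h5]; ring

omit [Finite F] in
theorem roots_one (p : ℕ) [hp : Fact p.Prime] [CharP F p] (h2 : (2 : F) ≠ 0) (m : ZMod p) (hm : m * m = 5) (K : Subfield F)
    (x : F) (hx : x ^ 4 - 3 * x ^ 2 + 1 = 0) : x ∈ K := by
  let s : F := ZMod.castHom (dvd_refl p) F m
  have hs : s * s = 5 := by
    show ZMod.castHom (dvd_refl p) F m * ZMod.castHom (dvd_refl p) F m = 5
    rw [← map_mul, hm]
    exact map_ofNat _ 5
  have hsK : s ∈ K := cast_mem p K m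
  have h2K : (2 : F)⁻¹ ∈ K := K.inv_mem (by exact_mod_cast natCast_mem K 2)
  have hfac : ∃ ε : F, ε ∈ K ∧ ε ^ 2 = 1 ∧ x ^ 2 - ε * x - 1 = 0 := by
    have : (x ^ 2 - 1 * x - 1) * (x ^ 2 - (-1) * x - 1) = 0 := by linear_combination hx
    rcases mul_eq_zero.mp this with h | h
    · exact ⟨1, K.one_mem, one_pow 2, h⟩
    · exact ⟨-1, K.neg_mem K.one_mem, by ring, h⟩
  obtain ⟨ε, hε, hε2, h1⟩ := hfac
  have h3 : (2 * x - ε - s) * (2 * x - ε + s) = 0 := by linear_combination 4 * h1 + hε2 - hs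
  rcases mul_eq_zero.mp h3 with h4 | h4
  · have : x = (ε + s) * 2⁻¹ := by
      have : 2 * x = ε + s := by linear_combination h4
      rw [← this]; field_simp
    rw [this]; exact K.mul_mem (K.add_mem hε hsK) h2K
  · have : x = (ε - s) * 2⁻¹ := by
      have : 2 * x = ε - s := by linear_combination h4
      rw [← this]; field_simp
    rw [this]; exact K.mul_mem (K.sub_mem hε hsK) h2K

/-- quadratic reciprocity for `5` -/
theorem sqrt_five (p : ℕ) [hp : Fact p.Prime] (hp2 : p ≠ 2) (h : p % 5 = 1 ∨ p % 5 = 4) : ∃ m : ZMod p, m * m = 5 := by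
  haveI : Fact (Nat.Prime 5) := ⟨by norm_num⟩
  have h1 := ZMod.exists_sq_eq_prime_iff_of_mod_four_eq_one (p := 5) (q := p) (by norm_num) hp2
  have h2 : IsSquare ((p : ℕ) : ZMod 5) := by
    rw [← ZMod.natCast_mod]
    rcases h with h | h
    · rw [h]; exact ⟨1, rfl⟩
    · rw [h]; exact ⟨2, rfl⟩
  obtain ⟨m, hm⟩ := h1.mp h2
  exact ⟨m, by rw [← hm]; norm_cast⟩

end H98.PGLMax7
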