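import Mathlib
import Cfsg.Agent.Lib.H98.PGLMax7
import Cfsg.Agent.S0804

set_option autoImplicit false

/-! Maximal subgroups of `PGL₂(F)` and `PSL₂(F)`: the classification. -/

namespace H98.PGLMax8

open MulAction Matrix OnePoint H98.Moebius H98.DicksonField H98.DicksonMoeb H98.DicksonNum H98.DicksonAbs H98.DicksonPGL
  H98.Dickson H98.DicksonPSL H98.DicksonIdx H98.DicksonDih H98.DicksonMax H98.DicksonSub H98.PGLMax1 H98.PGLMax2 H98.PGLMax3
  H98.PGLMax4 H98.PGLMax5 H98.PGLMax6 H98.PGLMax7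
open scoped H98.Moebius

variable {F : Type*} [Field F] [Finite F]

theorem LL_ne_top (hodd : Odd (Nat.card F)) : LL F ≠ ⊤ := by
  intro h
  have h1 := index_LL (F := F)
  rw [h, Subgroup.index_top, gcd_odd hodd] at h1
  omega

theorem two_ne_zero' (hodd : Odd (Nat.card F)) : (2 : F) ≠ 0 := two_ne_zero_of_odd hodd

theorem isSquare_two_iff' : IsSquare (2 : F) ↔ Nat.card F % 8 ≠ 3 ∧ Nat.card F % 8 ≠ 5 := by
  letI := Fintype.ofFinite F
  rw [FiniteField.isSquare_two_iff, Nat.card_eq_fintype_card]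

theorem A4_noswap : ∀ x u v : alternatingGroup (Fin 4), ¬ (u * u = 1 ∧ v * v = 1 ∧ u * v = v * u ∧ u ≠ v ∧ x * u * x⁻¹ = v ∧
    x * v * x⁻¹ = u) := by
  decide

/-- the four-group `V₀` -/
noncomputable def V0 (a b : F) (hab : a ^ 2 + b ^ 2 = -1) : Subgroup (ProjGenLinGroup (Fin 2) F) :=
  Subgroup.closure {cl (qi a b hab), cl qj}

section std

variable (a b : F) (hab : a ^ 2 + b ^ 2 = -1) (h2 : (2 : F) ≠ 0)

omit [Finite F] in
theorem cl_qi_sq : cl (qi a b hab) * cl (qi a b hab) = 1 := by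
  rw [← cl_mul, cl_eq_one_iff]
  obtain ⟨e1, e2, e3, e4⟩ := mul_entries (qi a b hab) (qi a b hab)
  obtain ⟨i1, i2, i3, i4⟩ := qi_entries a b hab
  rw [e1, e2, e3, e4, i1, i2, i3, i4]
  refine ⟨by ring, by ring, by ring⟩

omit [Finite F] in
theorem cl_qj_sq : (cl qj * cl qj : ProjGenLinGroup (Fin 2) F) = 1 := by
  rw [← cl_mul, cl_eq_one_iff]
  obtain ⟨e1, e2, e3, e4⟩ := mul_entries (qj : Matrix.SpecialLinearGroup (Fin 2) F) qj
  obtain ⟨i1, i2, i3, i4⟩ := qj_entries (F := F)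
  rw [e1, e2, e3, e4, i1, i2, i3, i4]
  refine ⟨by ring, by ring, by ring⟩

omit [Finite F] in
include h2 in
theorem cl_qi_ne : cl (qi a b hab) ≠ 1 := by
  intro h
  rw [cl_eq_one_iff] at h
  obtain ⟨i1, i2, i3, i4⟩ := qi_entries a b hab
  rw [i1, i2, i3, i4] at h
  obtain ⟨h1, -, h3⟩ := h
  have : 2 * a = 0 := by linear_combination h3
  have ha := (mul_eq_zero.mp this).resolve_left h2
  rw [h1, ha] at hab
  simp at hab

omit [Finite F] in
theorem cl_qj_ne : (cl qj : ProjGenLinGroup (Fin 2) F) ≠ 1 := by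
  intro h
  rw [cl_eq_one_iff] at h
  obtain ⟨i1, i2, i3, i4⟩ := qj_entries (F := F)
  rw [i3] at h
  exact one_ne_zero h.2.1

omit [Finite F] in
theorem cl_comm : cl (qi a b hab) * cl qj = cl qj * cl (qi a b hab) := by
  have h1 : cl (qi a b hab * qj * (qi a b hab) * qj) = 1 := by
    rw [cl_eq_one_iff]
    obtain ⟨e1, e2, e3, e4⟩ := mul_entries (qi a b hab * qj * (qi a b hab)) qj
    obtain ⟨f1, f2, f3, f4⟩ := mul_entries (qi a b hab * qj) (qi a b hab)
    obtain ⟨g1, g2, g3, g4⟩ := mul_entries (qi a b hab) qj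
    obtain ⟨i1, i2, i3, i4⟩ := qi_entries a b hab
    obtain ⟨j1, j2, j3, j4⟩ := qj_entries (F := F)
    rw [e1, e2, e3, e4, f1, f2, f3, f4, g1, g2, g3, g4, i1, i2, i3, i4, j1, j2, j3, j4]
    refine ⟨by ring, by ring, by ring⟩
  rw [cl_mul, cl_mul, cl_mul] at h1
  have h3 := cl_qi_sq a b hab
  have h4 := cl_qj_sq (F := F)
  calc cl (qi a b hab) * cl qj = (cl (qi a b hab) * cl qj) * 1 := (mul_one _).symm
    _ = (cl (qi a b hab) * cl qj) * (cl (qi a b hab) * (cl qj * cl qj) * cl (qi a b hab)) := by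
        rw [h4, mul_one (cl (qi a b hab)), h3]
    _ = (cl (qi a b hab) * cl qj * cl (qi a b hab) * cl qj) * (cl qj * cl (qi a b hab)) := by group
    _ = _ := by rw [h1, one_mul]

omit [Finite F] in
include h2 in
theorem cl_ne : cl (qi a b hab) ≠ cl qj := by
  intro h
  have h1 := cl_mul (qi a b hab) qj
  rw [h, cl_qj_sq, cl_eq_one_iff] at h1
  obtain ⟨g1, g2, g3, g4⟩ := mul_entries (qi a b hab) qj
  obtain ⟨i1, i2, i3, i4⟩ := qi_entries a b hab
  obtain ⟨j1, j2, j3, j4⟩ := qj_entries (F := F)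
  rw [g1, g2, g3, g4, i1, i2, i3, i4, j1, j2, j3, j4] at h1
  obtain ⟨h3, h4, h5⟩ := h1
  have ha : a = 0 := by linear_combination -h3
  have hb : 2 * b = 0 := by linear_combination h5
  have hb' := (mul_eq_zero.mp hb).resolve_left h2
  rw [ha, hb'] at hab
  simp at hab

omit [Finite F] in
theorem qi_mem_V0 : cl (qi a b hab) ∈ V0 a b hab := Subgroup.subset_closure (by simp)
omit [Finite F] in
theorem qj_mem_V0 : cl qj ∈ V0 a b hab := Subgroup.subset_closure (by simp)

omit [Finite F] in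
theorem V0_comm : ∀ x ∈ V0 a b hab, ∀ y ∈ V0 a b hab, x * y = y * x := by
  intro x hx y hy
  have hc : IsMulCommutative (V0 a b hab) := by
    unfold V0
    apply Subgroup.isMulCommutative_closure
    intro u hu v hv
    simp only [Set.mem_insert_iff, Set.mem_singleton_iff] at hu hv
    rcases hu with rfl | rfl <;> rcases hv with rfl | rfl
    · rfl
    · exact cl_comm a b hab
    · exact (cl_comm a b hab).symm
    · rfl
  exact congrArg Subtype.val (hc.is_comm.comm ⟨x, hx⟩ ⟨y, hy⟩)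

include h2 in
theorem three_le_V0 : 3 ≤ Nat.card (V0 a b hab) := by
  have h1 := Nat.card_le_card_of_injective (fun i : Fin 3 => (![⟨1, (V0 a b hab).one_mem⟩, ⟨_, qi_mem_V0 a b hab⟩, ⟨_, qj_mem_V0 a b hab⟩] i :
    V0 a b hab)) (by
      intro i j hij
      fin_cases i <;> fin_cases j <;> first | rfl | (exfalso; revert hij; simp [cl_qi_ne a b hab h2, (cl_qi_ne a b hab h2).symm, cl_qj_ne, (cl_qj_ne (F := F)).symm, cl_ne a b hab h2, (cl_ne a b hab h2).symm]))
  rwa [Nat.card_fin] at h1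

theorem norm_V0 (g : ProjGenLinGroup (Fin 2) F) (h1 : g * cl (qi a b hab) * g⁻¹ ∈ V0 a b hab) (h3 : g * cl qj * g⁻¹ ∈ V0 a b hab) :
    g ∈ Subgroup.normalizer (V0 a b hab : Set (ProjGenLinGroup (Fin 2) F)) := by
  have hle : (V0 a b hab).map (MulAut.conj g).toMonoidHom ≤ V0 a b hab := by
    unfold V0
    rw [MonoidHom.map_closure, Subgroup.closure_le]
    rintro x ⟨y, hy, rfl⟩
    simp only [Set.mem_insert_iff, Set.mem_singleton_iff] at hy
    rcases hy with rfl | rfl
    · exact h1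
    · exact h3
  have heq : (V0 a b hab).map (MulAut.conj g).toMonoidHom = V0 a b hab := by
    apply Subgroup.eq_of_le_of_card_ge hle
    exact le_of_eq (card_cj g _).symm
  rw [Subgroup.mem_normalizer_iff]
  intro x
  constructor
  · intro hx
    exact hle ⟨x, hx, rfl⟩
  · intro hx
    rw [← heq] at hx
    obtain ⟨y, hy, hyx⟩ := hx
    have : y = x := (MulAut.conj g).injective hyx
    rwa [← this]

include h2 in
theorem qi_mem_norm : cl (qi a b hab) ∈ Subgroup.normalizer (V0 a b hab : Set (ProjGenLinGroup (Fin 2) F)) :=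
  Subgroup.le_normalizer (qi_mem_V0 a b hab)

theorem O0_le_norm : O0 a b hab h2 ≤ Subgroup.normalizer (V0 a b hab : Set (ProjGenLinGroup (Fin 2) F)) := by
  have q1 := qi_mem_V0 a b hab
  have q2 := qj_mem_V0 a b hab
  apply O0_le a b hab h2 _ (T0_le a b hab h2 _ (Subgroup.le_normalizer q1) (Subgroup.le_normalizer q2) _)
  · apply norm_V0
    · rw [S1_i, mul_inv_cancel_right]; exact q2
    · rw [S1_j, mul_inv_cancel_right]; exact q1
  · apply norm_V0
    · rw [S0_i, mul_inv_cancel_right]; exact q2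
    · rw [S0_j, mul_inv_cancel_right]; exact (V0 a b hab).mul_mem q1 q2

end std

end H98.PGLMax8
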