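import Mathlib
import Cfsg.Agent.Lib.H98.PGLMax8

set_option autoImplicit false

/-! Maximal subgroups of `PGL₂(F)` and `PSL₂(F)`: subfield subgroups. -/

namespace H98.PGLMax9

open MulAction Matrix OnePoint H98.Moebius H98.DicksonField H98.DicksonMoeb H98.DicksonNum H98.DicksonAbs H98.DicksonPGL
  H98.Dickson H98.DicksonPSL H98.DicksonIdx H98.DicksonDih H98.DicksonMax H98.DicksonSub H98.PGLMax1 H98.PGLMax2 H98.PGLMax3
  H98.PGLMax4 H98.PGLMax5 H98.PGLMax6 H98.PGLMax7 H98.PGLMax8
open scoped H98.Moebius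

variable {F : Type*} [Field F] [Finite F]

theorem XX_le_LL (hodd : Odd (Nat.card F)) (K : Subfield F) (hm : Even (Module.finrank K F)) : XX K ≤ LL F := by
  letI := Fintype.ofFinite F
  intro x hx
  rw [mem_XX_iff] at hx
  obtain ⟨g, hg, rfl⟩ := hx
  rw [mk_mem_LL]
  have hd : (g.det : F) ∈ K := by
    rw [Matrix.GeneralLinearGroup.val_det_apply, Matrix.det_fin_two]
    exact K.sub_mem (K.mul_mem (hg _ _) (hg _ _)) (K.mul_mem (hg _ _) (hg _ _))
  have h1 := H17.SubfieldPSL.isSquare_of_even K.subtype (Module.finrank K F) hm (by rw [← Nat.card_eq_fintype_card]; exact hodd)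
    (by rw [card_pow_finrank, Nat.card_eq_fintype_card]) ⟨_, hd⟩ (by
      intro h
      exact g.det.ne_zero (congrArg Subtype.val h))
  exact h1

theorem odd_card_sub (hodd : Odd (Nat.card F)) (K : Subfield F) : Odd (Nat.card K) := by
  have h1 := card_pow_finrank K
  rw [← h1] at hodd
  rw [← Nat.not_even_iff_odd] at hodd ⊢
  intro he
  apply hodd
  apply he.pow_of_ne_zero
  intro h0
  rw [h0, pow_zero] at h1
  have : 1 < Nat.card F := Finite.one_lt_card
  omega

theorem XX_not_le_LL (hodd : Odd (Nat.card F)) (K : Subfield F) (hm : Odd (Module.finrank K F)) : ¬ XX K ≤ LL F := by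
  intro hle
  have h1 := Subgroup.card_dvd_of_le hle
  have h2 := card_LL (F := F)
  have h3 := card_pow_finrank K
  rw [gcd_odd hodd] at h2
  rw [card_XX] at h1
  have hko := odd_card_sub hodd K
  set k := Nat.card K with hk
  set q := Nat.card F with hq
  set m := Module.finrank K F with hmdef
  have hk1 : 1 < k := Finite.one_lt_card
  have hq1 : 1 < q := Finite.one_lt_card
  obtain ⟨t, ht⟩ := h1
  -- the odd factor
  have hS : ((k ^ 2) ^ m - 1) = (k ^ 2 - 1) * ∑ i ∈ Finset.range m, (k ^ 2) ^ i := by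
    have h4 := geom_sum_mul (R := ℤ) ((k : ℤ) ^ 2) m
    have h5 : 1 ≤ k ^ 2 := Nat.one_le_pow _ _ (by omega)
    have h6 : 1 ≤ (k ^ 2) ^ m := Nat.one_le_pow _ _ (by omega)
    zify [h5, h6]
    rw [← h4]; ring
  have hSodd : Odd (∑ i ∈ Finset.range m, (k ^ 2) ^ i) := by
    rw [Finset.odd_sum_iff_odd_card_odd]
    have : (Finset.range m).filter (fun i => Odd ((k ^ 2) ^ i)) = Finset.range m := by
      apply Finset.filter_true_of_mem
      intro i _
      exact (hko.pow).pow
    rw [this, Finset.card_range]; exact hm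
  have e1 : (q + 1) * (q * (q - 1)) = q * ((k ^ 2 - 1) * ∑ i ∈ Finset.range m, (k ^ 2) ^ i) := by
    rw [← hS, ← pow_mul, mul_comm 2 m, pow_mul, h3]
    rw [← sq_sub_one q hq1.le]; ring
  have e2 : (k + 1) * (k * (k - 1)) = k * (k ^ 2 - 1) := by
    rw [← sq_sub_one k hk1.le]; ring
  rw [e1, ht, e2] at h2
  have hpos : 0 < k ^ 2 - 1 := by
    have : 1 < k ^ 2 := Nat.one_lt_pow (by norm_num) hk1
    omega
  have h7 : (k ^ 2 - 1) * (2 * (k * t)) = (k ^ 2 - 1) * (q * ∑ i ∈ Finset.range m, (k ^ 2) ^ i) := by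
    calc (k ^ 2 - 1) * (2 * (k * t)) = 2 * (k * (k ^ 2 - 1) * t) := by ring
      _ = q * ((k ^ 2 - 1) * ∑ i ∈ Finset.range m, (k ^ 2) ^ i) := h2
      _ = _ := by ring
  have h8 := Nat.eq_of_mul_eq_mul_left hpos h7
  have h9 : Odd (q * ∑ i ∈ Finset.range m, (k ^ 2) ^ i) := hodd.mul hSodd
  rw [← h8] at h9
  exact (Nat.not_even_iff_odd.mpr h9) ⟨k * t, by ring⟩

theorem card_eq_of_XX {K K' : Subfield F} (h : XX K' = XX K) : Nat.card K' = Nat.card K := by
  have h1 := card_XX K
  have h2 := card_XX K'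
  rw [h, h1] at h2
  have hk1 : 1 < Nat.card K := Finite.one_lt_card
  have hk2 : 1 < Nat.card K' := Finite.one_lt_card
  have mono : ∀ x y : ℕ, 1 < x → x < y → (x + 1) * (x * (x - 1)) < (y + 1) * (y * (y - 1)) := by
    intro x y hx hxy
    have h3 : x * (x - 1) ≤ y * (y - 1) := Nat.mul_le_mul (by omega) (by omega)
    have h4 : 0 < x * (x - 1) := Nat.mul_pos (by omega) (by omega)
    calc (x + 1) * (x * (x - 1)) < (y + 1) * (x * (x - 1)) := Nat.mul_lt_mul_of_pos_right (by omega) h4
      _ ≤ _ := Nat.mul_le_mul_left _ h3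
  rcases Nat.lt_trichotomy (Nat.card K') (Nat.card K) with h3 | h3 | h3
  · have := mono _ _ hk2 h3; omega
  · exact h3
  · have := mono _ _ hk1 h3; omega

theorem card_eq_of_YY (hodd : Odd (Nat.card F)) {K K' : Subfield F} (h : YY K' = YY K) : Nat.card K' = Nat.card K := by
  have h1 := card_YY K
  have h2 := card_YY K'
  rw [gcd_odd (odd_card_sub hodd _)] at h1 h2
  rw [h, h1] at h2
  have hk1 : 1 < Nat.card K := Finite.one_lt_card
  have hk2 : 1 < Nat.card K' := Finite.one_lt_card
  have mono : ∀ x y : ℕ, 1 < x → x < y → (x + 1) * (x * (x - 1)) < (y + 1) * (y * (y - 1)) := by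
    intro x y hx hxy
    have h3 : x * (x - 1) ≤ y * (y - 1) := Nat.mul_le_mul (by omega) (by omega)
    have h4 : 0 < x * (x - 1) := Nat.mul_pos (by omega) (by omega)
    calc (x + 1) * (x * (x - 1)) < (y + 1) * (x * (x - 1)) := Nat.mul_lt_mul_of_pos_right (by omega) h4
      _ ≤ _ := Nat.mul_le_mul_left _ h3
  rcases Nat.lt_trichotomy (Nat.card K') (Nat.card K) with h3 | h3 | h3
  · have := mono _ _ hk2 h3; omega
  · exact h3
  · have := mono _ _ hk1 h3; omega

theorem finrank_ge_two {K : Subfield F} (hK : K ≠ ⊤) : 2 ≤ Module.finrank K F := by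
  have h1 := card_pow_finrank K
  have h2 := card_lt_of_ne_top hK
  by_contra hlt
  have hk1 : 1 < Nat.card K := Finite.one_lt_card
  have h3 : Nat.card K ^ Module.finrank K F ≤ Nat.card K ^ 1 := Nat.pow_le_pow_right (by omega) (by omega)
  rw [h1, pow_one] at h3
  have h4 : Nat.card K < Nat.card K ^ 2 := by
    rw [pow_two]; nlinarith
  omega

theorem ne_top_of_card {K' : Subfield F} (h : Nat.card K' < Nat.card F) : K' ≠ ⊤ := by
  rintro rfl
  have : Nat.card (⊤ : Subfield F) = Nat.card F := Nat.card_congr Subfield.topEquiv.toEquiv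
  omega

theorem card_top : Nat.card (⊤ : Subfield F) = Nat.card F := Nat.card_congr Subfield.topEquiv.toEquiv

/-- the case `PGL₂(q₀) ⋖ PSL₂(q)` -/
theorem XX_case_LL (hodd : Odd (Nat.card F)) {K : Subfield F} (h : XX K ⋖ LL F) : Nat.card K ^ 2 = Nat.card F := by
  have hKt : K ≠ ⊤ := by
    rintro rfl
    have := h.lt
    rw [XX_top] at this
    exact not_top_lt this
  have hm : Even (Module.finrank K F) := by
    rw [← Nat.not_odd_iff_even]
    intro ho
    exact XX_not_le_LL hodd K ho h.le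
  have h1 := card_pow_finrank K
  obtain ⟨s, hs⟩ := hm
  have hs0 : s ≠ 0 := by
    have := finrank_ge_two hKt
    omega
  obtain ⟨K', hKK', hcK'⟩ := exists_between K s 2 (by rw [mul_two, ← hs, h1]) hs0
  have hcF : Nat.card K' ^ 2 = Nat.card F := by rw [hcK', ← pow_mul, mul_two, ← hs, h1]
  have h2 : Module.finrank K' F = 2 := by
    have h3 := card_pow_finrank K'
    rw [← hcF] at h3
    exact Nat.pow_right_injective (Nat.succ_le_of_lt Finite.one_lt_card) h3
  have h3 : XX K' ≤ LL F := XX_le_LL hodd K' (by rw [h2]; exact even_two)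
  have hk1 : 1 < Nat.card K' := Finite.one_lt_card
  have hlt : Nat.card K' < Nat.card F := by
    rw [← hcF, pow_two]
    nlinarith
  rcases eq_of_covBy h (XX_mono hKK') h3 with h4 | h4
  · rw [← card_eq_of_XX h4]; exact hcF
  · exact absurd (le_of_eq h4.symm) (LL_not_le_XX (ne_top_of_card hlt))

/-- the case `PSL₂(q₀) ⋖ PSL₂(q)` -/
theorem YY_case_LL (hodd : Odd (Nat.card F)) {K : Subfield F} (h : YY K ⋖ LL F) :
    ∃ r : ℕ, r.Prime ∧ Odd r ∧ Nat.card K ^ r = Nat.card F := by
  have hKt : K ≠ ⊤ := by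
    rintro rfl
    have := h.lt
    rw [YY_top] at this
    exact lt_irrefl _ this
  have h1 := card_pow_finrank K
  have hm2 := finrank_ge_two hKt
  have hm : Odd (Module.finrank K F) := by
    rw [← Nat.not_even_iff_odd]
    intro he
    rcases eq_of_covBy h (YY_le_XX K) (XX_le_LL hodd K he) with h4 | h4
    · have h5 := card_XX K
      have h6 := card_YY K
      rw [gcd_odd (odd_card_sub hodd _), ← h5, h4] at h6
      have : 0 < Nat.card (YY K) := Nat.card_pos
      omega
    · exact absurd (le_of_eq h4.symm) (LL_not_le_XX hKt)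
  obtain ⟨r, hr, s, hs⟩ := Nat.exists_prime_and_dvd (show Module.finrank K F ≠ 1 by omega)
  have hs0 : s ≠ 0 := by rintro rfl; omega
  obtain ⟨K', hKK', hcK'⟩ := exists_between K s r (by rw [mul_comm, ← hs, h1]) hs0
  have hcF : Nat.card K' ^ r = Nat.card F := by rw [hcK', ← pow_mul, mul_comm, ← hs, h1]
  have hk1 : 1 < Nat.card K' := Finite.one_lt_card
  have hlt : Nat.card K' < Nat.card F := by
    rw [← hcF]
    calc Nat.card K' = Nat.card K' ^ 1 := (pow_one _).symm
      _ < _ := Nat.pow_lt_pow_right hk1 hr.one_lt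
  rcases eq_of_covBy h (YY_mono hKK') (YY_le_LL K') with h4 | h4
  · refine ⟨r, hr, ?_, ?_⟩
    · rw [hs] at hm; exact (Nat.odd_mul.mp hm).1
    · rw [← card_eq_of_YY hodd h4]; exact hcF
  · exfalso
    rw [← YY_top] at h4
    have := card_eq_of_YY hodd h4
    rw [card_top] at this
    omega

/-- the case `PGL₂(q₀) ⋖ PGL₂(q)` -/
theorem XX_case_top {K : Subfield F} (h : XX K ⋖ ⊤) (hL : ¬ LL F ≤ XX K) :
    ∃ r : ℕ, r.Prime ∧ (Odd (Nat.card F) → Odd r) ∧ Nat.card K ^ r = Nat.card F := by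
  have hKt : K ≠ ⊤ := by
    rintro rfl
    have := h.lt
    rw [XX_top] at this
    exact lt_irrefl _ this
  have h1 := card_pow_finrank K
  have hm2 := finrank_ge_two hKt
  have hm : Odd (Nat.card F) → Odd (Module.finrank K F) := by
    intro hodd
    rw [← Nat.not_even_iff_odd]
    intro he
    rcases eq_of_covBy h (XX_le_LL hodd K he) le_top with h4 | h4
    · exact hL (le_of_eq h4)
    · exact LL_ne_top hodd h4
  obtain ⟨r, hr, s, hs⟩ := Nat.exists_prime_and_dvd (show Module.finrank K F ≠ 1 by omega)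
  have hs0 : s ≠ 0 := by rintro rfl; omega
  obtain ⟨K', hKK', hcK'⟩ := exists_between K s r (by rw [mul_comm, ← hs, h1]) hs0
  have hcF : Nat.card K' ^ r = Nat.card F := by rw [hcK', ← pow_mul, mul_comm, ← hs, h1]
  have hk1 : 1 < Nat.card K' := Finite.one_lt_card
  have hlt : Nat.card K' < Nat.card F := by
    rw [← hcF]
    calc Nat.card K' = Nat.card K' ^ 1 := (pow_one _).symm
      _ < _ := Nat.pow_lt_pow_right hk1 hr.one_lt
  rcases eq_of_covBy h (XX_mono hKK') le_top with h4 | h4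
  · refine ⟨r, hr, ?_, ?_⟩
    · intro hodd
      have := hm hodd
      rw [hs] at this; exact (Nat.odd_mul.mp this).1
    · rw [← card_eq_of_XX h4]; exact hcF
  · exfalso
    rw [← XX_top] at h4
    have := card_eq_of_XX h4
    rw [card_top] at this
    omega

end H98.PGLMax9
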