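import Mathlib
import Cfsg.Agent.Lib.H98.PGLMax9

set_option autoImplicit false

/-! Maximal subgroups of `PGL₂(F)` and `PSL₂(F)`: the groups `A₄`, `S₄`, `A₅`. -/

namespace H98.PGLMax10

open MulAction Matrix OnePoint H98.Moebius H98.DicksonField H98.DicksonMoeb H98.DicksonNum H98.DicksonAbs H98.DicksonPGL
  H98.Dickson H98.DicksonPSL H98.DicksonIdx H98.DicksonDih H98.DicksonMax H98.DicksonSub H98.PGLMax1 H98.PGLMax2 H98.PGLMax3
  H98.PGLMax4 H98.PGLMax5 H98.PGLMax6 H98.PGLMax7 H98.PGLMax8 H98.PGLMax9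
open scoped H98.Moebius

variable {F : Type*} [Field F] [Finite F] (p : ℕ) [hp : Fact p.Prime] [CharP F p]

theorem p_le_card (K : Subfield F) : p ≤ Nat.card K := by
  obtain ⟨a, ha1, ha⟩ := char_dvd (F := K) p
  rw [ha]
  calc p = p ^ 1 := (pow_one p).symm
    _ ≤ _ := Nat.pow_le_pow_right hp.out.pos ha1

theorem p_le_card' : p ≤ Nat.card F := by
  obtain ⟨a, ha1, ha⟩ := char_dvd (F := F) p
  rw [ha]
  calc p = p ^ 1 := (pow_one p).symm
    _ ≤ _ := Nat.pow_le_pow_right hp.out.pos ha1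

omit [Finite F] [CharP F p] in
include hp in
theorem five_le (hp2 : p ≠ 2) (hp3 : p ≠ 3) : 5 ≤ p := by
  have h1 := hp.out.two_le
  have h4 : p ≠ 4 := by rintro rfl; exact absurd hp.out (by norm_num)
  omega

theorem card_eq_p {P Q : Subgroup (ProjGenLinGroup (Fin 2) F)} (hQn : Q.Normal) (hQ : LL F ≤ Q) (h : P ⋖ Q)
    (g : ProjGenLinGroup (Fin 2) F) (hle : cj g P ≤ XX (Kn F p 1)) (hp2 : p ≠ 2) (hp3 : p ≠ 3) (hc : Nat.card P ≤ 24) :
    Nat.card F = p := by
  rcases field_red hQn hQ h (Kn F p 1) g hle with h1 | h1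
  · have h2 := card_le_of_Kn p 1 one_ne_zero h1
    rw [pow_one] at h2
    exact le_antisymm h2 (p_le_card' p)
  · exfalso
    have h5 := five_le p hp2 hp3
    have h6 := p_le_card p (Kn F p 1)
    have h7 : (5 + 1) * (5 * (5 - 1)) ≤ (Nat.card (Kn F p 1) + 1) * (Nat.card (Kn F p 1) * (Nat.card (Kn F p 1) - 1)) :=
      Nat.mul_le_mul (by omega) (Nat.mul_le_mul (by omega) (by omega))
    omega

omit [Finite F] hp [CharP F p] in
theorem cj_le_LL {P : Subgroup (ProjGenLinGroup (Fin 2) F)} (g : ProjGenLinGroup (Fin 2) F) : cj g P ≤ LL F ↔ P ≤ LL F := by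
  constructor
  · intro h x hx
    exact (conj_mem_LL g).mp (h ⟨x, hx, rfl⟩)
  · rintro h x ⟨y, hy, rfl⟩
    exact (conj_mem_LL g).mpr (h hy)

omit [Finite F] hp [CharP F p] in
theorem LL_le_cj {P : Subgroup (ProjGenLinGroup (Fin 2) F)} (g : ProjGenLinGroup (Fin 2) F) : LL F ≤ cj g P ↔ LL F ≤ P := by
  constructor
  · intro h x hx
    obtain ⟨y, hy, hyx⟩ := h ((conj_mem_LL g).mpr hx)
    have : y = x := (MulAut.conj g).injective hyx
    rwa [← this]
  · intro h x hx
    have h1 : g⁻¹ * x * g⁻¹⁻¹ ∈ LL F := (conj_mem_LL g⁻¹).mpr hx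
    refine ⟨_, h h1, ?_⟩
    show g * (g⁻¹ * x * g⁻¹⁻¹) * g⁻¹ = x
    group

include p in
theorem S4_case_LL (hp2 : p ≠ 2) (hp3 : p ≠ 3) {P : Subgroup (ProjGenLinGroup (Fin 2) F)} (h : P ⋖ LL F)
    (e : P ≃* Equiv.Perm (Fin 4)) : Nat.card F = p ∧ (p % 8 = 1 ∨ p % 8 = 7) := by
  have hodd : Odd (Nat.card F) := odd_of_ne_two p hp2
  have h2 := two_ne_zero' (F := F) hodd
  obtain ⟨a, b, hab, hK⟩ := exists_ab (F := F) p
  obtain ⟨g, hg⟩ := conj_S4 a b hab h2 P e
  have hle : cj g P ≤ XX (Kn F p 1) := by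
    rw [show cj g P = O0 a b hab h2 from hg]
    exact O0_le_XX a b hab h2 _ (hK _).1 (hK _).2
  have hq := card_eq_p p normal_LL le_rfl h g hle hp2 hp3 (by rw [card_S4 ⟨e⟩])
  refine ⟨hq, ?_⟩
  have h3 : ProjGenLinGroup.mk (S1 a b hab h2) ∈ LL F := by
    have h4 : cj g P ≤ LL F := (cj_le_LL g).mpr h.le
    apply h4
    rw [show cj g P = O0 a b hab h2 from hg]
    exact S1_mem_O0 a b hab h2
  rw [S1_mem_LL, isSquare_two_iff', hq] at h3
  rw [hq, Nat.odd_iff] at hodd
  omega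

include p in
theorem S4_case_top (hp2 : p ≠ 2) (hp3 : p ≠ 3) {P : Subgroup (ProjGenLinGroup (Fin 2) F)} (h : P ⋖ ⊤) (hL : ¬ LL F ≤ P)
    (e : P ≃* Equiv.Perm (Fin 4)) : Nat.card F = p ∧ (p % 8 = 3 ∨ p % 8 = 5) := by
  have hodd : Odd (Nat.card F) := odd_of_ne_two p hp2
  have h2 := two_ne_zero' (F := F) hodd
  obtain ⟨a, b, hab, hK⟩ := exists_ab (F := F) p
  obtain ⟨g, hg⟩ := conj_S4 a b hab h2 P e
  have hle : cj g P ≤ XX (Kn F p 1) := by
    rw [show cj g P = O0 a b hab h2 from hg]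
    exact O0_le_XX a b hab h2 _ (hK _).1 (hK _).2
  have hq := card_eq_p p (Subgroup.normal_top) le_top h g hle hp2 hp3 (by rw [card_S4 ⟨e⟩])
  refine ⟨hq, ?_⟩
  have h3 : ¬ ProjGenLinGroup.mk (S1 a b hab h2) ∈ LL F := by
    intro h3
    have h4 : cj g P ≤ LL F := by
      rw [show cj g P = O0 a b hab h2 from hg]
      exact O0_le a b hab h2 _ (T0_le_LL a b hab h2) h3
    rw [cj_le_LL] at h4
    rcases eq_of_covBy h h4 le_top with h5 | h5
    · exact hL (le_of_eq h5)
    · exact LL_ne_top hodd h5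
  rw [S1_mem_LL, isSquare_two_iff', hq] at h3
  rw [hq, Nat.odd_iff] at hodd
  omega

include p in
theorem A5_case_LL (hp2 : p ≠ 2) (hp5 : p ≠ 5) {P : Subgroup (ProjGenLinGroup (Fin 2) F)} (h : P ⋖ LL F)
    (e : P ≃* alternatingGroup (Fin 5)) : (Nat.card F % 10 = 1 ∨ Nat.card F % 10 = 9) ∧
      (Nat.card F = p ∨ (Nat.card F = p ^ 2 ∧ (p % 10 = 3 ∨ p % 10 = 7))) := by
  have hodd : Odd (Nat.card F) := odd_of_ne_two p hp2
  have h2 := two_ne_zero' (F := F) hodd
  obtain ⟨a, b, hab, hK⟩ := exists_ab (F := F) p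
  have hcP : Nat.card P = 60 := card_A5 ⟨e⟩
  have hpodd : p % 2 = 1 := Nat.odd_iff.mp (hp.out.odd_of_ne_two hp2)
  have hmul5 : ¬ 5 ∣ p := by
    intro h5
    exact hp5 ((Nat.prime_dvd_prime_iff_eq (by norm_num) hp.out).mp h5).symm
  -- general step
  have step : ∀ n : ℕ, n ≠ 0 → (∀ x : F, x ^ 4 - 3 * x ^ 2 + 1 = 0 → x ∈ Kn F p n) → Nat.card F ≤ p ^ n := by
    intro n hn hroots
    obtain ⟨g, hT, hX⟩ := conj_A5 a b hab h2 P h.le e (Kn F p n) (hK _).1 (hK _).2 hroots
    rcases field_red normal_LL le_rfl h (Kn F p n) g hX with h1 | h1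
    · exact card_le_of_Kn p n hn h1
    · exfalso
      rw [hcP] at h1
      have h3 := p_le_card p (Kn F p n)
      have h4 := Subgroup.card_le_of_le hX
      rw [card_XX, card_cj, hcP] at h4
      have hko : Odd (Nat.card (Kn F p n)) := odd_card_sub hodd _
      obtain ⟨c, hc1, hc⟩ := char_dvd (F := Kn F p n) p
      have h5k : ¬ 5 ∣ Nat.card (Kn F p n) := by
        rw [hc]; intro h5
        exact hmul5 ((by norm_num : Nat.Prime 5).dvd_of_dvd_pow h5)
      have hk : Nat.card (Kn F p n) ≤ 5 := by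
        by_contra hlt
        have h7 : (6 + 1) * (6 * (6 - 1)) ≤ (Nat.card (Kn F p n) + 1) * (Nat.card (Kn F p n) * (Nat.card (Kn F p n) - 1)) :=
          Nat.mul_le_mul (by omega) (Nat.mul_le_mul (by omega) (by omega))
        omega
      rw [Nat.odd_iff] at hko
      have h6 : Nat.card (Kn F p n) = 1 ∨ Nat.card (Kn F p n) = 3 := by omega
      rcases h6 with h6 | h6
      · rw [h6] at h4; omega
      · rw [h6] at h4; omega
  have hle2 := step 2 (by norm_num) (fun x hx => roots_two p hp2 x hx)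
  obtain ⟨n, hn1, hn⟩ := char_dvd (F := F) p
  have hn2 : n ≤ 2 := by
    rw [hn] at hle2
    exact (Nat.pow_le_pow_iff_right hp.out.one_lt).mp hle2
  refine ⟨?_, ?_⟩
  · -- divisibility by five
    have h3 : 5 ∣ (Nat.card F + 1) * (Nat.card F * (Nat.card F - 1)) := by
      rw [← card_LL]
      have := Subgroup.card_dvd_of_le h.le
      rw [hcP] at this
      exact Dvd.dvd.mul_left ((by norm_num : 5 ∣ 60).trans this) _
    have h5p : Nat.Prime 5 := by norm_num
    rw [Nat.odd_iff] at hodd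
    have hq1 : 1 < Nat.card F := Finite.one_lt_card
    rcases (h5p.dvd_mul).mp h3 with h4 | h4
    · omega
    · rcases (h5p.dvd_mul).mp h4 with h4 | h4
      · exfalso
        rw [hn] at h4
        exact hmul5 (h5p.dvd_of_dvd_pow h4)
      · omega
  · rcases (by omega : n = 1 ∨ n = 2) with h3 | h3
    · left; rw [hn, h3, pow_one]
    · right
      refine ⟨by rw [hn, h3], ?_⟩
      by_contra hcon
      have h5 : p % 5 = 1 ∨ p % 5 = 4 := by
        have : ¬ p % 5 = 0 := fun h => hmul5 (Nat.dvd_of_mod_eq_zero h)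
        omega
      obtain ⟨m, hm⟩ := sqrt_five p hp2 h5
      have h6 := step 1 one_ne_zero (fun x hx => roots_one p h2 m hm _ x hx)
      rw [hn, h3] at h6
      have := (Nat.pow_le_pow_iff_right hp.out.one_lt).mp h6
      omega

include p in
theorem A4_case_LL (hp2 : p ≠ 2) (hp3 : p ≠ 3) (hq5 : 5 ≤ Nat.card F) {P : Subgroup (ProjGenLinGroup (Fin 2) F)} (h : P ⋖ LL F)
    (e : P ≃* alternatingGroup (Fin 4)) : Nat.card F = p ∧ (p % 8 = 3 ∨ p % 8 = 5) ∧ ¬ (p % 10 = 1 ∨ p % 10 = 9) := by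
  have hodd : Odd (Nat.card F) := odd_of_ne_two p hp2
  have h2 := two_ne_zero' (F := F) hodd
  obtain ⟨a, b, hab, hK⟩ := exists_ab (F := F) p
  obtain ⟨g, hg⟩ := conj_A4 a b hab h2 P h.le e
  have hg' : cj g P = T0 a b hab h2 := hg
  have hcP : Nat.card P = 12 := card_A4 ⟨e⟩
  have hle : cj g P ≤ XX (Kn F p 1) := by
    rw [hg']
    exact (T0_le_O0 a b hab h2).trans (O0_le_XX a b hab h2 _ (hK _).1 (hK _).2)
  have hq := card_eq_p p normal_LL le_rfl h g hle hp2 hp3 (by rw [hcP]; norm_num)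
  have hcov := cj_covBy g normal_LL h
  rw [hg'] at hcov
  have hpodd : p % 2 = 1 := Nat.odd_iff.mp (hp.out.odd_of_ne_two hp2)
  refine ⟨hq, ?_, ?_⟩
  · by_contra hcon
    have hsq : IsSquare (2 : F) := by
      rw [isSquare_two_iff', hq]; omega
    have h3 : ProjGenLinGroup.mk (S1 a b hab h2) ∈ LL F := by rw [S1_mem_LL]; exact hsq
    have h4 : T0 a b hab h2 ≤ Subgroup.normalizer (V0 a b hab : Set _) ⊓ LL F :=
      le_inf ((T0_le_O0 a b hab h2).trans (O0_le_norm a b hab h2)) hcov.le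
    rcases eq_of_covBy hcov h4 inf_le_right with h5 | h5
    · have h6 : ProjGenLinGroup.mk (S1 a b hab h2) ∈ cj g P := by
        rw [hg', ← h5]
        exact ⟨O0_le_norm a b hab h2 (S1_mem_O0 a b hab h2), h3⟩
      have h7 : cl (qi a b hab) ∈ cj g P := by rw [hg']; exact qi_mem_T0 a b hab h2
      have h8 : cl qj ∈ cj g P := by rw [hg']; exact qj_mem_T0 a b hab h2
      let f : cj g P ≃* alternatingGroup (Fin 4) := (P.equivMapOfInjective _ (MulAut.conj g).injective).symm.trans e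
      apply A4_noswap (f ⟨_, h6⟩) (f ⟨_, h7⟩) (f ⟨_, h8⟩)
      refine ⟨?_, ?_, ?_, ?_, ?_, ?_⟩
      · rw [← map_mul, ← map_one f]; congr 1; exact Subtype.ext (cl_qi_sq a b hab)
      · rw [← map_mul, ← map_one f]; congr 1; exact Subtype.ext cl_qj_sq
      · rw [← map_mul, ← map_mul]; congr 1; exact Subtype.ext (cl_comm a b hab)
      · intro h9
        exact cl_ne a b hab h2 (congrArg Subtype.val (f.injective h9))
      · rw [← map_inv, ← map_mul, ← map_mul]; congr 1
        apply Subtype.ext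
        show ProjGenLinGroup.mk (S1 a b hab h2) * cl (qi a b hab) * (ProjGenLinGroup.mk (S1 a b hab h2))⁻¹ = _
        rw [S1_i, mul_inv_cancel_right]
      · rw [← map_inv, ← map_mul, ← map_mul]; congr 1
        apply Subtype.ext
        show ProjGenLinGroup.mk (S1 a b hab h2) * cl qj * (ProjGenLinGroup.mk (S1 a b hab h2))⁻¹ = _
        rw [S1_j, mul_inv_cancel_right]
    · have h6 := card_le_of_normal (by omega) (V0 a b hab) (inf_eq_right.mp h5) (V0_comm a b hab)
      have h7 := three_le_V0 a b hab h2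
      omega
  · intro hcon
    letI := Fintype.ofFinite F
    have h5 : 5 ∣ Fintype.card F * (Fintype.card F ^ 2 - 1) := by
      rw [← Nat.card_eq_fintype_card, hq]
      apply Dvd.dvd.mul_left
      rcases hcon with h' | h'
      · obtain ⟨s, hs⟩ : ∃ s, p = 10 * s + 1 := ⟨p / 10, by omega⟩
        have : p ^ 2 = 5 * (20 * s * s + 4 * s) + 1 := by rw [hs]; ring
        rw [this]; simp
      · obtain ⟨s, hs⟩ : ∃ s, p = 10 * s + 9 := ⟨p / 10, by omega⟩
        have : p ^ 2 = 5 * (20 * s * s + 36 * s + 16) + 1 := by rw [hs]; ring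
        rw [this]; simp
    obtain ⟨H, ⟨eH⟩⟩ := (Cfsg.Agent.S0804.result (F := F) rfl).mpr h5
    -- transfer to `PGL₂`
    let P5 : Subgroup (ProjGenLinGroup (Fin 2) F) := H.map ProjectiveSpecialLinearGroup.toPGL
    have e5 : P5 ≃* alternatingGroup (Fin 5) :=
      (H.equivMapOfInjective _ ProjectiveSpecialLinearGroup.toPGL_injective).symm.trans eH
    have hP5 : P5 ≤ LL F := by
      rintro x ⟨y, -, rfl⟩
      rw [← range_toPGL]; exact ⟨y, rfl⟩
    have hc5 : Nat.card P5 = 60 := card_A5 ⟨e5⟩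
    obtain ⟨g5, hT5, -⟩ := conj_A5 a b hab h2 P5 hP5 e5 ⊤ (Subfield.mem_top _) (Subfield.mem_top _) (fun x _ => Subfield.mem_top x)
    have h6 : cj g5 P5 ≤ LL F := (cj_le_LL g5).mpr hP5
    have hT5' : T0 a b hab h2 ≤ cj g5 P5 := hT5
    have hT12 : Nat.card (T0 a b hab h2) = 12 := by rw [← hg', card_cj, hcP]
    rcases eq_of_covBy hcov hT5' h6 with h7 | h7
    · have := card_cj g5 P5
      rw [h7, hT12, hc5] at this
      omega
    · have h8 := card_LL (F := F)
      rw [← h7, card_cj, hc5, gcd_odd hodd, hq] at h8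
      have h9 : 11 ≤ p := by
        by_contra hlt
        rcases hcon with h' | h'
        · have : p = 1 := by omega
          exact hp.out.one_lt.ne' this
        · have : p = 9 := by omega
          rw [this] at hp
          exact absurd hp.out (by norm_num)
      have h10 : (11 + 1) * (11 * (11 - 1)) ≤ (p + 1) * (p * (p - 1)) :=
        Nat.mul_le_mul (by omega) (Nat.mul_le_mul (by omega) (by omega))
      omega

end H98.PGLMax10
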