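import Mathlib

set_option autoImplicit false

/-! Sylow arguments about maximal subgroups. -/

namespace H98.PGLMax11

open Pointwise

theorem conj_coatom {L : Type*} [Group L] {M : Subgroup L} (hM : IsCoatom M) (x : L) :
    IsCoatom (M.map (MulAut.conj x).toMonoidHom) := by
  have h2 := (OrderIso.isCoatom_iff (MulEquiv.mapSubgroup (MulAut.conj x)) M).mpr hM
  exact h2

/-- the Sylow subgroup of a subgroup of order prime index -/
theorem exists_conj {L : Type*} [Group L] [Finite L] (r : ℕ) [Fact r.Prime] (R : Sylow r L) (Y : Subgroup L) (hY : ¬ r ∣ Y.index)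
    (S : Sylow r Y) : ∃ x : L, ((S : Subgroup Y).map Y.subtype) = (R : Subgroup L).map (MulAut.conj x).toMonoidHom := by
  have h1 : IsPGroup r ((S : Subgroup Y).map Y.subtype) := S.isPGroup'.map _
  have h2 : ¬ r ∣ ((S : Subgroup Y).map Y.subtype).index := by
    intro h
    have h3 : ((S : Subgroup Y).map Y.subtype).index = (S : Subgroup Y).index * Y.index := by
      rw [← Subgroup.relIndex_mul_index (Subgroup.map_subtype_le (S : Subgroup Y))]
      congr 1
      show (((S : Subgroup Y).map Y.subtype).comap Y.subtype).index = _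
      rw [Subgroup.comap_map_eq_self_of_injective Y.subtype_injective]
    rw [h3] at h
    rcases (Fact.out : r.Prime).dvd_mul.mp h with h4 | h4
    · exact S.not_dvd_index h4
    · exact hY h4
  obtain ⟨x, hx⟩ := MulAction.exists_smul_eq L R (h1.toSylow h2)
  refine ⟨x, ?_⟩
  have h3 := congrArg (fun T : Sylow r L => (T : Subgroup L)) hx
  simp only [IsPGroup.toSylow_coe] at h3
  rw [← h3]
  rfl

/-- a maximal subgroup that is a Sylow subgroup -/
theorem no_sylow {L : Type*} [Group L] [Finite L] (r : ℕ) [Fact r.Prime] (M : Subgroup L) (hM : IsCoatom M) (hp : IsPGroup r M)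
    (hind : ¬ r ∣ M.index) (Y : Subgroup L) (hY : Y ≠ ⊤) (hYr : ¬ r ∣ Y.index) (hlt : Nat.card M < Nat.card Y) : False := by
  obtain ⟨x, hx⟩ := exists_conj r (hp.toSylow hind) Y hYr default
  rw [IsPGroup.toSylow_coe] at hx
  have h1 : M.map (MulAut.conj x).toMonoidHom ≤ Y := by
    rw [← hx]; exact Subgroup.map_subtype_le _
  have h2 := conj_coatom hM x
  have hc : Nat.card (M.map (MulAut.conj x).toMonoidHom) = Nat.card M :=
    Nat.card_congr (M.equivMapOfInjective _ (MulAut.conj x).injective).symm.toEquiv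
  rcases h2.le_iff.mp h1 with h3 | h3
  · exact hY h3
  · rw [h3, hc] at hlt; exact lt_irrefl _ hlt

/-- a maximal subgroup that is the normalizer of a Sylow subgroup -/
theorem no_sylow_norm {L : Type*} [Group L] [Finite L] (r : ℕ) [Fact r.Prime] (M : Subgroup L) (hM : IsCoatom M) (R : Sylow r L)
    (hR : Subgroup.normalizer ((R : Subgroup L) : Set L) = M) (Y : Subgroup L) (hY : Y ≠ ⊤) (hYr : ¬ r ∣ Y.index)
    (hlt : Nat.card M < Nat.card Y)
    (hN : ∀ S : Sylow r Y, Nat.card M ≤ Nat.card (Subgroup.normalizer ((S : Subgroup Y) : Set Y))) : False := by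
  obtain ⟨x, hx⟩ := exists_conj r R Y hYr default
  have h1 : (Subgroup.normalizer (((default : Sylow r Y) : Subgroup Y) : Set Y)).map Y.subtype ≤
      M.map (MulAut.conj x).toMonoidHom := by
    rintro y ⟨⟨y, hyY⟩, hy, rfl⟩
    refine ⟨x⁻¹ * y * x, ?_, ?_⟩
    · show x⁻¹ * y * x ∈ M
      rw [← hR, Subgroup.mem_normalizer_iff]
      have key : ∀ z ∈ (R : Subgroup L), y * (x * z * x⁻¹) * y⁻¹ ∈ (R : Subgroup L).map (MulAut.conj x).toMonoidHom := by
        intro z hz
        have h2 : x * z * x⁻¹ ∈ (R : Subgroup L).map (MulAut.conj x).toMonoidHom := ⟨z, hz, rfl⟩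
        rw [← hx] at h2 ⊢
        obtain ⟨s, hs, hsz⟩ := h2
        refine ⟨⟨y, hyY⟩ * s * ⟨y, hyY⟩⁻¹, (Subgroup.mem_normalizer_iff.mp hy s).mp hs, ?_⟩
        have hsz' : (s : L) = x * z * x⁻¹ := hsz
        show y * (s : L) * y⁻¹ = _
        rw [hsz']
      have fwd : ∀ z ∈ (R : Subgroup L), (x⁻¹ * y * x) * z * (x⁻¹ * y * x)⁻¹ ∈ (R : Subgroup L) := by
        intro z hz
        obtain ⟨w, hw, hwz⟩ := key z hz
        have hwz' : x * w * x⁻¹ = y * (x * z * x⁻¹) * y⁻¹ := hwz
        have e1 : (x⁻¹ * y * x) * z * (x⁻¹ * y * x)⁻¹ = x⁻¹ * (y * (x * z * x⁻¹) * y⁻¹) * x := by group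
        rw [e1, ← hwz']
        have e2 : x⁻¹ * (x * w * x⁻¹) * x = w := by group
        rw [e2]; exact hw
      -- finite: forward inclusion suffices
      have hmem : (x⁻¹ * y * x) ∈ Subgroup.normalizer ((R : Subgroup L) : Set L) := by
        have hle : (R : Subgroup L).map (MulAut.conj (x⁻¹ * y * x)).toMonoidHom ≤ R := by
          rintro _ ⟨z, hz, rfl⟩; exact fwd z hz
        have heq := Subgroup.eq_of_le_of_card_ge hle (le_of_eq (Nat.card_congr
          ((R : Subgroup L).equivMapOfInjective _ (MulAut.conj (x⁻¹ * y * x)).injective).toEquiv))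
        rw [Subgroup.mem_normalizer_iff]
        intro z
        constructor
        · exact fwd z
        · intro hz
          rw [← heq] at hz
          obtain ⟨w, hw, hwz⟩ := hz
          have : w = z := (MulAut.conj (x⁻¹ * y * x)).injective hwz
          rwa [← this]
      exact Subgroup.mem_normalizer_iff.mp hmem
    · show x * (x⁻¹ * y * x) * x⁻¹ = y
      group
  have hc : Nat.card (M.map (MulAut.conj x).toMonoidHom) = Nat.card M :=
    Nat.card_congr (M.equivMapOfInjective _ (MulAut.conj x).injective).symm.toEquiv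
  have hc2 : Nat.card ((Subgroup.normalizer (((default : Sylow r Y) : Subgroup Y) : Set Y)).map Y.subtype) =
      Nat.card (Subgroup.normalizer (((default : Sylow r Y) : Subgroup Y) : Set Y)) :=
    Nat.card_congr (Subgroup.equivMapOfInjective _ _ Y.subtype_injective).symm.toEquiv
  have h2 := Subgroup.eq_of_le_of_card_ge h1 (by rw [hc, hc2]; exact hN _)
  have h3 : M.map (MulAut.conj x).toMonoidHom ≤ Y := by
    rw [← h2]; exact Subgroup.map_subtype_le _
  rcases (conj_coatom hM x).le_iff.mp h3 with h4 | h4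
  · exact hY h4
  · rw [h4, hc] at hlt; exact lt_irrefl _ hlt

end H98.PGLMax11
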