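import Mathlib
import Cfsg.Agent.Lib.H98.PGLMax10
import Cfsg.Agent.Lib.H98.PGLMax11
import Cfsg.Agent.S5938
import Cfsg.Agent.S5941

set_option autoImplicit false

/-! Maximal subgroups of `PGL₂(F)` and `PSL₂(F)`: small dihedral groups. -/

namespace H98.PGLMax12

open MulAction Matrix OnePoint H98.Moebius H98.DicksonField H98.DicksonMoeb H98.DicksonNum H98.DicksonAbs H98.DicksonPGL
  H98.Dickson H98.DicksonPSL H98.DicksonIdx H98.DicksonDih H98.DicksonMax H98.DicksonSub H98.PGLMax1 H98.PGLMax2 H98.PGLMax3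
  H98.PGLMax4 H98.PGLMax5 H98.PGLMax6 H98.PGLMax7 H98.PGLMax8 H98.PGLMax9 H98.PGLMax10 H98.PGLMax11
open scoped H98.Moebius

variable {F : Type*} [Field F] [Finite F]

omit [Finite F] in
theorem coatom_of_covBy {P Q : Subgroup (ProjGenLinGroup (Fin 2) F)} (h : P ⋖ Q) : IsCoatom (P.subgroupOf Q) := by
  rw [← covBy_top_iff]
  refine ⟨?_, ?_⟩
  · rw [lt_top_iff_ne_top, ne_eq, Subgroup.subgroupOf_eq_top]
    exact not_le_of_gt h.lt
  · intro C h1 h2
    have e1 : C.map Q.subtype ≤ Q := by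
      rintro x ⟨y, -, rfl⟩; exact y.2
    have e2 : P ≤ C.map Q.subtype := by
      intro x hx
      exact ⟨⟨x, h.le hx⟩, h1.le (by rw [Subgroup.mem_subgroupOf]; exact hx), rfl⟩
    rcases h.wcovBy.eq_or_eq e2 e1 with h3 | h3
    · apply not_le_of_gt h1
      intro x hx
      rw [Subgroup.mem_subgroupOf, ← h3]
      exact ⟨x, hx, rfl⟩
    · apply not_le_of_gt h2
      intro x _
      have : (x : ProjGenLinGroup (Fin 2) F) ∈ C.map Q.subtype := by rw [h3]; exact x.2
      obtain ⟨y, hy, hyx⟩ := this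
      have : y = x := Subtype.ext hyx
      rwa [← this]

theorem exists_Y24 (hq : Nat.card F = 7 ∨ Nat.card F = 9) : ∃ Y : Subgroup (LL F), Nat.card Y = 24 := by
  letI := Fintype.ofFinite F
  obtain ⟨H, hH⟩ : ∃ H : Subgroup (Matrix.ProjectiveSpecialLinearGroup (Fin 2) F), Nat.card H = 24 := by
    rcases hq with hq | hq
    · haveI : Fact (Nat.Prime 7) := ⟨by norm_num⟩
      obtain ⟨H, -, hH⟩ := Cfsg.Agent.S5938.result (F := F) 7 (by rw [← Nat.card_eq_fintype_card]; exact hq) (by norm_num)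
      exact ⟨H, card_S4 hH⟩
    · haveI : Fact (Nat.Prime 3) := ⟨by norm_num⟩
      obtain ⟨H, -, ⟨e⟩⟩ := Cfsg.Agent.S5941.result (F := F) (K := ZMod 3) 3 (ZMod.card 3)
        (by rw [← Nat.card_eq_fintype_card, hq]; norm_num) (by decide)
      refine ⟨H, ?_⟩
      rw [Nat.card_congr e.toEquiv, card_pgl_eq, Nat.card_zmod]
  refine ⟨H.map (equivLL F).toMonoidHom, ?_⟩
  rw [← hH]
  exact (Nat.card_congr (H.equivMapOfInjective _ (equivLL F).injective).toEquiv).symm

theorem exists_Y60 (hq : Nat.card F = 9 ∨ Nat.card F = 11) : ∃ Y : Subgroup (LL F), Nat.card Y = 60 := by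
  letI := Fintype.ofFinite F
  obtain ⟨H, hH⟩ := (Cfsg.Agent.S0804.result (F := F) rfl).mpr (by
    rw [← Nat.card_eq_fintype_card]
    rcases hq with hq | hq <;> rw [hq] <;> norm_num)
  refine ⟨H.map (equivLL F).toMonoidHom, ?_⟩
  rw [← card_A5 hH]
  exact (Nat.card_congr (H.equivMapOfInjective _ (equivLL F).injective).toEquiv).symm

theorem not_dvd_index_of {L : Type*} [Group L] [Finite L] (H : Subgroup L) (r a b c : ℕ) (h1 : Nat.card L = a) (h2 : Nat.card H = b)
    (hab : b * c = a) (hb : 0 < b) (hc : ¬ r ∣ c) : ¬ r ∣ H.index := by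
  have h3 := Subgroup.card_mul_index H
  rw [h1, h2, ← hab] at h3
  rw [Nat.eq_of_mul_eq_mul_left hb h3]
  exact hc

theorem normalizer_ge {Y : Type*} [Group Y] [Finite Y] (r n : ℕ) [hr : Fact r.Prime] (hY : Nat.card Y = r * n) (hn : ¬ n ≡ 1 [MOD r])
    (S : Sylow r Y) : 2 * r ≤ Nat.card (Subgroup.normalizer ((S : Subgroup Y) : Set Y)) := by
  have h1 : r ∣ Nat.card (Subgroup.normalizer ((S : Subgroup Y) : Set Y)) := by
    have h2 : r ∣ Nat.card (S : Subgroup Y) := S.dvd_card_of_dvd_card (by rw [hY]; exact dvd_mul_right _ _)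
    exact h2.trans (Subgroup.card_dvd_of_le Subgroup.le_normalizer)
  obtain ⟨m, hm⟩ := h1
  have hm0 : m ≠ 0 := by
    rintro rfl
    rw [mul_zero] at hm
    exact Nat.card_pos.ne' hm
  have hm1 : m ≠ 1 := by
    rintro rfl
    rw [mul_one] at hm
    have h3 := Subgroup.card_mul_index (Subgroup.normalizer ((S : Subgroup Y) : Set Y))
    rw [hm, hY] at h3
    have h4 := Nat.eq_of_mul_eq_mul_left hr.out.pos h3
    have h5 := card_sylow_modEq_one r Y
    rw [Sylow.card_eq_index_normalizer S] at h5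
    have h6 : (Subgroup.normalizer (S : Set Y)).index = n := h4
    rw [h6] at h5
    exact hn h5
  rw [hm, mul_comm 2 r]
  exact Nat.mul_le_mul_left r (by omega)

/-- exclusion of `D₈` -/
theorem no_D8 (hq : Nat.card F = 7 ∨ Nat.card F = 9) {P : Subgroup (ProjGenLinGroup (Fin 2) F)} (h : P ⋖ LL F)
    (hP : Nat.card P = 8) : False := by
  haveI : Fact (Nat.Prime 2) := ⟨Nat.prime_two⟩
  have h1 := card_LL (F := F)
  have hodd : Odd (Nat.card F) := by rcases hq with h | h <;> rw [h] <;> decide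
  rw [gcd_odd hodd] at h1
  have hM : Nat.card (P.subgroupOf (LL F)) = 8 := by
    rw [← hP]; exact Nat.card_congr (Subgroup.subgroupOfEquivOfLe h.le).toEquiv
  obtain ⟨Y, hY⟩ := exists_Y24 (F := F) hq
  rcases hq with hq | hq
  · rw [hq] at h1
    have h2 : Nat.card (LL F) = 168 := by omega
    apply no_sylow 2 _ (coatom_of_covBy h) (IsPGroup.of_card (n := 3) hM) (not_dvd_index_of _ 2 168 8 21 h2 hM (by norm_num) (by norm_num)
      (by norm_num)) Y _ (not_dvd_index_of _ 2 168 24 7 h2 hY (by norm_num) (by norm_num) (by norm_num)) (by omega)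
    rintro rfl
    rw [Subgroup.card_top, h2] at hY; omega
  · rw [hq] at h1
    have h2 : Nat.card (LL F) = 360 := by omega
    apply no_sylow 2 _ (coatom_of_covBy h) (IsPGroup.of_card (n := 3) hM) (not_dvd_index_of _ 2 360 8 45 h2 hM (by norm_num) (by norm_num)
      (by norm_num)) Y _ (not_dvd_index_of _ 2 360 24 15 h2 hY (by norm_num) (by norm_num) (by norm_num)) (by omega)
    rintro rfl
    rw [Subgroup.card_top, h2] at hY; omega

/-- general exclusion of `D_{2k}`, `k` prime -/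
theorem no_Dk (h4 : 4 ≤ Nat.card F) {P : Subgroup (ProjGenLinGroup (Fin 2) F)} (h : P ⋖ LL F)
    {k n c a : ℕ} [hk : Fact k.Prime] (hk3 : 3 ≤ k) (e : P ≃* DihedralGroup k) (hL : Nat.card (LL F) = a) (hac : k * c = a) (hc : ¬ k ∣ c)
    (Y : Subgroup (LL F)) (hY : Nat.card Y = k * n) (hn : ¬ n ≡ 1 [MOD k]) (hYk : ¬ k ∣ Y.index) (hYt : Nat.card Y < a) (hn2 : 2 < n) :
    False := by
  haveI := simple_LL (F := F) h4
  haveI : NeZero k := ⟨hk.out.ne_zero⟩
  have hP : Nat.card P = 2 * k := by rw [Nat.card_congr e.toEquiv, DihedralGroup.nat_card]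
  have hM : Nat.card (P.subgroupOf (LL F)) = 2 * k := by
    rw [← hP]; exact Nat.card_congr (Subgroup.subgroupOfEquivOfLe h.le).toEquiv
  obtain ⟨x, hx, hox, -, hN⟩ := dihedral_aux h4 le_rfl h hk3 e
  let x' : LL F := ⟨x, h.le hx⟩
  have hox' : orderOf x' = k := by rw [← hox]; exact (Subgroup.orderOf_coe x').symm
  have hR : Nat.card (Subgroup.zpowers x') = k := by rw [Nat.card_zpowers, hox']
  have hRp : IsPGroup k (Subgroup.zpowers x') := IsPGroup.of_card (n := 1) (by rw [hR, pow_one])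
  have hRi : ¬ k ∣ (Subgroup.zpowers x').index := not_dvd_index_of _ k a k c hL hR hac hk.out.pos hc
  have hmem : ∀ z : LL F, z ∈ Subgroup.zpowers x' ↔ (z : ProjGenLinGroup (Fin 2) F) ∈ Subgroup.zpowers x := by
    intro z
    constructor
    · rintro ⟨i, rfl⟩; exact ⟨i, rfl⟩
    · rintro ⟨i, hi⟩; exact ⟨i, Subtype.ext hi⟩
  have hle : P.subgroupOf (LL F) ≤ Subgroup.normalizer ((hRp.toSylow hRi : Subgroup (LL F)) : Set (LL F)) := by
    intro y hy
    rw [Subgroup.mem_subgroupOf, ← hN] at hy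
    rw [IsPGroup.toSylow_coe, Subgroup.mem_normalizer_iff]
    intro z
    rw [hmem, hmem]
    exact Subgroup.mem_normalizer_iff.mp hy.1 z
  have hNR : Subgroup.normalizer ((hRp.toSylow hRi : Subgroup (LL F)) : Set (LL F)) = P.subgroupOf (LL F) := by
    rcases (coatom_of_covBy h).le_iff.mp hle with h1 | h1
    · exfalso
      rw [IsPGroup.toSylow_coe, Subgroup.normalizer_eq_top_iff] at h1
      rcases h1.eq_bot_or_eq_top with h2 | h2
      · rw [h2, Subgroup.card_bot] at hR; omega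
      · rw [h2, Subgroup.card_top, hL, ← hac] at hR
        have : c = 1 := by
          have h3 : k * c = k * 1 := by rw [hR, mul_one]
          exact Nat.eq_of_mul_eq_mul_left hk.out.pos h3
        subst this
        have h5 := Nat.le_of_lt hYt
        rw [hY, ← hac] at h5
        have := Nat.le_of_mul_le_mul_left h5 hk.out.pos
        omega
    · exact h1
  apply no_sylow_norm k _ (coatom_of_covBy h) (hRp.toSylow hRi) hNR Y _ hYk _ _
  · rintro rfl
    rw [Subgroup.card_top, hL] at hYt; exact lt_irrefl _ hYt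
  · rw [hM, hY, mul_comm 2 k]
    exact Nat.mul_lt_mul_of_pos_left hn2 hk.out.pos
  · intro S
    rw [hM]
    exact normalizer_ge k n hY hn S

theorem no_small (h4 : 4 ≤ Nat.card F) {P : Subgroup (ProjGenLinGroup (Fin 2) F)} (h : P ⋖ LL F) {k : ℕ} (e : P ≃* DihedralGroup k)
    (hqk : (Nat.card F = 7 ∧ (k = 3 ∨ k = 4)) ∨ (Nat.card F = 9 ∧ (k = 4 ∨ k = 5)) ∨ (Nat.card F = 11 ∧ k = 5)) : False := by
  have h1 := card_LL (F := F)
  have hodd : Odd (Nat.card F) := by rcases hqk with ⟨h, -⟩ | ⟨h, -⟩ | ⟨h, -⟩ <;> rw [h] <;> decide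
  rw [gcd_odd hodd] at h1
  rcases hqk with ⟨hq, hk | hk⟩ | ⟨hq, hk | hk⟩ | ⟨hq, hk⟩
  · subst hk
    haveI : Fact (Nat.Prime 3) := ⟨by norm_num⟩
    rw [hq] at h1
    have h2 : Nat.card (LL F) = 168 := by omega
    obtain ⟨Y, hY⟩ := exists_Y24 (F := F) (Or.inl hq)
    exact no_Dk h4 h (n := 8) (c := 56) le_rfl e h2 (by norm_num) (by norm_num) Y (by rw [hY]) (by decide)
      (not_dvd_index_of _ 3 168 24 7 h2 hY (by norm_num) (by norm_num) (by norm_num)) (by omega) (by norm_num)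
  · subst hk
    exact no_D8 (Or.inl hq) h (by rw [Nat.card_congr e.toEquiv, DihedralGroup.nat_card])
  · subst hk
    exact no_D8 (Or.inr hq) h (by rw [Nat.card_congr e.toEquiv, DihedralGroup.nat_card])
  · subst hk
    haveI : Fact (Nat.Prime 5) := ⟨by norm_num⟩
    rw [hq] at h1
    have h2 : Nat.card (LL F) = 360 := by omega
    obtain ⟨Y, hY⟩ := exists_Y60 (F := F) (Or.inl hq)
    exact no_Dk h4 h (n := 12) (c := 72) (by norm_num) e h2 (by norm_num) (by norm_num) Y (by rw [hY]) (by decide)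
      (not_dvd_index_of _ 5 360 60 6 h2 hY (by norm_num) (by norm_num) (by norm_num)) (by omega) (by norm_num)
  · subst hk
    haveI : Fact (Nat.Prime 5) := ⟨by norm_num⟩
    rw [hq] at h1
    have h2 : Nat.card (LL F) = 660 := by omega
    obtain ⟨Y, hY⟩ := exists_Y60 (F := F) (Or.inr hq)
    exact no_Dk h4 h (n := 12) (c := 132) (by norm_num) e h2 (by norm_num) (by norm_num) Y (by rw [hY]) (by decide)
      (not_dvd_index_of _ 5 660 60 11 h2 hY (by norm_num) (by norm_num) (by norm_num)) (by omega) (by norm_num)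

end H98.PGLMax12
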