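import Mathlib
import Cfsg.Agent.Lib.H98.PGLMax12

set_option autoImplicit false

/-! Maximal subgroups of `PGL₂(F)` and `PSL₂(F)`: the list. -/

namespace H98.PGLMax13

open MulAction Matrix OnePoint H98.Moebius H98.DicksonField H98.DicksonMoeb H98.DicksonNum H98.DicksonAbs H98.DicksonPGL
  H98.Dickson H98.DicksonPSL H98.DicksonIdx H98.DicksonDih H98.DicksonMax H98.DicksonSub H98.PGLMax1 H98.PGLMax2 H98.PGLMax3
  H98.PGLMax4 H98.PGLMax5 H98.PGLMax6 H98.PGLMax7 H98.PGLMax8 H98.PGLMax9 H98.PGLMax10 H98.PGLMax11 H98.PGLMax12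
open scoped H98.Moebius

variable {F : Type*} [Field F] [Finite F]

theorem dih2_comm : ∀ x y : DihedralGroup 2, x * y = y * x := by decide

set_option maxRecDepth 100000 in
theorem A4_squares : ∀ x : alternatingGroup (Fin 4), ∃ y z : alternatingGroup (Fin 4), x = y * y * (z * z) := by decide

/-- projection of the Dickson list for a subgroup `P` of `PGL₂(F)` -/
theorem list_sub [DecidableEq F] (p : ℕ) [hp : Fact p.Prime] [CharP F p] (P : Subgroup (ProjGenLinGroup (Fin 2) F)) :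
    (∀ x ∈ P, ∀ y ∈ P, x * y = y * x) ∨
    (∃ k : ℕ, 3 ≤ k ∧ ¬ p ∣ k ∧ Nonempty (P ≃* DihedralGroup k)) ∨
    (∃ x₀ : OnePoint F, ∀ g ∈ P, g • x₀ = x₀) ∨
    (p ≠ 2 ∧ p ≠ 3 ∧ Nonempty (P ≃* alternatingGroup (Fin 4))) ∨
    (p ≠ 2 ∧ p ≠ 3 ∧ Nonempty (P ≃* Equiv.Perm (Fin 4))) ∨
    (p ≠ 2 ∧ p ≠ 5 ∧ Nonempty (P ≃* alternatingGroup (Fin 5))) ∨
    (∃ (K : Subfield F) (g : ProjGenLinGroup (Fin 2) F), cj g P = XX K ∨ (Odd (Nat.card K) ∧ cj g P = YY K)) := by
  rcases dickson_pgl p P.subtype P.subtype_injective with ⟨hp1, hcyc⟩ | ⟨c, hc2, hcp, -, ⟨e⟩⟩ | ⟨hpH, x₀, hfix, -⟩ |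
    ⟨h1, h2, h⟩ | ⟨h1, h2, h⟩ | ⟨h1, h2, h⟩ | ⟨-, K, g, -, hK⟩
  · left
    intro x hx y hy
    obtain ⟨z, hz⟩ := hcyc.exists_generator
    obtain ⟨i, hi⟩ := hz ⟨x, hx⟩
    obtain ⟨j, hj⟩ := hz ⟨y, hy⟩
    have := (Commute.refl z).zpow_zpow i j
    have h2 : (⟨x, hx⟩ : P) * ⟨y, hy⟩ = ⟨y, hy⟩ * ⟨x, hx⟩ := by rw [← hi, ← hj]; exact this
    exact congrArg Subtype.val h2
  · rcases Nat.lt_or_ge (orderOf c) 3 with h3 | h3
    · left
      have h4 : orderOf c = 2 := by omega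
      rw [h4] at e
      intro x hx y hy
      have h5 : (⟨x, hx⟩ : P) * ⟨y, hy⟩ = ⟨y, hy⟩ * ⟨x, hx⟩ := by
        apply e.injective
        rw [map_mul, map_mul]; exact dih2_comm _ _
      exact congrArg Subtype.val h5
    · right; left
      exact ⟨orderOf c, h3, hcp, ⟨e⟩⟩
  · right; right; left
    exact ⟨x₀, fun g hg => hfix ⟨g, hg⟩⟩
  · right; right; right; left
    rw [h2] at h1
    exact ⟨by rintro rfl; exact h1 (by norm_num), by rintro rfl; exact h1 (by norm_num), h⟩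
  · right; right; right; right; left
    rw [h2] at h1
    exact ⟨by rintro rfl; exact h1 (by norm_num), by rintro rfl; exact h1 (by norm_num), h⟩
  · right; right; right; right; right; left
    rw [h2] at h1
    refine ⟨?_, ?_, h⟩
    · rintro rfl; have := h1 (by norm_num); omega
    · rintro rfl; have := h1 (by norm_num); omega
  · right; right; right; right; right; right
    rw [Subgroup.range_subtype] at hK
    exact ⟨K, g, hK⟩

/-- isomorphisms with small copies -/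
theorem small_pgl (K : Type*) [Field K] [Finite K] {X : Type*} [Group X] (e : X ≃* ProjGenLinGroup (Fin 2) K) :
    ∃ (F₀ : Type) (_ : Field F₀) (_ : Fintype F₀), Fintype.card F₀ = Nat.card K ∧ Nonempty (X ≃* ProjGenLinGroup (Fin 2) F₀) := by
  obtain ⟨K', i1, i2, hc, ⟨f⟩⟩ := exists_small K
  exact ⟨K', i1, i2, hc, ⟨e.trans (pglCongr f).symm⟩⟩

theorem small_psl (K : Type*) [Field K] [Finite K] {X : Type*} [Group X] (e : X ≃* Matrix.ProjectiveSpecialLinearGroup (Fin 2) K) :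
    ∃ (F₀ : Type) (_ : Field F₀) (_ : Fintype F₀), Fintype.card F₀ = Nat.card K ∧
      Nonempty (X ≃* Matrix.ProjectiveSpecialLinearGroup (Fin 2) F₀) := by
  obtain ⟨K', i1, i2, hc, ⟨f⟩⟩ := exists_small K
  refine ⟨K', i1, i2, hc, ⟨?_⟩⟩
  haveI : Finite (Matrix.ProjectiveSpecialLinearGroup (Fin 2) K) := inferInstanceAs (Finite (_ ⧸ _))
  haveI : Finite (Matrix.ProjectiveSpecialLinearGroup (Fin 2) K') := inferInstanceAs (Finite (_ ⧸ _))
  have hinj := pslMap_injective (f : K' →+* K)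
  have hcard : Nat.card (Matrix.ProjectiveSpecialLinearGroup (Fin 2) K') = Nat.card (Matrix.ProjectiveSpecialLinearGroup (Fin 2) K) := by
    have h1 := card_psl_eq K
    have h2 := card_psl_eq K'
    have h3 : Nat.card K' = Nat.card K := by rw [← hc, Nat.card_eq_fintype_card]
    rw [h3, ← h1] at h2
    exact Nat.eq_of_mul_eq_mul_left (Nat.gcd_pos_of_pos_left _ (by norm_num)) h2
  have hbij : Function.Bijective (pslMap (f : K' →+* K)) := (Nat.bijective_iff_injective_and_card _).mpr ⟨hinj, hcard⟩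
  exact e.trans (MulEquiv.ofBijective _ hbij).symm

/-- the classification of the maximal subgroups of `PSL₂(q)`, `q` odd -/
theorem class_LL (p : ℕ) [hp : Fact p.Prime] [CharP F p] (hodd : Odd (Nat.card F)) (h5 : 5 ≤ Nat.card F)
    {P : Subgroup (ProjGenLinGroup (Fin 2) F)} (h : P ⋖ LL F) :
    2 * Nat.card P = Nat.card F * (Nat.card F - 1) ∨
    (13 ≤ Nat.card F ∧ (∃ k : ℕ, 2 * k = Nat.card F - 1 ∧ Nonempty (P ≃* DihedralGroup k))) ∨
    (Nat.card F ≠ 7 ∧ Nat.card F ≠ 9 ∧ (∃ k : ℕ, 2 * k = Nat.card F + 1 ∧ Nonempty (P ≃* DihedralGroup k))) ∨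
    (∃ (F₀ : Type) (_ : Field F₀) (_ : Fintype F₀), Nat.card F = Fintype.card F₀ ^ 2 ∧
        Nonempty (P ≃* Matrix.ProjGenLinGroup (Fin 2) F₀)) ∨
    (∃ (F₀ : Type) (_ : Field F₀) (_ : Fintype F₀) (r : ℕ), r.Prime ∧ Odd r ∧ Nat.card F = Fintype.card F₀ ^ r ∧
        Nonempty (P ≃* Matrix.ProjectiveSpecialLinearGroup (Fin 2) F₀)) ∨
    ((Nat.card F % 10 = 1 ∨ Nat.card F % 10 = 9) ∧
        (Nat.card F = p ∨ (Nat.card F = p ^ 2 ∧ (p % 10 = 3 ∨ p % 10 = 7))) ∧
        Nonempty (P ≃* alternatingGroup (Fin 5))) ∨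
    (Nat.card F = p ∧ (p % 8 = 3 ∨ p % 8 = 5) ∧ ¬ (p % 10 = 1 ∨ p % 10 = 9) ∧
        Nonempty (P ≃* alternatingGroup (Fin 4))) ∨
    (Nat.card F = p ∧ (p % 8 = 1 ∨ p % 8 = 7) ∧ Nonempty (P ≃* Equiv.Perm (Fin 4))) := by
  classical
  rcases list_sub p P with h1 | ⟨k, hk, hpk, ⟨e⟩⟩ | ⟨x₀, hx₀⟩ | ⟨hp2, hp3, ⟨e⟩⟩ | ⟨hp2, hp3, ⟨e⟩⟩ | ⟨hp2, hp5, ⟨e⟩⟩ | ⟨K, g, hK⟩
  · exact absurd (not_comm (by omega) le_rfl h h1) (fun h => h)
  · have h2 := dihedral_LL p (by omega) h hk hpk e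
    rw [gcd_odd hodd] at h2
    have h3 : ¬ ((Nat.card F = 7 ∧ (k = 3 ∨ k = 4)) ∨ (Nat.card F = 9 ∧ (k = 4 ∨ k = 5)) ∨ (Nat.card F = 11 ∧ k = 5)) :=
      fun h' => no_small (by omega) h e h'
    rw [Nat.odd_iff] at hodd
    rcases h2 with h2 | h2
    · right; left
      exact ⟨by omega, k, h2, ⟨e⟩⟩
    · right; right; left
      exact ⟨by omega, by omega, k, h2, ⟨e⟩⟩
  · left
    have h2 := fixed_case le_rfl h x₀ hx₀
    have h3 := card_LL (F := F)
    rw [gcd_odd hodd, ← h2] at h3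
    have h4 : (Nat.card F + 1) * (2 * Nat.card P) = (Nat.card F + 1) * (Nat.card F * (Nat.card F - 1)) := by rw [← h3]; ring
    exact Nat.eq_of_mul_eq_mul_left (by omega) h4
  · right; right; right; right; right; right; left
    obtain ⟨h2, h3, h4⟩ := A4_case_LL p hp2 hp3 h5 h e
    exact ⟨h2, h3, h4, ⟨e⟩⟩
  · right; right; right; right; right; right; right
    obtain ⟨h2, h3⟩ := S4_case_LL p hp2 hp3 h e
    exact ⟨h2, h3, ⟨e⟩⟩
  · right; right; right; right; right; left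
    obtain ⟨h2, h3⟩ := A5_case_LL p hp2 hp5 h e
    exact ⟨h2, h3, ⟨e⟩⟩
  · have hcov := cj_covBy g normal_LL h
    have e1 : P ≃* cj g P := P.equivMapOfInjective _ (MulAut.conj g).injective
    rcases hK with hK | ⟨-, hK⟩
    · right; right; right; left
      rw [hK] at hcov
      have h2 := XX_case_LL hodd hcov
      have e2 : P ≃* ProjGenLinGroup (Fin 2) K :=
        (e1.trans (MulEquiv.subgroupCongr hK)).trans (MonoidHom.ofInjective (map_injective K.subtype)).symm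
      obtain ⟨F₀, i1, i2, hc, hE⟩ := small_pgl K e2
      exact ⟨F₀, i1, i2, by rw [hc, h2], hE⟩
    · right; right; right; right; left
      rw [hK] at hcov
      obtain ⟨r, hr, hro, h2⟩ := YY_case_LL hodd hcov
      have e2 : P ≃* Matrix.ProjectiveSpecialLinearGroup (Fin 2) K :=
        (e1.trans (MulEquiv.subgroupCongr hK)).trans (MonoidHom.ofInjective (pslHom_injective K.subtype)).symm
      obtain ⟨F₀, i1, i2, hc, hE⟩ := small_psl K e2
      exact ⟨F₀, i1, i2, r, hr, hro, by rw [hc, h2], hE⟩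

/-- maximal subgroups of `PSL₂(F)` inside `PGL₂(F)` -/
theorem covBy_of_psl {M : Subgroup (Matrix.ProjectiveSpecialLinearGroup (Fin 2) F)} (hM : IsCoatom M) :
    M.map ProjectiveSpecialLinearGroup.toPGL ⋖ LL F := by
  have hinj : Function.Injective (ProjectiveSpecialLinearGroup.toPGL : Matrix.ProjectiveSpecialLinearGroup (Fin 2) F →* _) :=
    ProjectiveSpecialLinearGroup.toPGL_injective
  rw [← range_toPGL]
  refine ⟨?_, ?_⟩
  · rw [MonoidHom.range_eq_map]
    refine lt_of_le_of_ne (Subgroup.map_mono le_top) ?_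
    intro h
    exact hM.1 (Subgroup.map_injective hinj h)
  · intro X h1 h2
    have h3 : M < X.comap ProjectiveSpecialLinearGroup.toPGL := by
      refine lt_of_le_of_ne (Subgroup.map_le_iff_le_comap.mp h1.le) ?_
      intro h4
      apply h1.ne
      rw [h4, Subgroup.map_comap_eq_self h2.le]
    have h4 := hM.2 _ h3
    apply h2.ne
    apply le_antisymm h2.le
    rintro x ⟨y, rfl⟩
    have : y ∈ X.comap ProjectiveSpecialLinearGroup.toPGL := by rw [h4]; trivial
    exact this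

/-- the classification of the maximal subgroups of `PGL₂(q)` not containing `PSL₂(q)` -/
theorem class_top (p : ℕ) [hp : Fact p.Prime] [CharP F p] (h4 : 4 ≤ Nat.card F)
    {P : Subgroup (ProjGenLinGroup (Fin 2) F)} (h : P ⋖ ⊤) (hL : p = 2 ∨ ¬ LL F ≤ P) :
    Nat.card P = Nat.card F * (Nat.card F - 1) ∨
    Nonempty (P ≃* DihedralGroup (Nat.card F - 1)) ∨
    Nonempty (P ≃* DihedralGroup (Nat.card F + 1)) ∨
    (Nat.card F = p ∧ (p % 8 = 3 ∨ p % 8 = 5) ∧ Nonempty (P ≃* Equiv.Perm (Fin 4))) ∨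
    (∃ (K : Subfield F) (r : ℕ), r.Prime ∧ (Odd (Nat.card F) → Odd r) ∧ Nat.card K ^ r = Nat.card F ∧
        Nonempty (P ≃* Matrix.ProjGenLinGroup (Fin 2) K)) := by
  classical
  have hodd : p ≠ 2 → Odd (Nat.card F) := fun h => odd_of_ne_two p h
  have hLP : ¬ LL F ≤ P := by
    rcases hL with rfl | h1
    · intro h1
      have h2 := index_LL (F := F)
      rw [gcd_even even_of_two (by omega), Subgroup.index_eq_one] at h2
      rw [h2, top_le_iff] at h1
      rw [h1] at h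
      exact lt_irrefl _ h.lt
    · exact h1
  have hnotle : p ≠ 2 → ¬ P ≤ LL F := by
    intro hp2 hle
    rcases eq_of_covBy h hle le_top with h1 | h1
    · exact hLP (le_of_eq h1)
    · exact LL_ne_top (hodd hp2) h1
  rcases list_sub p P with h1 | ⟨k, hk, hpk, ⟨e⟩⟩ | ⟨x₀, hx₀⟩ | ⟨hp2, hp3, ⟨e⟩⟩ | ⟨hp2, hp3, ⟨e⟩⟩ | ⟨hp2, hp5, ⟨e⟩⟩ | ⟨K, g, hK⟩
  · exact absurd (not_comm h4 le_top h h1) (fun h => h)
  · right
    rcases dihedral_top p h4 h hk hpk e with h2 | h2
    · left; rw [← h2]; exact ⟨e⟩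
    · right; left; rw [← h2]; exact ⟨e⟩
  · left
    have h2 := fixed_case le_top h x₀ hx₀
    rw [Subgroup.card_top, card_PGL] at h2
    exact Nat.eq_of_mul_eq_mul_left (by omega) h2
  · exfalso
    apply hnotle hp2
    intro x hx
    obtain ⟨y, z, hyz⟩ := A4_squares (e ⟨x, hx⟩)
    have h2 : (⟨x, hx⟩ : P) = (e.symm y) * (e.symm y) * ((e.symm z) * (e.symm z)) := by
      rw [← map_mul, ← map_mul, ← map_mul, ← hyz, MulEquiv.symm_apply_apply]
    have h3 : x = (e.symm y : ProjGenLinGroup (Fin 2) F) * (e.symm y) * ((e.symm z) * (e.symm z)) := congrArg Subtype.val h2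
    rw [h3]
    exact (LL F).mul_mem (sq_mem_LL _) (sq_mem_LL _)
  · right; right; right; left
    obtain ⟨h2, h3⟩ := S4_case_top p hp2 hp3 h hLP e
    exact ⟨h2, h3, ⟨e⟩⟩
  · exfalso
    apply hnotle hp2
    haveI : IsSimpleGroup P := (MulEquiv.isSimpleGroup_congr e).mpr alternatingGroup.isSimpleGroup_five
    have hn : ((LL F).subgroupOf P).Normal := inferInstance
    rcases hn.eq_bot_or_eq_top with h2 | h2
    · exfalso
      have h3 := card_le_inf P
      have h5 : P ⊓ LL F = ⊥ := by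
        rw [eq_bot_iff]
        rintro x ⟨hx, hx'⟩
        have : (⟨x, hx⟩ : P) ∈ (LL F).subgroupOf P := by rw [Subgroup.mem_subgroupOf]; exact hx'
        rw [h2] at this
        exact congrArg Subtype.val (Subgroup.mem_bot.mp this)
      rw [h5, Subgroup.card_bot, mul_one, card_A5 ⟨e⟩] at h3
      have := gcd_le_two (Nat.card F - 1)
      omega
    · rwa [Subgroup.subgroupOf_eq_top] at h2
  · have hcov := cj_covBy g Subgroup.normal_top h
    have e1 : P ≃* cj g P := P.equivMapOfInjective _ (MulAut.conj g).injective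
    rcases hK with hK | ⟨hKo, hK⟩
    · right; right; right; right
      have hL' : ¬ LL F ≤ XX K := by
        rw [← hK, LL_le_cj]; exact hLP
      rw [hK] at hcov
      obtain ⟨r, hr, hro, h2⟩ := XX_case_top hcov hL'
      have e2 : P ≃* ProjGenLinGroup (Fin 2) K :=
        (e1.trans (MulEquiv.subgroupCongr hK)).trans (MonoidHom.ofInjective (map_injective K.subtype)).symm
      exact ⟨K, r, hr, hro, h2, ⟨e2⟩⟩
    · exfalso
      have hp2 : p ≠ 2 := by
        rintro rfl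
        obtain ⟨a, ha1, ha⟩ := char_dvd (F := K) 2
        rw [ha] at hKo
        exact (Nat.not_even_iff_odd.mpr hKo) ((even_two).pow_of_ne_zero (by omega))
      apply hnotle hp2
      rw [← cj_le_LL g, hK]
      exact YY_le_LL K

end H98.PGLMax13
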