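import Mathlib
import Cfsg.Agent.Lib.H98.PGLMax13

set_option autoImplicit false

/-! `PGL₂(5)` has no maximal dihedral subgroup of order `8`. -/

namespace H98.PGLMax15

open MulAction Matrix OnePoint H98.Moebius H98.DicksonField H98.DicksonMoeb H98.DicksonNum H98.DicksonAbs H98.DicksonPGL
  H98.Dickson H98.DicksonPSL H98.DicksonIdx H98.DicksonDih H98.DicksonMax H98.DicksonSub H98.PGLMax1 H98.PGLMax2 H98.PGLMax3
  H98.PGLMax4 H98.PGLMax5 H98.PGLMax6 H98.PGLMax7 H98.PGLMax8 H98.PGLMax9 H98.PGLMax10 H98.PGLMax11 H98.PGLMax12 H98.PGLMax13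
open scoped H98.Moebius

variable {F : Type*} [Field F]

section std

variable (a b : F) (hab : a ^ 2 + b ^ 2 = -1) (h2 : (2 : F) ≠ 0)

theorem V0_sq : ∀ x ∈ V0 a b hab, x * x = 1 := by
  intro x hx
  unfold V0 at hx
  induction hx using Subgroup.closure_induction with
  | mem x hx =>
    simp only [Set.mem_insert_iff, Set.mem_singleton_iff] at hx
    rcases hx with rfl | rfl
    · exact cl_qi_sq a b hab
    · exact cl_qj_sq
  | one => exact one_mul 1
  | mul x y hx hy ihx ihy =>
    have hc := V0_comm a b hab x hx y hy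
    calc x * y * (x * y) = x * (y * x) * y := by group
      _ = x * (x * y) * y := by rw [hc]
      _ = (x * x) * (y * y) := by group
      _ = 1 := by rw [ihx, ihy, one_mul]
  | inv x hx ih =>
    rw [← _root_.mul_inv_rev, ih, inv_one]

variable [Finite F]

include h2 in
theorem four_dvd_V0 : 4 ∣ Nat.card (V0 a b hab) := by
  haveI : Fact (Nat.Prime 2) := ⟨Nat.prime_two⟩
  have h1 : IsPGroup 2 (V0 a b hab) := by
    intro x
    refine ⟨1, ?_⟩
    apply Subtype.ext
    rw [pow_one, pow_two]
    exact V0_sq a b hab _ x.2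
  obtain ⟨n, hn⟩ := IsPGroup.iff_card.mp h1
  have h3 := three_le_V0 a b hab h2
  rw [hn] at h3 ⊢
  have : 2 ≤ n := by
    by_contra hlt
    have : n = 0 ∨ n = 1 := by omega
    rcases this with h | h <;> rw [h] at h3 <;> omega
  exact pow_dvd_pow 2 this

omit [Finite F] in
theorem S0_cube : ProjGenLinGroup.mk (S0 a b hab h2) * ProjGenLinGroup.mk (S0 a b hab h2) * ProjGenLinGroup.mk (S0 a b hab h2) = 1 := by
  have h8 : (-8 : F) ≠ 0 := by
    have : (-8 : F) = -(2 * 2 * 2) := by norm_num
    rw [this]; exact neg_ne_zero.mpr (mul_ne_zero (mul_ne_zero h2 h2) h2)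
  rw [← map_mul, ← map_mul, ← map_one (ProjGenLinGroup.mk : GL (Fin 2) F →* _)]
  apply mk_eq_of_smul _ _ (-8) h8
  rw [Units.val_mul, Units.val_mul, S0_coe]
  ext i j
  fin_cases i <;> fin_cases j
  · simp [Matrix.mul_apply, Fin.sum_univ_two]; linear_combination (6 + 2 * a + 2 * b) * hab
  · simp [Matrix.mul_apply, Fin.sum_univ_two]; linear_combination (2 * b - 2 * a - 2) * hab
  · simp [Matrix.mul_apply, Fin.sum_univ_two]; linear_combination (2 * b - 2 * a + 2) * hab
  · simp [Matrix.mul_apply, Fin.sum_univ_two]; linear_combination (6 - 2 * a - 2 * b) * hab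

end std

theorem no_pgl5 [Finite F] (hq : Nat.card F = 5) {P : Subgroup (ProjGenLinGroup (Fin 2) F)} (h : P ⋖ ⊤) (hP : Nat.card P = 8) : False := by
  haveI : Fact (Nat.Prime 2) := ⟨Nat.prime_two⟩
  obtain ⟨p, hpc⟩ := CharP.exists F
  haveI hpp : Fact p.Prime := ⟨CharP.char_is_prime F p⟩
  have hodd : Odd (Nat.card F) := by rw [hq]; decide
  have h2 := two_ne_zero' (F := F) hodd
  obtain ⟨a, b, hab, hK⟩ := exists_ab (F := F) p
  have hG : Nat.card (ProjGenLinGroup (Fin 2) F) = 120 := by rw [card_PGL, hq]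
  let Y : Subgroup (ProjGenLinGroup (Fin 2) F) := Subgroup.normalizer (V0 a b hab : Set _)
  have hY : Y ≠ ⊤ := by
    intro hY
    have hY' : LL F ≤ Y := by rw [hY]; exact le_top
    have h3 := card_le_of_normal (by omega) (V0 a b hab) hY' (V0_comm a b hab)
    have h4 := three_le_V0 a b hab h2
    omega
  have hO := O0_le_norm a b hab h2
  -- 3 divides
  have h3 : 3 ∣ Nat.card Y := by
    have h5 : orderOf (ProjGenLinGroup.mk (S0 a b hab h2)) = 3 := by
      apply orderOf_eq_prime
      · rw [pow_succ, pow_two]; exact S0_cube a b hab h2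
      · intro h6
        have h7 := S0_i a b hab h2
        rw [h6, one_mul, mul_one] at h7
        exact cl_ne a b hab h2 h7
    have h6 := Subgroup.orderOf_dvd_natCard Y (hO (T0_le_O0 a b hab h2 (S0_mem_T0 a b hab h2)))
    rwa [h5] at h6
  -- 8 divides
  have h8 : 8 ∣ Nat.card Y := by
    have h5 : 4 ∣ Nat.card (Y ⊓ LL F : Subgroup _) := by
      refine (four_dvd_V0 a b hab h2).trans (Subgroup.card_dvd_of_le ?_)
      refine le_inf Subgroup.le_normalizer ?_
      unfold V0
      rw [Subgroup.closure_le]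
      intro x hx
      simp only [Set.mem_insert_iff, Set.mem_singleton_iff] at hx
      rcases hx with rfl | rfl <;> exact cl_mem_LL _
    have h6 : Nat.card (Y ⊓ LL F : Subgroup _) * (LL F).relIndex Y = Nat.card Y := by
      have := Subgroup.card_mul_index ((LL F).subgroupOf Y)
      rw [← this, Subgroup.relIndex]
      congr 1
      rw [← Subgroup.inf_subgroupOf_left]
      exact (Nat.card_congr (Subgroup.subgroupOfEquivOfLe inf_le_left).toEquiv).symm
    have h7 : (LL F).relIndex Y ∣ 2 := by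
      have := Subgroup.relIndex_dvd_index_of_normal (LL F) Y
      rwa [index_LL, gcd_odd hodd] at this
    have h9 : (LL F).relIndex Y ≠ 1 := by
      intro h10
      rw [Subgroup.relIndex_eq_one] at h10
      have h11 := h10 (hO (S1_mem_O0 a b hab h2))
      rw [S1_mem_LL, isSquare_two_iff', hq] at h11
      exact h11.2 (by norm_num)
    have h10 := ((Nat.dvd_prime Nat.prime_two).mp h7).resolve_left h9
    rw [← h6, h10]
    exact Nat.mul_dvd_mul h5 (dvd_refl 2)
  have h24 : 24 ∣ Nat.card Y := Nat.Coprime.mul_dvd_of_dvd_of_dvd (by norm_num : Nat.Coprime 3 8) h3 h8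
  obtain ⟨t, ht⟩ := h24
  have hY0 : 0 < Nat.card Y := Nat.card_pos
  have hmulY := Subgroup.card_mul_index Y
  rw [hG, ht, mul_assoc] at hmulY
  have h5 : t * Y.index = 5 := by omega
  apply no_sylow 2 P (covBy_top_iff.mp h) (IsPGroup.of_card (n := 3) hP) (not_dvd_index_of _ 2 120 8 15 hG hP (by norm_num) (by norm_num)
    (by norm_num)) Y hY
  · intro hd
    have : 2 ∣ t * Y.index := Dvd.dvd.mul_left hd _
    rw [h5] at this
    omega
  · rw [hP]; omega

end H98.PGLMax15
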