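import Mathlib
import Cfsg.Agent.Lib.H98.PGLMax13

set_option autoImplicit false

/-! Subfield subgroups of odd prime degree of `PSL₂(F)` are maximal. -/

namespace H98.PGLMax16

open MulAction Matrix OnePoint H98.Moebius H98.DicksonField H98.DicksonMoeb H98.DicksonNum H98.DicksonAbs H98.DicksonPGL
  H98.Dickson H98.DicksonPSL H98.DicksonIdx H98.DicksonDih H98.DicksonMax H98.DicksonSub H98.PGLMax1 H98.PGLMax2 H98.PGLMax3
  H98.PGLMax4 H98.PGLMax5 H98.PGLMax6 H98.PGLMax7 H98.PGLMax8 H98.PGLMax9 H98.PGLMax10 H98.PGLMax11 H98.PGLMax12 H98.PGLMax13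
open scoped H98.Moebius

theorem coatom_sub {F K : Type*} [Field F] [Finite F] [Field K] [Finite K] (r : ℕ) (hFK : Nat.card F = Nat.card K ^ r)
    (hKo : Odd (Nat.card K)) (hr : r.Prime) (hr2 : r ≠ 2) (f : K →+* F) : IsCoatom (pslMap f).range := by
  classical
  haveI hfG : Finite (Matrix.ProjectiveSpecialLinearGroup (Fin 2) F) := inferInstanceAs (Finite (_ ⧸ _))
  have h1K : 1 < Nat.card K := Finite.one_lt_card
  have hFo : Odd (Nat.card F) := by rw [hFK]; exact hKo.pow
  have h1F : 1 < Nat.card F := Finite.one_lt_card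
  let ψ := H98.DicksonSub.pslMap f
  have hψ : Function.Injective ψ := H98.DicksonSub.pslMap_injective f
  obtain ⟨p, hpc⟩ := CharP.exists F
  haveI hpp : Fact p.Prime := ⟨CharP.char_is_prime F p⟩
  have hpsl := H98.DicksonPGL.card_psl_eq K
  rw [H98.DicksonIdx.gcd_odd hKo] at hpsl
  have hpF := H98.DicksonPGL.card_psl_eq F
  rw [H98.DicksonIdx.gcd_odd hFo] at hpF
  have hc : 2 * Nat.card ψ.range = (Nat.card K + 1) * (Nat.card K * (Nat.card K - 1)) := by
    rw [← hpsl]
    congr 1
    exact (Nat.card_congr (MonoidHom.ofInjective hψ).toEquiv).symm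
  have hro : Odd r := hr.odd_of_ne_two hr2
  show IsCoatom ψ.range
  have hlt : Nat.card K < Nat.card F := by
    rw [hFK]
    calc Nat.card K = Nat.card K ^ 1 := (pow_one _).symm
      _ < Nat.card K ^ r := Nat.pow_lt_pow_right h1K hr.one_lt
  apply H98.DicksonMax.coatom_of
  · intro htop
    rw [htop, Subgroup.card_top, hpF] at hc
    have h2 : (Nat.card K + 1) * (Nat.card K * (Nat.card K - 1)) < (Nat.card F + 1) * (Nat.card F * (Nat.card F - 1)) :=
      Nat.mul_lt_mul_of_lt_of_le (by omega) (Nat.mul_le_mul hlt.le (by omega)) (Nat.mul_pos (by omega) (by omega))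
    omega
  · intro M hle hM
    have hMG : 2 * Nat.card M ∣ (Nat.card F + 1) * (Nat.card F * (Nat.card F - 1)) := by
      rw [← hpF]; exact Nat.mul_dvd_mul_left 2 (Subgroup.card_subgroup_dvd_card M)
    have hdM : Nat.card ψ.range ∣ Nat.card M := Subgroup.card_dvd_of_le hle
    have hleM := Nat.le_of_dvd Nat.card_pos hdM
    have hK3 : 3 ≤ Nat.card K := by obtain ⟨s, hs⟩ := hKo; omega
    rcases H98.DicksonSub.sub_list p K r hr hFK (by omega) ψ hψ M hM hle with h | ⟨-, h⟩ | ⟨h2, h3, h⟩ | ⟨h2, h5, h⟩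
    · exfalso
      rw [h] at hMG
      -- 2 (q^2 - 1) divides Q (Q^2-1)
      set N := Nat.card K ^ 2 - 1 with hN
      have hNe : Nat.card K ^ 2 = N + 1 := by
        have : 1 ≤ Nat.card K ^ 2 := Nat.one_le_pow _ _ (by omega)
        omega
      have e1 : 2 * ((Nat.card K + 1) * (Nat.card K * (Nat.card K - 1))) = (2 * N) * Nat.card K := by
        rw [hN, ← H98.DicksonSub.sq_sub_one _ h1K.le]; ring
      have e2 : (Nat.card F + 1) * (Nat.card F * (Nat.card F - 1)) = (Nat.card F ^ 2 - 1) * Nat.card F := by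
        rw [← H98.DicksonSub.sq_sub_one _ h1F.le]; ring
      rw [e1, e2] at hMG
      have hN2 : 2 ∣ N := by
        obtain ⟨s, hs⟩ := hKo
        rw [hN, hs]
        refine ⟨2 * s * s + 2 * s, ?_⟩
        have : (2 * s + 1) ^ 2 = 2 * (2 * s * s + 2 * s) + 1 := by ring
        omega
      have hcop : Nat.Coprime (2 * N) (Nat.card F) := by
        rw [hFK]
        apply Nat.Coprime.pow_right
        apply Nat.Coprime.mul_left
        · exact Nat.coprime_two_left.mpr hKo
        · have h1 : Nat.Coprime N (N + 1) := by simp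
          rw [← hNe] at h1
          exact Nat.Coprime.coprime_dvd_right (dvd_pow_self _ (by norm_num)) h1
      have h1 : 2 * N ∣ Nat.card F ^ 2 - 1 := hcop.dvd_of_dvd_mul_right ((Dvd.intro _ rfl).trans hMG)
      -- x^r = 1 + r N mod 2 N
      have key : ∀ j : ℕ, (N + 1) ^ j ≡ 1 + j * N [MOD (2 * N)] := by
        intro j
        induction j with
        | zero => simp; exact Nat.ModEq.refl _
        | succ j ih =>
          rw [pow_succ]
          refine (ih.mul_right (N + 1)).trans ?_
          obtain ⟨c, hc⟩ := hN2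
          have hNN : N * N = N * (2 * c) := congrArg (fun z => N * z) hc
          have e3 : (1 + j * N) * (N + 1) = 1 + (j + 1) * N + (2 * N) * (j * c) := by
            have h1 : (1 + j * N) * (N + 1) = 1 + (j + 1) * N + j * (N * N) := by ring
            rw [h1, hNN]; ring
          rw [e3]
          exact (Nat.modEq_iff_dvd' (by omega)).mpr (by simp) |>.symm
      have h2 : (N + 1) ^ r = Nat.card F ^ 2 := by
        rw [← hNe, hFK, ← pow_mul, ← pow_mul, mul_comm]
      have h3 := key r
      rw [h2] at h3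
      have h4 : Nat.card F ^ 2 ≡ 1 [MOD (2 * N)] :=
        ((Nat.modEq_iff_dvd' (Nat.one_le_pow _ _ (by omega))).mpr h1).symm
      have h5 := h4.symm.trans h3
      have h6 : 2 * N ∣ r * N := by
        have := (Nat.modEq_iff_dvd' (by omega)).mp h5
        simpa using this
      have hNpos : 0 < N := by
        have : 3 ^ 2 ≤ Nat.card K ^ 2 := Nat.pow_le_pow_left hK3 2
        omega
      have h7 := Nat.dvd_of_mul_dvd_mul_right hNpos h6
      rw [Nat.odd_iff] at hro
      omega
    · omega
    · exfalso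
      obtain ⟨a, ha1, ha⟩ := H98.DicksonIdx.char_dvd (F := F) p
      have hK5 : 5 ≤ Nat.card K := by
        by_contra hlt
        have hK3' : Nat.card K = 3 := by obtain ⟨s, hs⟩ := hKo; omega
        rw [hFK, hK3'] at ha
        have : p ∣ 3 ^ r := by rw [ha]; exact dvd_pow_self p (by omega)
        exact h3 ((Nat.prime_dvd_prime_iff_eq hpp.out Nat.prime_three).mp (hpp.out.dvd_of_dvd_pow this))
      have : 6 * (5 * 4) ≤ (Nat.card K + 1) * (Nat.card K * (Nat.card K - 1)) :=
        Nat.mul_le_mul (by omega) (Nat.mul_le_mul hK5 (by omega))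
      omega
    · exfalso
      obtain ⟨a, ha1, ha⟩ := H98.DicksonIdx.char_dvd (F := F) p
      have hK7 : Nat.card K < 7 := by
        by_contra hge
        have : 8 * (7 * 6) ≤ (Nat.card K + 1) * (Nat.card K * (Nat.card K - 1)) :=
          Nat.mul_le_mul (by omega) (Nat.mul_le_mul (by omega) (by omega))
        omega
      have hK5 : Nat.card K ≠ 5 := by
        intro hK5
        rw [hFK, hK5] at ha
        have : p ∣ 5 ^ r := by rw [ha]; exact dvd_pow_self p (by omega)
        exact h5 ((Nat.prime_dvd_prime_iff_eq hpp.out Nat.prime_five).mp (hpp.out.dvd_of_dvd_pow this))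
      have hK3' : Nat.card K = 3 := by obtain ⟨s, hs⟩ := hKo; omega
      rw [h] at hMG
      have h5G : 5 ∣ (Nat.card F + 1) * (Nat.card F * (Nat.card F - 1)) := (by norm_num : 5 ∣ 2 * 60).trans hMG
      have e2 : (Nat.card F + 1) * (Nat.card F * (Nat.card F - 1)) = (Nat.card F ^ 2 - 1) * Nat.card F := by
        rw [← H98.DicksonSub.sq_sub_one _ h1F.le]; ring
      rw [e2] at h5G
      have h5F : ¬ 5 ∣ Nat.card F := by
        rw [hFK, hK3']
        intro h6
        have := Nat.prime_five.dvd_of_dvd_pow h6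
        omega
      have h6 : 5 ∣ Nat.card F ^ 2 - 1 := ((Nat.Prime.dvd_mul Nat.prime_five).mp h5G).resolve_right h5F
      have h7 : Nat.card F ^ 2 ≡ 1 [MOD 5] := ((Nat.modEq_iff_dvd' (Nat.one_le_pow _ _ (by omega))).mpr h6).symm
      have h8 : ∀ s : ℕ, (3 ^ (2 * s + 1)) ^ 2 % 5 = 4 := by
        intro s
        induction s with
        | zero => norm_num
        | succ s ih =>
          have : (3 ^ (2 * (s + 1) + 1)) ^ 2 = 81 * (3 ^ (2 * s + 1)) ^ 2 := by ring
          rw [this, Nat.mul_mod, ih]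
      obtain ⟨s, hs⟩ := hro
      rw [hFK, hK3', hs] at h7
      have h9 := h8 s
      unfold Nat.ModEq at h7
      omega


end H98.PGLMax16
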