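import Mathlib
import Cfsg.Agent.Lib.H98.PGLMax16
import Cfsg.Agent.Lib.H98.PGLMax15

set_option autoImplicit false

/-! Maximal subgroups of `PGL₂(F)` meet `PSL₂(F)` maximally. -/

namespace H98.PGLMax17

open MulAction Matrix OnePoint H98.Moebius H98.DicksonField H98.DicksonMoeb H98.DicksonNum H98.DicksonAbs H98.DicksonPGL
  H98.Dickson H98.DicksonPSL H98.DicksonIdx H98.DicksonDih H98.DicksonMax H98.DicksonSub H98.PGLMax1 H98.PGLMax2 H98.PGLMax3
  H98.PGLMax4 H98.PGLMax5 H98.PGLMax6 H98.PGLMax7 H98.PGLMax8 H98.PGLMax9 H98.PGLMax10 H98.PGLMax11 H98.PGLMax12 H98.PGLMax13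
  H98.PGLMax16
open scoped H98.Moebius

variable {F : Type*} [Field F] [Finite F]

theorem YY_covBy (hodd : Odd (Nat.card F)) (K : Subfield F) (r : ℕ) (hr : r.Prime) (hro : Odd r) (h : Nat.card K ^ r = Nat.card F) :
    YY K ⋖ LL F := by
  have h1 := coatom_sub r h.symm (odd_card_sub hodd K) hr (by rintro rfl; exact absurd hro (by decide)) K.subtype
  have h2 := covBy_of_psl h1
  have h3 : (pslMap K.subtype).range.map ProjectiveSpecialLinearGroup.toPGL = YY K := by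
    ext x
    constructor
    · rintro ⟨y, ⟨z, rfl⟩, rfl⟩
      exact ⟨z, (toPGL_pslMap K.subtype z).symm⟩
    · rintro ⟨z, rfl⟩
      exact ⟨_, ⟨z, rfl⟩, toPGL_pslMap K.subtype z⟩
  rw [h3] at h2
  exact h2

theorem two_card_inter (hodd : Odd (Nat.card F)) {P : Subgroup (ProjGenLinGroup (Fin 2) F)} (h : ¬ P ≤ LL F) :
    2 * Nat.card (P ⊓ LL F : Subgroup _) = Nat.card P := by
  have h6 : Nat.card (P ⊓ LL F : Subgroup _) * (LL F).relIndex P = Nat.card P := by
    have := Subgroup.card_mul_index ((LL F).subgroupOf P)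
    rw [← this, Subgroup.relIndex]
    congr 1
    rw [← Subgroup.inf_subgroupOf_left]
    exact (Nat.card_congr (Subgroup.subgroupOfEquivOfLe inf_le_left).toEquiv).symm
  have h7 : (LL F).relIndex P ∣ 2 := by
    have := Subgroup.relIndex_dvd_index_of_normal (LL F) P
    rwa [index_LL, gcd_odd hodd] at this
  have h9 : (LL F).relIndex P ≠ 1 := by
    intro h10
    rw [Subgroup.relIndex_eq_one] at h10
    exact h h10
  have h10 := ((Nat.dvd_prime Nat.prime_two).mp h7).resolve_left h9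
  rw [← h6, h10, mul_comm]

/-- the cases of `X ⋖ LL` in terms of orders -/
theorem order_cases (p : ℕ) [hp : Fact p.Prime] [CharP F p] (hodd : Odd (Nat.card F)) (h5 : 5 ≤ Nat.card F)
    {X : Subgroup (ProjGenLinGroup (Fin 2) F)} (h : X ⋖ LL F) :
    2 * Nat.card X = Nat.card F * (Nat.card F - 1) ∨
    Nat.card X = Nat.card F - 1 ∨ Nat.card X = Nat.card F + 1 ∨
    (∃ f : ℕ, 3 ≤ f ∧ Nat.card F = f ^ 2 ∧ Nat.card X = (f + 1) * (f * (f - 1)) ∧
      ∀ x ∈ X, ¬ p ∣ orderOf x → (orderOf x ∣ f - 1 ∨ orderOf x ∣ f + 1)) ∨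
    (∃ f : ℕ, 3 ≤ f ∧ f ^ 3 ≤ Nat.card F ∧ 2 * Nat.card X = (f + 1) * (f * (f - 1))) ∨
    ((Nat.card F % 10 = 1 ∨ Nat.card F % 10 = 9) ∧ Nonempty (X ≃* alternatingGroup (Fin 5))) ∨
    ((Nat.card F % 8 = 3 ∨ Nat.card F % 8 = 5) ∧ Nonempty (X ≃* alternatingGroup (Fin 4))) ∨
    ((Nat.card F % 8 = 1 ∨ Nat.card F % 8 = 7) ∧ Nonempty (X ≃* Equiv.Perm (Fin 4))) := by
  rcases class_LL p hodd h5 h with h1 | ⟨-, k, hk, ⟨e⟩⟩ | ⟨-, -, k, hk, ⟨e⟩⟩ | ⟨F₀, i1, i2, h1, ⟨e⟩⟩ | ⟨F₀, i1, i2, r, hr, hro, h1, ⟨e⟩⟩ |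
    ⟨h1, -, h2⟩ | ⟨h1, h2, -, h3⟩ | ⟨h1, h2, h3⟩
  · exact Or.inl h1
  · right; left
    haveI : NeZero k := ⟨by omega⟩
    rw [Nat.card_congr e.toEquiv, DihedralGroup.nat_card, hk]
  · right; right; left
    haveI : NeZero k := ⟨by omega⟩
    rw [Nat.card_congr e.toEquiv, DihedralGroup.nat_card, hk]
  · right; right; right; left
    have hf1 : 1 < Fintype.card F₀ := Fintype.one_lt_card
    have hf2 : Fintype.card F₀ ≠ 2 := by
      intro h2; rw [h1, h2] at hodd; exact absurd hodd (by decide)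
    refine ⟨Fintype.card F₀, by omega, h1, ?_, ?_⟩
    · rw [Nat.card_congr e.toEquiv, card_pgl_eq, Nat.card_eq_fintype_card]
    · intro x hx hpx
      obtain ⟨f⟩ := exists_ringHom F₀ F 2 (by rw [h1, Nat.card_eq_fintype_card])
      haveI : CharP F₀ p := (RingHom.charP_iff f f.injective p).mpr ‹CharP F p›
      have h3 : orderOf x = orderOf (e ⟨x, hx⟩) := by
        rw [MulEquiv.orderOf_eq, ← Subgroup.orderOf_coe]
      rw [h3] at hpx ⊢
      have h4 := order_pgl_dvd (F := F₀) p (e ⟨x, hx⟩) hpx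
      rwa [Nat.card_eq_fintype_card] at h4
  · right; right; right; right; left
    have hf1 : 1 < Fintype.card F₀ := Fintype.one_lt_card
    have hr3 : 3 ≤ r := by
      have := hr.two_le
      rw [Nat.odd_iff] at hro; omega
    have hf2 : Odd (Fintype.card F₀) := by
      rw [← Nat.not_even_iff_odd]
      intro h2
      rw [h1] at hodd
      exact (Nat.not_even_iff_odd.mpr hodd) (h2.pow_of_ne_zero (by omega))
    refine ⟨Fintype.card F₀, ?_, ?_, ?_⟩
    · rw [Nat.odd_iff] at hf2; omega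
    · rw [h1]; exact Nat.pow_le_pow_right (by omega) hr3
    · have h3 := card_psl_eq F₀
      rw [Nat.card_eq_fintype_card (α := F₀), gcd_odd hf2, ← Nat.card_congr e.toEquiv] at h3
      exact h3
  · exact Or.inr (Or.inr (Or.inr (Or.inr (Or.inr (Or.inl ⟨h1, h2⟩)))))
  · exact Or.inr (Or.inr (Or.inr (Or.inr (Or.inr (Or.inr (Or.inl ⟨by rw [h1]; exact h2, h3⟩))))))
  · exact Or.inr (Or.inr (Or.inr (Or.inr (Or.inr (Or.inr (Or.inr ⟨by rw [h1]; exact h2, h3⟩))))))

theorem cube_bound (f q : ℕ) (hf : 3 ≤ f) (h : f ^ 3 ≤ q) : (f + 1) * (f * (f - 1)) + 2 ≤ 2 * (q - 1) := by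
  obtain ⟨j, rfl⟩ : ∃ j, f = j + 3 := ⟨f - 3, by omega⟩
  have h1 : (j + 3 + 1) * ((j + 3) * (j + 3 - 1)) + 4 ≤ 2 * (j + 3) ^ 3 := by
    have : j + 3 - 1 = j + 2 := by omega
    rw [this]
    nlinarith [Nat.zero_le j, Nat.zero_le (j ^ 2), Nat.zero_le (j ^ 3)]
  have h2 : 1 ≤ q := le_trans (Nat.one_le_pow _ _ (by omega)) h
  omega

/-- case: point stabilizers -/
theorem case_a (p : ℕ) [hp : Fact p.Prime] [CharP F p] (hodd : Odd (Nat.card F)) (h5 : 5 ≤ Nat.card F)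
    (h7 : Nat.card F ≠ 7) (h9 : Nat.card F ≠ 9) (h11 : Nat.card F ≠ 11)
    {N X : Subgroup (ProjGenLinGroup (Fin 2) F)} (h : X ⋖ LL F) (hNX : N ≤ X) (hN : 2 * Nat.card N = Nat.card F * (Nat.card F - 1)) :
    Nat.card X ≤ Nat.card N := by
  have hdvd := Subgroup.card_dvd_of_le hNX
  have hoddm := Nat.odd_iff.mp hodd
  rcases order_cases p hodd h5 h with h1 | h1 | h1 | ⟨f, hf3, hf, h1, -⟩ | ⟨f, hf3, hf, h1⟩ | ⟨h1, h2⟩ | ⟨h1, h2⟩ | ⟨h1, h2⟩
  · omega
  · have h2 : 5 * (Nat.card F - 1) ≤ Nat.card F * (Nat.card F - 1) := Nat.mul_le_mul_right _ h5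
    omega
  · have h2 : 5 * (Nat.card F - 1) ≤ Nat.card F * (Nat.card F - 1) := Nat.mul_le_mul_right _ h5
    omega
  · have h2 : 2 * ((f + 1) * (f * (f - 1))) ≤ Nat.card F * (Nat.card F - 1) := by
      rw [hf]
      obtain ⟨j, rfl⟩ : ∃ j, f = j + 3 := ⟨f - 3, by omega⟩
      have e1 : j + 3 - 1 = j + 2 := by omega
      have e2 : (j + 3) ^ 2 - 1 = (j + 4) * (j + 2) := by
        have : (j + 3) ^ 2 = (j + 4) * (j + 2) + 1 := by ring
        omega
      rw [e1, e2]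
      calc 2 * ((j + 3 + 1) * ((j + 3) * (j + 2))) = 2 * (j + 3) * ((j + 4) * (j + 2)) := by ring
        _ ≤ (j + 3) ^ 2 * ((j + 4) * (j + 2)) := by
          apply Nat.mul_le_mul_right
          nlinarith [Nat.zero_le j]
    omega
  · have h2 := cube_bound f _ hf3 hf
    have h3 : 5 * (Nat.card F - 1) ≤ Nat.card F * (Nat.card F - 1) := Nat.mul_le_mul_right _ h5
    omega
  · rw [card_A5 h2] at hdvd ⊢
    have h3 : 13 ≤ Nat.card F := by omega
    have h4 : 13 * 12 ≤ Nat.card F * (Nat.card F - 1) := Nat.mul_le_mul h3 (by omega)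
    omega
  · rw [card_A4 h2] at hdvd ⊢
    rcases (by omega : Nat.card F = 5 ∨ 13 ≤ Nat.card F) with h3 | h3
    · exfalso
      rw [h3] at hN
      have : Nat.card N = 10 := by omega
      rw [this] at hdvd; omega
    · have h4 : 13 * 12 ≤ Nat.card F * (Nat.card F - 1) := Nat.mul_le_mul h3 (by omega)
      omega
  · rw [card_S4 h2] at hdvd ⊢
    have h3 : 13 ≤ Nat.card F := by omega
    have h4 : 13 * 12 ≤ Nat.card F * (Nat.card F - 1) := Nat.mul_le_mul h3 (by omega)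
    omega

/-- case: `D_{2(q-1)}` -/
theorem case_b (p : ℕ) [hp : Fact p.Prime] [CharP F p] (hodd : Odd (Nat.card F)) (h13 : 13 ≤ Nat.card F)
    {N X : Subgroup (ProjGenLinGroup (Fin 2) F)} (h : X ⋖ LL F) (hNX : N ≤ X) (hN : Nat.card N = Nat.card F - 1)
    {c : ProjGenLinGroup (Fin 2) F} (hc : c ∈ N) (hoc : 2 * orderOf c = Nat.card F - 1) (hpc : ¬ p ∣ orderOf c) :
    Nat.card X ≤ Nat.card N := by
  have hdvd := Subgroup.card_dvd_of_le hNX
  have hoddm := Nat.odd_iff.mp hodd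
  rcases order_cases p hodd (by omega) h with h1 | h1 | h1 | ⟨f, hf3, hf, h1, ho⟩ | ⟨f, hf3, hf, h1⟩ | ⟨h1, h2⟩ | ⟨h1, h2⟩ | ⟨h1, h2⟩
  · exfalso
    obtain ⟨t, ht⟩ := hdvd
    rw [ht, hN] at h1
    have h2 : (Nat.card F - 1) * (2 * t) = (Nat.card F - 1) * Nat.card F := by
      calc (Nat.card F - 1) * (2 * t) = 2 * ((Nat.card F - 1) * t) := by ring
        _ = _ := by rw [h1, mul_comm]
    have h3 := Nat.eq_of_mul_eq_mul_left (by omega) h2
    omega
  · omega
  · exfalso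
    rw [h1, hN] at hdvd
    have h2 : Nat.card F + 1 = (Nat.card F - 1) + 2 := by omega
    rw [h2] at hdvd
    have h3 := Nat.le_of_dvd (by norm_num) ((Nat.dvd_add_right (dvd_refl _)).mp hdvd)
    omega
  · exfalso
    have h2 := ho c (hNX hc) hpc
    have h3 : orderOf c ≤ f + 1 := by
      rcases h2 with h2 | h2
      · have := Nat.le_of_dvd (by omega) h2; omega
      · exact Nat.le_of_dvd (by omega) h2
    have h4 : f ^ 2 ≤ 2 * (f + 1) + 1 := by omega
    have h5 : 13 ≤ f ^ 2 := by rw [← hf]; exact h13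
    nlinarith
  · have h2 := cube_bound f _ hf3 hf
    omega
  · exfalso
    rcases order_A5 h2 (hNX hc) with h3 | h3 | h3 <;> have := Nat.le_of_dvd (by norm_num) h3 <;> omega
  · rw [card_A4 h2, hN]; omega
  · exfalso
    rcases order_S4 h2 (hNX hc) with h3 | h3 | h3 <;> have := Nat.le_of_dvd (by norm_num) h3 <;> omega

/-- case: `D_{2(q+1)}` -/
theorem case_c (p : ℕ) [hp : Fact p.Prime] [CharP F p] (hodd : Odd (Nat.card F)) (h5 : 5 ≤ Nat.card F)
    (h7 : Nat.card F ≠ 7) (h9 : Nat.card F ≠ 9) (h11 : Nat.card F ≠ 11)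
    {N X : Subgroup (ProjGenLinGroup (Fin 2) F)} (h : X ⋖ LL F) (hNX : N ≤ X) (hN : Nat.card N = Nat.card F + 1)
    {c : ProjGenLinGroup (Fin 2) F} (hc : c ∈ N) (hoc : 2 * orderOf c = Nat.card F + 1) :
    Nat.card X ≤ Nat.card N := by
  have hdvd := Subgroup.card_dvd_of_le hNX
  have hoddm := Nat.odd_iff.mp hodd
  rcases order_cases p hodd (by omega) h with h1 | h1 | h1 | ⟨f, hf3, hf, h1, ho⟩ | ⟨f, hf3, hf, h1⟩ | ⟨h1, h2⟩ | ⟨h1, h2⟩ | ⟨h1, h2⟩
  · exfalso
    have h2 : Nat.card F + 1 ∣ Nat.card F * (Nat.card F - 1) := by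
      rw [← h1, ← hN]; exact Dvd.dvd.mul_left hdvd 2
    obtain ⟨j, hj⟩ : ∃ j, Nat.card F = j + 2 := ⟨Nat.card F - 2, by omega⟩
    rw [hj] at h2
    have e : (j + 2) * (j + 2 - 1) = (j + 2 + 1) * j + 2 := by
      have : j + 2 - 1 = j + 1 := by omega
      rw [this]; ring
    rw [e] at h2
    have h3 := Nat.le_of_dvd (by norm_num) ((Nat.dvd_add_right (dvd_mul_right _ _)).mp h2)
    omega
  · omega
  · omega
  · exfalso
    rw [h1, hN, hf] at hdvd
    obtain ⟨j, rfl⟩ : ∃ j, f = j + 3 := ⟨f - 3, by omega⟩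
    have e : (j + 3 + 1) * ((j + 3) * (j + 3 - 1)) + 2 * (j + 3) = ((j + 3) ^ 2 + 1) * (j + 3) := by
      have : j + 3 - 1 = j + 2 := by omega
      rw [this]; ring
    have h2 : (j + 3) ^ 2 + 1 ∣ 2 * (j + 3) := by
      have h3 : (j + 3) ^ 2 + 1 ∣ (j + 3 + 1) * ((j + 3) * (j + 3 - 1)) + 2 * (j + 3) := by rw [e]; exact dvd_mul_right _ _
      exact (Nat.dvd_add_right hdvd).mp h3
    have h3 := Nat.le_of_dvd (by omega) h2
    nlinarith [Nat.zero_le j]
  · have h2 := cube_bound f _ hf3 hf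
    omega
  · exfalso
    rcases order_A5 h2 (hNX hc) with h3 | h3 | h3 <;> have := Nat.le_of_dvd (by norm_num) h3 <;> omega
  · rcases (by omega : Nat.card F = 5 ∨ 13 ≤ Nat.card F) with h3 | h3
    · exfalso
      exact A4_no_six h2 hNX (by rw [hN, h3])
    · rw [card_A4 h2, hN]; omega
  · exfalso
    rcases order_S4 h2 (hNX hc) with h3 | h3 | h3 <;> have := Nat.le_of_dvd (by norm_num) h3 <;> omega

set_option maxRecDepth 100000 in
theorem S4_cycles : (∃ x y : Equiv.Perm (Fin 4), x = (x * x) * (x * x) ∧ y = (y * y) * (y * y) ∧ x * x * (y * y) ≠ y * y * (x * x)) ∧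
    ∃ a b : Equiv.Perm (Fin 4), a = (a * a) * (a * a) ∧ b = (b * b) * (b * b) ∧
      (a * b * a⁻¹ * b⁻¹) * (a * b * a⁻¹ * b⁻¹) = 1 ∧ a * b * a⁻¹ * b⁻¹ ≠ 1 := by
  constructor <;> decide +kernel

/-- case: `S₄` -/
theorem case_d (p : ℕ) [hp : Fact p.Prime] [CharP F p] (hodd : Odd (Nat.card F)) (h5 : 5 ≤ Nat.card F) (hp2 : p ≠ 2)
    (hprime : (Nat.card F).Prime) (h8 : Nat.card F % 8 = 3 ∨ Nat.card F % 8 = 5) (h10 : ¬ (Nat.card F % 10 = 1 ∨ Nat.card F % 10 = 9))
    {P X : Subgroup (ProjGenLinGroup (Fin 2) F)} (hX : X ⋖ LL F) (hNX : P ⊓ LL F ≤ X) (hN : Nat.card (P ⊓ LL F : Subgroup _) = 12)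
    (e : P ≃* Equiv.Perm (Fin 4)) : Nat.card X ≤ Nat.card (P ⊓ LL F : Subgroup _) := by
  classical
  obtain ⟨⟨x, y, hx, hy, hxy⟩, a, b, ha, hb, hab, hab1⟩ := S4_cycles
  have lift : ∀ z : Equiv.Perm (Fin 4), z = (z * z) * (z * z) → (e.symm z : ProjGenLinGroup (Fin 2) F) ∈ X := by
    intro z hz
    apply hNX
    refine ⟨(e.symm z).2, ?_⟩
    have h1 : (e.symm z : ProjGenLinGroup (Fin 2) F) = (e.symm (z * z) : ProjGenLinGroup (Fin 2) F) * (e.symm (z * z) : ProjGenLinGroup (Fin 2) F) := by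
      rw [← Subgroup.coe_mul, ← map_mul, ← hz]
    rw [SetLike.mem_coe, h1]; exact sq_mem_LL _
  let u : X := ⟨_, lift x hx⟩
  let v : X := ⟨_, lift y hy⟩
  let s : X := ⟨_, lift a ha⟩
  let t : X := ⟨_, lift b hb⟩
  have huv : u * u * (v * v) ≠ v * v * (u * u) := by
    intro h
    apply hxy
    apply e.symm.injective
    apply Subtype.ext
    have := congrArg Subtype.val h
    simpa [u, v] using this
  have hst : (s * t * s⁻¹ * t⁻¹) * (s * t * s⁻¹ * t⁻¹) = 1 := by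
    apply Subtype.ext
    have := congrArg (fun z => (e.symm z : ProjGenLinGroup (Fin 2) F)) hab
    simpa [s, t] using this
  have hst1 : s * t * s⁻¹ * t⁻¹ ≠ 1 := by
    intro h
    apply hab1
    apply e.symm.injective
    apply Subtype.ext
    have := congrArg Subtype.val h
    simpa [s, t] using this
  rcases list_sub p X with h1 | ⟨k, hk, hpk, ⟨f⟩⟩ | ⟨x₀, hx₀⟩ | ⟨-, hp3, ⟨f⟩⟩ | ⟨-, hp3, ⟨f⟩⟩ | ⟨-, hp5, ⟨f⟩⟩ | ⟨K, g, hK⟩
  · exact absurd (Subtype.ext (h1 _ (u * u).2 _ (v * v).2)) huv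
  · exfalso
    apply huv
    apply f.injective
    simp only [map_mul]
    exact DicksonSmall.dih_sq _ _
  · exfalso
    have hσ : Function.Injective X.subtype := X.subtype_injective
    have h2 := (commutator_of_fixed p X.subtype hσ x₀ (fun g => hx₀ g.1 g.2)).1 (s * t * s⁻¹ * t⁻¹) (by
      rw [commutator_def]
      exact Subgroup.commutator_mem_commutator (Subgroup.mem_top s) (Subgroup.mem_top t))
    apply hst1
    obtain ⟨m, hm⟩ := hp.out.odd_of_ne_two hp2
    rw [hm, pow_succ, pow_mul, pow_two, hst, one_pow, one_mul] at h2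
    exact h2
  · rw [hN, card_A4 ⟨f⟩]
  · exfalso
    have h1 := S4_case_LL p hp2 hp3 hX f
    rw [h1.1] at h8
    omega
  · exact absurd (A5_case_LL p hp2 hp5 hX f).1 h10
  · exfalso
    have hcov := cj_covBy g normal_LL hX
    rcases hK with hK | ⟨-, hK⟩
    · rw [hK] at hcov
      have h1 := XX_case_LL hodd hcov
      rw [← h1] at hprime
      exact Nat.Prime.not_prime_pow le_rfl hprime
    · rw [hK] at hcov
      obtain ⟨r, hr, hro, h1⟩ := YY_case_LL hodd hcov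
      rw [← h1] at hprime
      exact Nat.Prime.not_prime_pow hr.two_le hprime

/-- the intersection is maximal -/
theorem inter_covBy (p : ℕ) [hp : Fact p.Prime] [CharP F p] (hodd : Odd (Nat.card F)) (h5 : 5 ≤ Nat.card F)
    (h7 : Nat.card F ≠ 7) (h9 : Nat.card F ≠ 9) (h11 : Nat.card F ≠ 11)
    (h40 : (Nat.card F).Prime → Nat.card F % 40 ∉ ({11, 19, 21, 29} : Finset ℕ))
    {P : Subgroup (ProjGenLinGroup (Fin 2) F)} (h : P ⋖ ⊤) (hL : ¬ LL F ≤ P) : P ⊓ LL F ⋖ LL F := by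
  classical
  have hp2 : p ≠ 2 := by
    rintro rfl
    exact (Nat.not_even_iff_odd.mpr hodd) even_of_two
  have hoddm := Nat.odd_iff.mp hodd
  have hnot : ¬ P ≤ LL F := by
    intro hle
    rcases eq_of_covBy h hle le_top with h1 | h1
    · exact hL (le_of_eq h1)
    · exact LL_ne_top hodd h1
  have hcard := two_card_inter hodd hnot
  have hlt : P ⊓ LL F < LL F := lt_of_le_of_ne inf_le_right (fun h1 => hL (inf_eq_right.mp h1))
  obtain ⟨X, hNX, hX⟩ := exists_le_covBy_of_lt hlt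
  have fin : Nat.card X ≤ Nat.card (P ⊓ LL F : Subgroup _) → P ⊓ LL F ⋖ LL F := by
    intro h1
    rw [Subgroup.eq_of_le_of_card_ge hNX h1]; exact hX
  -- rotations
  have rot : ∀ k : ℕ, 3 ≤ k → 2 ∣ k → (P ≃* DihedralGroup k) → ∃ c ∈ P ⊓ LL F, 2 * orderOf c = k := by
    intro k hk hk2 e
    obtain ⟨c, hc, hoc, -, -⟩ := dihedral_aux (by omega) le_top h hk e
    refine ⟨c * c, ⟨P.mul_mem hc hc, sq_mem_LL c⟩, ?_⟩
    obtain ⟨m, hm⟩ := hk2
    rw [← pow_two, orderOf_pow_of_dvd (by norm_num) (by rw [hoc, hm]; exact dvd_mul_right _ _), hoc, hm]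
    omega
  rcases list_sub p P with h1 | ⟨k, hk, hpk, ⟨e⟩⟩ | ⟨x₀, hx₀⟩ | ⟨-, hp3, ⟨e⟩⟩ | ⟨-, hp3, ⟨e⟩⟩ | ⟨-, hp5, ⟨e⟩⟩ | ⟨K, g, hK⟩
  · exact absurd (not_comm (by omega) le_top h h1) (fun h => h)
  · haveI : NeZero k := ⟨by omega⟩
    rw [Nat.card_congr e.toEquiv, DihedralGroup.nat_card] at hcard
    rcases dihedral_top p (by omega) h hk hpk e with h2 | h2
    · obtain ⟨c, hc, hoc⟩ := rot k hk (by omega) e
      have hpc : ¬ p ∣ orderOf c := by
        intro hd
        apply hpk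
        rw [← hoc]; exact Dvd.dvd.mul_left hd 2
      rcases (by omega : Nat.card F = 5 ∨ 13 ≤ Nat.card F) with h3 | h3
      · exfalso
        apply PGLMax15.no_pgl5 h3 h
        rw [Nat.card_congr e.toEquiv, DihedralGroup.nat_card]; omega
      · exact fin (case_b p hodd h3 hX hNX (by omega) hc (by omega) hpc)
    · obtain ⟨c, hc, hoc⟩ := rot k hk (by omega) e
      exact fin (case_c p hodd h5 h7 h9 h11 hX hNX (by omega) hc (by omega))
  · have h2 := fixed_case le_top h x₀ hx₀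
    rw [Subgroup.card_top, card_PGL] at h2
    have h3 := Nat.eq_of_mul_eq_mul_left (by omega) h2
    exact fin (case_a p hodd h5 h7 h9 h11 hX hNX (by omega))
  · exfalso
    apply hnot
    intro x hx
    obtain ⟨y, z, hyz⟩ := A4_squares (e ⟨x, hx⟩)
    have h2 : (⟨x, hx⟩ : P) = (e.symm y) * (e.symm y) * ((e.symm z) * (e.symm z)) := by
      rw [← map_mul, ← map_mul, ← map_mul, ← hyz, MulEquiv.symm_apply_apply]
    have h3 : x = (e.symm y : ProjGenLinGroup (Fin 2) F) * (e.symm y) * ((e.symm z) * (e.symm z)) := congrArg Subtype.val h2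
    rw [h3]
    exact (LL F).mul_mem (sq_mem_LL _) (sq_mem_LL _)
  · obtain ⟨h2, h3⟩ := S4_case_top p hp2 hp3 h hL e
    have hcP : Nat.card P = 24 := card_S4 ⟨e⟩
    have hpr : (Nat.card F).Prime := by rw [h2]; exact hp.out
    have h6 := h40 hpr
    rw [← h2] at h3
    refine fin (case_d p hodd h5 hp2 hpr h3 ?_ hX hNX (by omega) e)
    intro h10
    apply h6
    simp only [Finset.mem_insert, Finset.mem_singleton]
    omega
  · exfalso
    apply hnot
    haveI : IsSimpleGroup P := (MulEquiv.isSimpleGroup_congr e).mpr alternatingGroup.isSimpleGroup_five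
    have hn : ((LL F).subgroupOf P).Normal := inferInstance
    rcases hn.eq_bot_or_eq_top with h2 | h2
    · exfalso
      have h3 := card_le_inf P
      have h5 : P ⊓ LL F = ⊥ := by
        rw [eq_bot_iff]
        rintro x ⟨hx, hx'⟩
        have : (⟨x, hx⟩ : P) ∈ (LL F).subgroupOf P := by rw [Subgroup.mem_subgroupOf]; exact hx'
        rw [h2] at this
        exact congrArg Subtype.val (Subgroup.mem_bot.mp this)
      rw [h5, Subgroup.card_bot, mul_one, card_A5 ⟨e⟩] at h3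
      have := gcd_le_two (Nat.card F - 1)
      omega
    · rwa [Subgroup.subgroupOf_eq_top] at h2
  · have hcov := cj_covBy g Subgroup.normal_top h
    rcases hK with hK | ⟨-, hK⟩
    · have hL' : ¬ LL F ≤ XX K := by
        rw [← hK, LL_le_cj]; exact hL
      rw [hK] at hcov
      obtain ⟨r, hr, hro, h2⟩ := XX_case_top hcov hL'
      have hYY := YY_covBy hodd K r hr (hro hodd) h2
      -- the intersection
      have h3 : cj g (P ⊓ LL F) = YY K := by
        symm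
        apply Subgroup.eq_of_le_of_card_ge
        · intro x hx
          have hx1 : x ∈ cj g P := by rw [hK]; exact YY_le_XX K hx
          obtain ⟨y, hy, rfl⟩ := hx1
          exact ⟨y, ⟨hy, (conj_mem_LL g).mp (YY_le_LL K hx)⟩, rfl⟩
        · rw [card_cj]
          have h4 : Nat.card P = (Nat.card K + 1) * (Nat.card K * (Nat.card K - 1)) := by
            rw [← card_XX, ← hK, card_cj]
          have h6 := card_YY K
          rw [gcd_odd (odd_card_sub hodd _)] at h6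
          omega
      have h4 := cj_covBy g⁻¹ normal_LL hYY
      rw [← h3] at h4
      have h6 : cj g⁻¹ (cj g (P ⊓ LL F)) = P ⊓ LL F := by
        ext x
        constructor
        · rintro ⟨_, ⟨y, hy, rfl⟩, rfl⟩
          have : (MulAut.conj g⁻¹).toMonoidHom ((MulAut.conj g).toMonoidHom y) = y := by
            show g⁻¹ * (g * y * g⁻¹) * g⁻¹⁻¹ = y
            group
          rw [this]; exact hy
        · intro hx
          refine ⟨_, ⟨x, hx, rfl⟩, ?_⟩
          show g⁻¹ * (g * x * g⁻¹) * g⁻¹⁻¹ = x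
          group
      rw [h6] at h4
      exact h4
    · exfalso
      apply hnot
      rw [← cj_le_LL g, hK]
      exact YY_le_LL K

end H98.PGLMax17
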