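import Cfsg.Agent.Lib.H89.MX0
import Cfsg.Agent.Lib.H81.MXC
import Cfsg.Agent.Lib.H21.MXFE

/-!
# S5316, piece FA (core: with `ext`, `invK3`, `eig` as hypotheses)
-/

set_option autoImplicit false
set_option linter.unusedSectionVars false
set_option linter.unusedVariables false

open Subgroup Cfsg Cfsg.FusionSystem H67.HallPetrescu H57.Mc H89.MX
open H86.FusBasic H86.FusSat

namespace H98.MXFA

variable {Ω : Type*} [Group Ω] {S : Subgroup Ω} [Finite S] {p n : ℕ} [hp : Fact p.Prime] {F : FusionSystem S}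
  {E C W B : Subgroup Ω} {τ : MulAut E}

theorem mem_K {i : ℕ} (x : ↥S) : (x : Ω) ∈ K S i ↔ x ∈ lcsF ↥S i := by
  unfold K
  constructor
  · rintro ⟨y, hy, hyx⟩
    have : y = x := Subtype.ext hyx
    rwa [← this]
  · intro h
    exact ⟨x, h, rfl⟩

theorem K_le (i : ℕ) : K S i ≤ S := Subgroup.map_subtype_le _

theorem K_anti {i j : ℕ} (h : i ≤ j) : K S j ≤ K S i := Subgroup.map_mono (lcsF_anti h)

theorem card_K (i : ℕ) : Nat.card (K S i) = Nat.card (lcsF ↥S i) :=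
  (Nat.card_congr ((lcsF ↥S i).equivMapOfInjective S.subtype S.subtype_injective).toEquiv.symm)

theorem K_normal (i : ℕ) : ∀ g ∈ S, ∀ v ∈ K S i, g * v * g⁻¹ ∈ K S i := by
  intro g hg v hv
  have hvS : v ∈ S := K_le i hv
  have h1 : (⟨v, hvS⟩ : ↥S) ∈ lcsF ↥S i := (mem_K (⟨v, hvS⟩ : ↥S)).1 hv
  have hn : (lcsF ↥S i).Normal := by unfold lcsF; infer_instance
  have h2 := hn.conj_mem _ h1 ⟨g, hg⟩
  exact (mem_K _).2 h2

theorem K_comm (i : ℕ) (hi : 1 ≤ i) : ∀ g ∈ S, ∀ v ∈ K S i, v * g * v⁻¹ * g⁻¹ ∈ K S (i + 1) := by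
  intro g hg v hv
  have hvS : v ∈ S := K_le i hv
  have h1 : (⟨v, hvS⟩ : ↥S) ∈ lcsF ↥S i := (mem_K (⟨v, hvS⟩ : ↥S)).1 hv
  have h2 : (⟨g, hg⟩ : ↥S) ∈ lcsF ↥S 1 := by
    have : lcsF ↥S 1 = ⊤ := by unfold lcsF; simp
    rw [this]; trivial
  have h3 := lcsF_comm (G := ↥S) i 1 (commutator_mem_commutator h1 h2)
  exact (mem_K _).2 h3

/-- decomposition `E = W B` -/
theorem decomp (D : Dat S p n F E) (H : Tau S p F E C τ W B) : ∀ x ∈ E, ∃ w ∈ W, ∃ b ∈ B, w * b = x := by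
  have hBE : B ≤ E := H.BC.trans H.CE
  have hWn : ∀ w ∈ W, ∀ b ∈ B, w * b = b * w := fun w hw b hb => D.comm w (H.WE hw) b (hBE hb)
  intro x hx
  rw [← H.sup, sup_eq_closure_mul] at hx
  refine closure_induction (p := fun x _ => ∃ w ∈ W, ∃ b ∈ B, w * b = x) ?_ ?_ ?_ ?_ hx
  · rintro _ ⟨w, hw, b, hb, rfl⟩
    exact ⟨w, hw, b, hb, rfl⟩
  · exact ⟨1, one_mem _, 1, one_mem _, one_mul 1⟩
  · rintro _ _ - - ⟨w, hw, b, hb, rfl⟩ ⟨w', hw', b', hb', rfl⟩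
    refine ⟨w * w', mul_mem hw hw', b * b', mul_mem hb hb', ?_⟩
    have := hWn w' hw' b hb
    calc w * w' * (b * b') = w * (w' * b) * b' := by group
      _ = _ := by rw [this]; group
  · rintro _ - ⟨w, hw, b, hb, rfl⟩
    refine ⟨w⁻¹, inv_mem hw, b⁻¹, inv_mem hb, ?_⟩
    rw [hWn w⁻¹ (inv_mem hw) b⁻¹ (inv_mem hb)]
    group

/-- `z * τ z ∈ B` for `z ∈ E` -/
theorem mul_tau_mem (D : Dat S p n F E) (H : Tau S p F E C τ W B) (z : E) : (z : Ω) * ((τ z : E) : Ω) ∈ B := by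
  have hBE : B ≤ E := H.BC.trans H.CE
  obtain ⟨w, hw, b, hb, hwb⟩ := decomp D H z z.2
  have hcw : z = ⟨w, H.WE hw⟩ * ⟨b, hBE hb⟩ := Subtype.ext hwb.symm
  have h1 : τ z = (⟨w, H.WE hw⟩ : E)⁻¹ * ⟨b, hBE hb⟩ := by
    rw [hcw, map_mul, H.inv ⟨w, H.WE hw⟩ hw, H.fix ⟨b, hBE hb⟩ hb]
  rw [h1, ← hwb]
  have h2 : w * b * (w⁻¹ * b) = b * b := by
    rw [D.comm w (H.WE hw) b (hBE hb)]
    group
  have h3 : (((⟨w, H.WE hw⟩ : E)⁻¹ * ⟨b, hBE hb⟩ : E) : Ω) = w⁻¹ * b := rfl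
  rw [h3, h2]
  exact mul_mem hb hb

theorem finA_core (D : Dat S p n F E) (h6 : 6 ≤ n) (h2 : K S (n - 2) ≤ E) (hex : ¬ TC ↥S 2 ≤ TC ↥S (n - 2))
    (H : Tau S p F E (K S (n - 2)) τ W B) (hB : K S (n - 1) = B)
    (hext : ∃ γ ∈ F.autGroup (normalizerIn S E), γ * γ = 1 ∧
      ∀ (x : E) (hx : (x : Ω) ∈ normalizerIn S E), ((γ ⟨x, hx⟩ : normalizerIn S E) : Ω) = τ x)
    (hinv : Nat.card (normalizerIn S E) = p ^ 4 → K S (n - 3) ≤ normalizer (E : Set Ω) →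
      ∀ {γ : MulAut (normalizerIn S E)}, γ ∈ F.autGroup (normalizerIn S E) →
      ∀ x : normalizerIn S E, (x : Ω) ∈ K S (n - 3) → ((γ x : normalizerIn S E) : Ω) ∈ K S (n - 3))
    (heig : ∀ (σ : MulAut ↥S) {a b c : ℤ}, (a = 1 ∨ a = -1) → (b = 1 ∨ b = -1) → (c = 1 ∨ c = -1) →
      (∀ z ∈ lcsF ↥S (n - 1), σ z = z ^ a) → (∀ z ∈ lcsF ↥S (n - 2), z ^ (-b) * σ z ∈ lcsF ↥S (n - 1)) →
      (∀ z ∈ lcsF ↥S (n - 3), z ^ (-c) * σ z ∈ lcsF ↥S (n - 2)) → a = b * c) : False := by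
  have hfS : Finite S := inferInstance
  obtain ⟨γ, hγ, hγ2, hγτ⟩ := hext
  have hES : E ≤ S := D.ess.1.1
  have hEN : E ≤ normalizerIn S E := le_normalizerIn hES
  have hNS : normalizerIn S E ≤ S := inf_le_left
  have h32 : K S (n - 2) ≤ K S (n - 3) := K_anti (by omega)
  have h21 : K S (n - 1) ≤ K S (n - 2) := K_anti (by omega)
  have c3 : Nat.card (K S (n - 3)) = p ^ 3 := by
    rw [card_K, D.mc.cardK (n - 3) (by omega) (by omega)]
    congr 1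
    omega
  have c2 : Nat.card (K S (n - 2)) = p ^ 2 := by
    rw [card_K, D.mc.cardK (n - 2) (by omega) (by omega)]
    congr 1
    omega
  have c1 : Nat.card (K S (n - 1)) = p := by
    rw [card_K, D.mc.cardK (n - 1) (by omega) (by omega)]
    have : n - (n - 1) = 1 := by omega
    rw [this, pow_one]
  -- `Z_3` normalises `E`
  have hZN : K S (n - 3) ≤ normalizer (E : Set Ω) := by
    intro v hv
    have hvS : v ∈ S := K_le _ hv
    have key : ∀ v ∈ K S (n - 3), ∀ e ∈ E, v * e * v⁻¹ ∈ E := by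
      intro v hv e he
      have h1 := K_comm (S := S) (n - 3) (by omega) e (hES he) v hv
      have h4 : n - 3 + 1 = n - 2 := by omega
      rw [h4] at h1
      have h5 := mul_mem (h2 h1) he
      rwa [inv_mul_cancel_right] at h5
    rw [mem_normalizer_iff]
    intro e
    constructor
    · exact fun he => key v hv e he
    · intro he
      have h1 := key v⁻¹ (inv_mem hv) _ he
      have e1 : v⁻¹ * (v * e * v⁻¹) * v⁻¹⁻¹ = e := by group
      rwa [e1] at h1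
  have hZ3N : K S (n - 3) ≤ normalizerIn S E := le_inf (K_le _) hZN
  have hfE : Finite E := H86.FusSat.finite_of_le hES
  have hfN : Finite (normalizerIn S E) := H86.FusSat.finite_of_le hNS
  have hfK : ∀ i, Finite (K S i) := fun i => H86.FusSat.finite_of_le (K_le i)
  -- `E ≠ Z_3`
  have hne : E ≠ K S (n - 3) := by
    intro he
    have h1 : S ≤ normalizerIn S E := by
      refine le_inf le_rfl ?_
      intro g hg
      rw [mem_normalizer_iff]
      intro e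
      rw [he]
      constructor
      · exact fun h => K_normal _ g hg e h
      · intro h
        have h3 := K_normal _ g⁻¹ (inv_mem hg) _ h
        have e1 : g⁻¹ * (g * e * g⁻¹) * g⁻¹⁻¹ = e := by group
        rwa [e1] at h3
    have h3 : normalizerIn S E = S := le_antisymm hNS h1
    have h4 : Nat.card ↥S = p ^ 4 := by
      have := H.cardN
      rwa [h3] at this
    have h5 : Nat.card ↥S = p ^ n := D.mc.card
    rw [h4] at h5
    have := Nat.pow_right_injective hp.out.two_le h5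
    omega
  have hEZ : E ⊓ K S (n - 3) = K S (n - 2) := by
    have hle : K S (n - 2) ≤ E ⊓ K S (n - 3) := le_inf h2 h32
    have hfI : Finite (E ⊓ K S (n - 3) : Subgroup Ω) := H86.FusSat.finite_of_le (inf_le_left.trans hES)
    have h1 : Nat.card (E ⊓ K S (n - 3) : Subgroup Ω) ∣ p ^ 3 := by
      rw [← D.card]
      exact card_dvd_of_le inf_le_left
    obtain ⟨k, hk, hk2⟩ := (Nat.dvd_prime_pow hp.out).1 h1
    have h3 : k ≠ 3 := by
      rintro rfl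
      apply hne
      have h4 : E ⊓ K S (n - 3) = E := by
        apply Subgroup.eq_of_le_of_card_ge inf_le_left
        rw [hk2, D.card]
      have h5 : E ≤ K S (n - 3) := by rw [← h4]; exact inf_le_right
      apply Subgroup.eq_of_le_of_card_ge h5
      rw [c3, D.card]
    symm
    apply Subgroup.eq_of_le_of_card_ge hle
    rw [hk2, c2]
    exact Nat.pow_le_pow_right hp.out.pos (by omega)
  have hinv' := hinv H.cardN hZN hγ
  obtain ⟨φ, hφ, hφγ⟩ := H81.MXC.restrict_aut (F := F) hZ3N hγ hNS hinv'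
  have hφτ : ∀ (v : K S (n - 3)) (hv : (v : Ω) ∈ E), ((φ v : K S (n - 3)) : Ω) = τ ⟨v, hv⟩ := by
    intro v hv
    rw [hφγ]
    exact hγτ ⟨v, hv⟩ (hZ3N v.2)
  have hSp : IsPGroup p ↥S := by
    refine IsPGroup.of_card (n := n) D.mc.card
  obtain ⟨σ, hσ, hσφ⟩ := H21.MXFE.flag_ext (F := F) hSp D.sat (K_le (S := S) (n - 3)) h32 h21 (K_normal _) (K_normal _)
    (K_normal _) c3 c2 c1 hφ (by
      intro v hv
      have hvE : (v : Ω) ∈ E := h2 hv
      rw [← hEZ]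
      refine ⟨?_, (φ v).2⟩
      rw [hφτ v hvE]
      exact (τ ⟨v, hvE⟩).2) (by
      intro v hv
      have hvE : (v : Ω) ∈ E := h2 (h21 hv)
      rw [hφτ v hvE, H.fix ⟨v, hvE⟩ (by rw [← hB]; exact hv)]
      exact hv)
  have hσ' : ∀ (z : ↥S) (hz : (z : Ω) ∈ K S (n - 3)), ((σ z : ↥S) : Ω) = ((φ ⟨z, hz⟩ : K S (n - 3)) : Ω) :=
    fun z hz => hσφ ⟨z, hz⟩
  have hfin := heig σ (a := 1) (b := -1) (c := 1) (Or.inl rfl) (Or.inr rfl) (Or.inl rfl) ?_ ?_ ?_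
  · norm_num at hfin
  · intro z hz
    have hz1 : (z : Ω) ∈ K S (n - 1) := (mem_K z).2 hz
    have hzE : (z : Ω) ∈ E := h2 (h21 hz1)
    apply Subtype.ext
    rw [hσ' z (h32 (h21 hz1)), hφτ _ hzE, H.fix ⟨z, hzE⟩ (by rw [← hB]; exact hz1), zpow_one]
  · intro z hz
    have hz1 : (z : Ω) ∈ K S (n - 2) := (mem_K z).2 hz
    have hzE : (z : Ω) ∈ E := h2 hz1
    rw [← mem_K, neg_neg, zpow_one, Subgroup.coe_mul, hσ' z (h32 hz1), hφτ _ hzE, hB]
    exact mul_tau_mem D H ⟨z, hzE⟩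
  · intro z hz
    have hz1 : (z : Ω) ∈ K S (n - 3) := (mem_K z).2 hz
    rw [← mem_K, zpow_neg, zpow_one, Subgroup.coe_mul, Subgroup.coe_inv, hσ' z hz1, hφγ, ← hEZ]
    refine ⟨H.WE (H81.MXC.mem_W D H hγ2 hγτ ⟨z, hZ3N hz1⟩), ?_⟩
    exact mul_mem ((K S (n - 3)).inv_mem hz1) (hinv' ⟨z, hZ3N hz1⟩ hz1)

end H98.MXFA
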