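import Mathlib
import Cfsg.Agent.Lib.H51.FFNat
import Cfsg.Agent.Lib.H85.SL2

/-!
Irreducible modules of `SL₂(q)` on which the Sylow `p`-subgroups act quadratically.
-/

set_option autoImplicit false
set_option linter.unusedSectionVars false

namespace H98.NatA

open Subgroup H53.PU H85.SL2 Matrix
open scoped MatrixGroups

section field
variable {C : Type*} [AddCommGroup C] [Finite C]

/-- a group with an automorphism of order prime to `p` -/
theorem card_le_of_irred {p : ℕ} [hp : Fact p.Prime] {n : ℕ} (hn : n ≠ 0) (hC : ∀ c : C, p • c = 0) (x : AddMonoid.End C)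
    (hx : x ^ (p ^ n) = x) (hirr : ∀ U : AddSubgroup C, (∀ u ∈ U, x u ∈ U) → U = ⊥ ∨ U = ⊤) : Nat.card C ≤ p ^ n := by
  classical
  by_cases htriv : Subsingleton C
  · have : Nat.card C ≤ 1 := Finite.card_le_one_iff_subsingleton.mpr htriv
    exact this.trans (Nat.one_le_pow _ _ hp.out.pos)
  rw [not_subsingleton_iff_nontrivial] at htriv
  obtain ⟨c, hc⟩ := exists_ne (0 : C)
  have hcomm : ∀ a ∈ ({x} : Set (AddMonoid.End C)), ∀ b ∈ ({x} : Set (AddMonoid.End C)), a * b = b * a := by
    intro a ha b hb
    rw [Set.mem_singleton_iff] at ha hb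
    rw [ha, hb]
  let R := Subring.closure ({x} : Set (AddMonoid.End C))
  letI : CommRing R := Subring.closureCommRingOfComm hcomm
  have hxR : x ∈ R := Subring.subset_closure rfl
  have hcx : ∀ r ∈ R, r * x = x * r := by
    intro r hr
    exact congrArg Subtype.val (mul_comm (⟨r, hr⟩ : R) ⟨x, hxR⟩)
  have hinj : ∀ r : R, r ≠ 0 → Function.Injective (r : AddMonoid.End C) := by
    intro r hr
    have hU := hirr (AddMonoidHom.ker (r : AddMonoid.End C)) (by
      intro u hu
      have hu : (r : AddMonoid.End C) u = 0 := hu
      show (r : AddMonoid.End C) (x u) = 0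
      have h1 : ((r : AddMonoid.End C) * x) u = (x * (r : AddMonoid.End C)) u := by rw [hcx r.1 r.2]
      have h2 : (r : AddMonoid.End C) (x u) = x ((r : AddMonoid.End C) u) := h1
      rw [h2, hu, map_zero])
    rcases hU with h | h
    · exact (AddMonoidHom.ker_eq_bot_iff _).mp h
    · exfalso
      apply hr
      apply Subtype.ext
      ext u
      have : u ∈ AddMonoidHom.ker (r : AddMonoid.End C) := by rw [h]; exact AddSubgroup.mem_top _
      exact this
  have hfinE : Finite (AddMonoid.End C) :=
    Finite.of_injective (fun f : AddMonoid.End C => (f : C → C)) DFunLike.coe_injective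
  have hfinR : Finite R := inferInstance
  have hnt : Nontrivial R := by
    refine ⟨⟨0, 1, fun h => hc ?_⟩⟩
    have h1 : (0 : AddMonoid.End C) = 1 := congrArg Subtype.val h
    exact (DFunLike.congr_fun h1 c).symm
  have hdom : IsDomain R := by
    have : NoZeroDivisors R := by
      refine ⟨?_⟩
      intro a b hab
      by_contra hcon
      push Not at hcon
      have h1 : (a : AddMonoid.End C) ((b : AddMonoid.End C) c) = 0 := by
        have : ((a * b : R) : AddMonoid.End C) c = 0 := by rw [hab]; rfl
        exact this
      have h2 : (b : AddMonoid.End C) c = 0 := hinj a hcon.1 (h1.trans (map_zero _).symm)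
      exact hc (hinj b hcon.2 (h2.trans (map_zero _).symm))
    exact NoZeroDivisors.to_isDomain R
  have hchar : CharP R p := by
    rw [CharP.charP_iff_prime_eq_zero hp.out]
    apply Subtype.ext
    ext u
    show ((p : R) : AddMonoid.End C) u = 0
    rw [Subring.coe_natCast]
    show ((p : AddMonoid.End C)) u = 0
    rw [AddMonoid.End.natCast_apply]
    exact hC u
  have hall : ∀ r : R, r ^ (p ^ n) = r := by
    let S : Subring R :=
      { carrier := {r | r ^ (p ^ n) = r}
        one_mem' := one_pow _
        zero_mem' := zero_pow (pow_ne_zero _ hp.out.ne_zero)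
        mul_mem' := by
          intro a b ha hb
          show (a * b) ^ (p ^ n) = a * b
          rw [mul_pow, ha, hb]
        add_mem' := by
          intro a b ha hb
          show (a + b) ^ (p ^ n) = a + b
          rw [add_pow_char_pow, ha, hb]
        neg_mem' := by
          intro a ha
          show (-a) ^ (p ^ n) = -a
          have h1 : (0 : R) ^ (p ^ n) = 0 := zero_pow (pow_ne_zero _ hp.out.ne_zero)
          have h2 : (-a + a) ^ (p ^ n) = (-a) ^ (p ^ n) + a ^ (p ^ n) := add_pow_char_pow _ _ _ _
          have ha' : a ^ (p ^ n) = a := ha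
          rw [neg_add_cancel, h1, ha'] at h2
          exact eq_neg_of_add_eq_zero_left h2.symm }
    intro r
    have key : ∀ r (hr : r ∈ R), (⟨r, hr⟩ : R) ∈ S := by
      intro r hr
      refine Subring.closure_induction (p := fun r hr => (⟨r, hr⟩ : R) ∈ S) ?_ ?_ ?_ ?_ ?_ ?_ hr
      · intro y hy
        rw [Set.mem_singleton_iff] at hy
        subst hy
        show (⟨y, _⟩ : R) ^ (p ^ n) = _
        apply Subtype.ext
        exact hx
      · exact S.zero_mem
      · exact S.one_mem
      · intro a b ha hb h1 h2
        exact S.add_mem h1 h2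
      · intro a ha h1
        exact S.neg_mem h1
      · intro a b ha hb h1 h2
        exact S.mul_mem h1 h2
    exact key r.1 r.2
  have hcard : Nat.card R ≤ p ^ n := by
    have hpn : 1 < p ^ n := Nat.one_lt_pow hn hp.out.one_lt
    letI : Fintype R := Fintype.ofFinite _
    have hdeg : (Polynomial.X ^ (p ^ n) - Polynomial.X : Polynomial R).natDegree = p ^ n := by
      rw [Polynomial.natDegree_sub_eq_left_of_natDegree_lt, Polynomial.natDegree_X_pow]
      rw [Polynomial.natDegree_X_pow, Polynomial.natDegree_X]
      exact hpn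
    have hne0 : (Polynomial.X ^ (p ^ n) - Polynomial.X : Polynomial R) ≠ 0 := by
      intro h
      rw [h, Polynomial.natDegree_zero] at hdeg
      omega
    have h1 : (Finset.univ : Finset R) ⊆ (Polynomial.X ^ (p ^ n) - Polynomial.X : Polynomial R).roots.toFinset := by
      intro r _
      rw [Multiset.mem_toFinset, Polynomial.mem_roots hne0]
      rw [Polynomial.IsRoot, Polynomial.eval_sub, Polynomial.eval_pow, Polynomial.eval_X, hall, sub_self]
    have h2 := Finset.card_le_card h1
    have h3 := Multiset.toFinset_card_le (Polynomial.X ^ (p ^ n) - Polynomial.X : Polynomial R).roots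
    have h4 := Polynomial.card_roots' (Polynomial.X ^ (p ^ n) - Polynomial.X : Polynomial R)
    rw [hdeg] at h4
    rw [Nat.card_eq_fintype_card, ← Finset.card_univ]
    omega
  -- evaluation is surjective
  have hsurj : Function.Surjective (fun r : R => (r : AddMonoid.End C) c) := by
    let U : AddSubgroup C :=
      { carrier := {u | ∃ r : R, (r : AddMonoid.End C) c = u}
        zero_mem' := ⟨0, rfl⟩
        add_mem' := by
          rintro _ _ ⟨r, rfl⟩ ⟨s, rfl⟩
          exact ⟨r + s, rfl⟩
        neg_mem' := by
          rintro _ ⟨r, rfl⟩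
          exact ⟨-r, rfl⟩ }
    have hU := hirr U (by
      rintro _ ⟨r, rfl⟩
      exact ⟨⟨x, hxR⟩ * r, rfl⟩)
    rcases hU with h | h
    · exfalso
      have h1 : c ∈ U := ⟨1, rfl⟩
      rw [h, AddSubgroup.mem_bot] at h1
      exact hc h1
    · intro u
      have h1 : u ∈ U := by rw [h]; exact AddSubgroup.mem_top _
      exact h1
  exact (Nat.card_le_card_of_surjective _ hsurj).trans hcard

end field

end H98.NatA
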