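import Mathlib
import Cfsg.Agent.Lib.H98.NatA

/-!
Irreducible modules of `SL₂(q)` on which the Sylow `p`-subgroups act quadratically, part 2.
-/

set_option autoImplicit false
set_option linter.unusedSectionVars false

namespace H98.NatB

open Subgroup H53.PU H85.SL2 Matrix H98.NatA Cfsg
open scoped MatrixGroups

section sl
variable {F : Type*} [Field F]

/-- the Weyl element -/
def wy (t : F) (ht : t ≠ 0) : SL(2, F) := ⟨!![0, t; -t⁻¹, 0], by simp [ht]⟩

theorem wy_coe (t : F) (ht : t ≠ 0) : (wy t ht : Matrix (Fin 2) (Fin 2) F) = !![0, t; -t⁻¹, 0] := rfl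

theorem wy_eq1 (t : F) (ht : t ≠ 0) : wy t ht = up t * lo (-t⁻¹) * up t := by
  apply Subtype.ext
  ext i j
  fin_cases i <;> fin_cases j <;> simp [wy_coe, ht]

theorem wy_eq2 (t : F) (ht : t ≠ 0) : wy t ht = lo (-t⁻¹) * up t * lo (-t⁻¹) := by
  apply Subtype.ext
  ext i j
  fin_cases i <;> fin_cases j <;> simp [wy_coe, ht]

theorem wy_up (t : F) (ht : t ≠ 0) (s : F) : lo s * wy t ht = wy t ht * up (-(s * t ^ 2)) := by
  apply Subtype.ext
  ext i j
  fin_cases i <;> fin_cases j <;> simp [wy_coe]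
  field_simp

theorem wy_lo (t : F) (ht : t ≠ 0) (s : F) : up s * wy t ht = wy t ht * lo (-(s * (t ^ 2)⁻¹)) := by
  apply Subtype.ext
  ext i j
  fin_cases i <;> fin_cases j <;> simp [wy_coe]
  field_simp

theorem dg_up' (r : F) (hr : r ≠ 0) (s : F) : up s * dg r hr = dg r hr * up ((r ^ 2)⁻¹ * s) := by
  apply Subtype.ext
  ext i j
  fin_cases i <;> fin_cases j <;> simp [dg_coe]
  field_simp

theorem dg_lo' (r : F) (hr : r ≠ 0) (s : F) : lo s * dg r hr = dg r hr * lo (r ^ 2 * s) := by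
  apply Subtype.ext
  ext i j
  fin_cases i <;> fin_cases j <;> simp [dg_coe]
  field_simp

theorem decomp (g : SL(2, F)) : (∃ (s r : F) (hr : r ≠ 0) (x : F), g = lo s * dg r hr * up x) ∨
    (∃ (t : F) (ht : t ≠ 0) (x : F), g = wy t ht * up x) := by
  have hdet := g.2
  rw [Matrix.det_fin_two] at hdet
  by_cases h : g.1 0 0 = 0
  · right
    have ht : g.1 0 1 ≠ 0 := by
      intro h1; rw [h, h1] at hdet; simp at hdet
    refine ⟨g.1 0 1, ht, -(g.1 0 1 * g.1 1 1), ?_⟩
    apply Subtype.ext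
    ext i j
    fin_cases i <;> fin_cases j
    · simp [wy_coe, h]
    · simp [wy_coe]
    · simp [wy_coe]
      rw [h] at hdet
      field_simp
      linear_combination -hdet
    · simp [wy_coe, ht]
  · left
    refine ⟨g.1 1 0 / g.1 0 0, g.1 0 0, h, g.1 0 1 / g.1 0 0, ?_⟩
    apply Subtype.ext
    ext i j
    fin_cases i <;> fin_cases j
    · simp [dg_coe]
    · simp [dg_coe]; field_simp
    · simp [dg_coe, h]
    · simp [dg_coe]
      field_simp
      linear_combination hdet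

end sl

section mod
variable {F : Type*} [Field F] [Fintype F] {W : Type*} [AddCommGroup W] [Finite W] [DistribMulAction SL(2, F) W]

theorem mem_C {w : W} : w ∈ fx W (upperUnipotentSL2 F) ↔ ∀ t : F, (up t : SL(2, F)) • w = w := by
  constructor
  · intro h t
    exact h _ (up_mem t)
  · intro h a ha
    obtain ⟨t, rfl⟩ := mem_upper.1 ha
    exact h t

theorem mem_Cm {w : W} : w ∈ fx W (lowerUnipotentSL2 F) ↔ ∀ t : F, (lo t : SL(2, F)) • w = w := by
  constructor
  · intro h t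
    exact h _ (lo_mem t)
  · intro h a ha
    obtain ⟨t, rfl⟩ := mem_lower.1 ha
    exact h t

theorem wy_C (t : F) (ht : t ≠ 0) {w : W} (hw : w ∈ fx W (upperUnipotentSL2 F)) : wy t ht • w ∈ fx W (lowerUnipotentSL2 F) := by
  rw [mem_C] at hw
  rw [mem_Cm]
  intro s
  rw [← mul_smul, wy_up, mul_smul, hw]

theorem wy_Cm (t : F) (ht : t ≠ 0) {w : W} (hw : w ∈ fx W (lowerUnipotentSL2 F)) : wy t ht • w ∈ fx W (upperUnipotentSL2 F) := by
  rw [mem_Cm] at hw
  rw [mem_C]
  intro s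
  rw [← mul_smul, wy_lo, mul_smul, hw]

theorem dg_C (r : F) (hr : r ≠ 0) {w : W} (hw : w ∈ fx W (upperUnipotentSL2 F)) : dg r hr • w ∈ fx W (upperUnipotentSL2 F) := by
  rw [mem_C] at hw ⊢
  intro s
  rw [← mul_smul, dg_up', mul_smul, hw]

theorem dg_Cm (r : F) (hr : r ≠ 0) {w : W} (hw : w ∈ fx W (lowerUnipotentSL2 F)) : dg r hr • w ∈ fx W (lowerUnipotentSL2 F) := by
  rw [mem_Cm] at hw ⊢
  intro s
  rw [← mul_smul, dg_lo', mul_smul, hw]

theorem card_eq : Nat.card (fx W (upperUnipotentSL2 F)) = Nat.card (fx W (lowerUnipotentSL2 F)) := by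
  apply le_antisymm
  · refine Nat.card_le_card_of_injective (fun w => ⟨wy (1 : F) one_ne_zero • (w : W), wy_C 1 one_ne_zero w.2⟩) ?_
    intro w w' h
    exact Subtype.ext (MulAction.injective _ (congrArg Subtype.val h))
  · refine Nat.card_le_card_of_injective (fun w => ⟨wy (1 : F) one_ne_zero • (w : W), wy_Cm 1 one_ne_zero w.2⟩) ?_
    intro w w' h
    exact Subtype.ext (MulAction.injective _ (congrArg Subtype.val h))

/-- irreducible module -/
structure Irr (F : Type*) [Field F] (W : Type*) [AddCommGroup W] [DistribMulAction SL(2, F) W] : Prop where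
  irr : ∀ U : AddSubgroup W, (∀ g : SL(2, F), ∀ u ∈ U, g • u ∈ U) → U = ⊥ ∨ U = ⊤
  nt : ¬ ∀ (g : SL(2, F)) (w : W), g • w = w

theorem bru (hI : Irr F W) (U D : AddSubgroup W) (hU1 : ∀ x : F, ∀ u ∈ U, (up x : SL(2, F)) • u ∈ U)
    (hU2 : ∀ (r : F) (hr : r ≠ 0), ∀ u ∈ U, dg r hr • u ∈ U) (hD1 : ∀ s : F, ∀ u ∈ U, (lo s : SL(2, F)) • u ∈ U ⊔ D)
    (hD2 : ∀ (t : F) (ht : t ≠ 0), ∀ u ∈ U, wy t ht • u ∈ D) : U = ⊥ ∨ U ⊔ D = ⊤ := by
  let M : AddSubgroup W := AddSubgroup.closure {w | ∃ (g : SL(2, F)), ∃ u ∈ U, w = g • u}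
  have hM : ∀ g : SL(2, F), ∀ w ∈ M, g • w ∈ M := by
    intro g w hw
    refine AddSubgroup.closure_induction (p := fun w _ => g • w ∈ M) ?_ ?_ ?_ ?_ hw
    · rintro _ ⟨h, u, hu, rfl⟩
      exact AddSubgroup.subset_closure ⟨g * h, u, hu, (mul_smul _ _ _).symm⟩
    · rw [smul_zero]; exact M.zero_mem
    · intro a b _ _ ha hb
      rw [smul_add]; exact M.add_mem ha hb
    · intro a _ ha
      rw [smul_neg]; exact M.neg_mem ha
  have hMle : M ≤ U ⊔ D := by
    rw [AddSubgroup.closure_le]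
    rintro _ ⟨g, u, hu, rfl⟩
    rcases decomp g with ⟨s, r, hr, x, rfl⟩ | ⟨t, ht, x, rfl⟩
    · rw [mul_smul, mul_smul]
      exact hD1 s _ (hU2 r hr _ (hU1 x u hu))
    · rw [mul_smul]
      exact AddSubgroup.mem_sup_right (hD2 t ht _ (hU1 x u hu))
  have hUM : U ≤ M := fun u hu => AddSubgroup.subset_closure ⟨1, u, hu, (one_smul _ _).symm⟩
  rcases hI.irr M hM with h | h
  · left
    rw [eq_bot_iff, ← h]; exact hUM
  · right
    rw [eq_top_iff, ← h]; exact hMle

theorem fix_all (hI : Irr F W) {w : W} (h1 : w ∈ fx W (upperUnipotentSL2 F)) (h2 : w ∈ fx W (lowerUnipotentSL2 F)) : w = 0 := by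
  have h3 : ∀ w : W, w ∈ fx W (upperUnipotentSL2 F) → w ∈ fx W (lowerUnipotentSL2 F) → ∀ g : SL(2, F), g • w = w := by
    intro w h1 h2 g
    have hle : lowerUnipotentSL2 F ⊔ upperUnipotentSL2 F ≤ MulAction.stabilizer SL(2, F) w :=
      sup_le (fun x hx => h2 x hx) (fun x hx => h1 x hx)
    rw [sup_eq_top] at hle
    exact hle (Subgroup.mem_top g)
  rcases hI.irr (fx W (upperUnipotentSL2 F) ⊓ fx W (lowerUnipotentSL2 F)) (by
    rintro g u ⟨hu1, hu2⟩
    rw [h3 u hu1 hu2 g]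
    exact ⟨hu1, hu2⟩) with h | h
  · have : w ∈ (⊥ : AddSubgroup W) := by rw [← h]; exact ⟨h1, h2⟩
    exact this
  · exfalso
    apply hI.nt
    intro g w
    have : w ∈ fx W (upperUnipotentSL2 F) ⊓ fx W (lowerUnipotentSL2 F) := by rw [h]; exact AddSubgroup.mem_top _
    exact h3 w this.1 this.2 g

theorem inf_bot (hI : Irr F W) : fx W (upperUnipotentSL2 F) ⊓ fx W (lowerUnipotentSL2 F) = ⊥ := by
  rw [eq_bot_iff]
  rintro w ⟨h1, h2⟩
  exact fix_all hI h1 h2

theorem QL_of_QU (h : ∀ (t : F) (w : W), (up t : SL(2, F)) • w - w ∈ fx W (upperUnipotentSL2 F)) (t : F) (w : W) :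
    (lo t : SL(2, F)) • w - w ∈ fx W (lowerUnipotentSL2 F) := by
  -- w = wy 1 • w'
  have h1 := h (-(t * 1 ^ 2)) ((wy (1 : F) one_ne_zero)⁻¹ • w)
  have h2 := wy_C (1 : F) one_ne_zero h1
  rw [smul_sub, smul_inv_smul, ← mul_smul, ← wy_up, mul_smul, smul_inv_smul] at h2
  exact h2

theorem QU_of_QL (h : ∀ (t : F) (w : W), (lo t : SL(2, F)) • w - w ∈ fx W (lowerUnipotentSL2 F)) (t : F) (w : W) :
    (up t : SL(2, F)) • w - w ∈ fx W (upperUnipotentSL2 F) := by
  have h1 := h (-(t * (1 ^ 2)⁻¹)) ((wy (1 : F) one_ne_zero)⁻¹ • w)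
  have h2 := wy_Cm (1 : F) one_ne_zero h1
  rw [smul_sub, smul_inv_smul, ← mul_smul, ← wy_lo, mul_smul, smul_inv_smul] at h2
  exact h2

theorem sup_top_of_quad (hI : Irr F W) (hU : ∀ (t : F) (w : W), (up t : SL(2, F)) • w - w ∈ fx W (upperUnipotentSL2 F)) :
    fx W (upperUnipotentSL2 F) ⊔ fx W (lowerUnipotentSL2 F) = ⊤ := by
  have hL := QL_of_QU hU
  have h1 : ∀ D : AddSubgroup W, (∀ (t : F) (w : W), (up t : SL(2, F)) • w - w ∈ D) → (∀ (t : F) (w : W), (lo t : SL(2, F)) • w - w ∈ D) →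
      ∀ (g : SL(2, F)) (w : W), g • w - w ∈ D := by
    intro D h1 h2 g
    let S : Submonoid SL(2, F) :=
      { carrier := {g | ∀ w : W, g • w - w ∈ D}
        one_mem' := fun w => by rw [one_smul, sub_self]; exact D.zero_mem
        mul_mem' := by
          intro a b ha hb w
          have : (a * b) • w - w = (a • (b • w) - b • w) + (b • w - w) := by rw [mul_smul]; abel
          rw [this]
          exact D.add_mem (ha _) (hb _) }
    rcases decomp g with ⟨s, r, hr, x, rfl⟩ | ⟨t, ht, x, rfl⟩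
    · have hdg : dg r hr ∈ S := by
        have e : dg r hr = wy r hr * (wy (1 : F) one_ne_zero)⁻¹ := by
          rw [eq_mul_inv_iff_mul_eq]
          apply Subtype.ext
          ext i j
          fin_cases i <;> fin_cases j <;> simp [wy_coe, dg_coe]
        have e2 : (wy (1 : F) one_ne_zero)⁻¹ = wy (-1 : F) (neg_ne_zero.mpr one_ne_zero) := by
          rw [inv_eq_iff_mul_eq_one]
          apply Subtype.ext
          ext i j
          fin_cases i <;> fin_cases j <;> simp [wy_coe]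
        rw [e, e2, wy_eq1, wy_eq1]
        exact S.mul_mem (S.mul_mem (S.mul_mem (h1 _) (h2 _)) (h1 _)) (S.mul_mem (S.mul_mem (h1 _) (h2 _)) (h1 _))
      exact S.mul_mem (S.mul_mem (h2 _) hdg) (h1 _)
    · have hw : wy t ht ∈ S := by
        rw [wy_eq1]
        exact S.mul_mem (S.mul_mem (h1 _) (h2 _)) (h1 _)
      exact S.mul_mem hw (h1 _)
  have h2 := h1 (fx W (upperUnipotentSL2 F) ⊔ fx W (lowerUnipotentSL2 F)) (fun t w => AddSubgroup.mem_sup_left (hU t w))
    (fun t w => AddSubgroup.mem_sup_right (hL t w))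
  rcases hI.irr _ (by
    intro g u hu
    have := AddSubgroup.add_mem _ (h2 g u) hu
    rwa [sub_add_cancel] at this) with h | h
  · exfalso
    apply hI.nt
    intro g w
    have := h2 g w
    rw [h, AddSubgroup.mem_bot] at this
    exact sub_eq_zero.mp this
  · exact h

theorem quad_of_card {p : ℕ} [hp : Fact p.Prime] (hpW : PV p W) (hL : IsPGroup p (lowerUnipotentSL2 F)) (hI : Irr F W)
    (hc : Nat.card W ≤ Nat.card (fx W (upperUnipotentSL2 F)) ^ 2) :
    ∀ (t : F) (w : W), (up t : SL(2, F)) • w - w ∈ fx W (upperUnipotentSL2 F) := by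
  -- `W` is the sum
  have hsup : fx W (upperUnipotentSL2 F) ⊔ fx W (lowerUnipotentSL2 F) = ⊤ := by
    have h1 := add_card_sup_inf (fx W (upperUnipotentSL2 F)) (fx W (lowerUnipotentSL2 F))
    rw [inf_bot hI, AddSubgroup.card_bot, mul_one, ← card_eq, ← pow_two] at h1
    apply AddSubgroup.eq_top_of_le_card
    rw [h1]; exact hc
  have hWne : (⊤ : AddSubgroup W) ≠ ⊥ := by
    intro h
    apply hI.nt
    have : ∀ w : W, w = 0 := by
      intro w
      have : w ∈ (⊤ : AddSubgroup W) := AddSubgroup.mem_top _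
      rwa [h, AddSubgroup.mem_bot] at this
    intro g w
    rw [this w, smul_zero]
  have hmne : fx W (lowerUnipotentSL2 F) ≠ ⊤ := by
    intro h
    have h1 := inf_bot hI
    rw [h, inf_top_eq] at h1
    have h2 : Nat.card (fx W (upperUnipotentSL2 F)) = 1 := by rw [h1]; exact AddSubgroup.card_bot
    rw [h2] at hc
    have h3 : Nat.card W = 1 := le_antisymm (by simpa using hc) Nat.card_pos
    apply hWne
    rw [Nat.card_eq_one_iff_unique] at h3
    obtain ⟨h4, -⟩ := h3
    exact Subsingleton.elim _ _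
  -- fixed points modulo the lower fixed space
  let U : AddSubgroup W :=
    { carrier := {v | v ∈ fx W (upperUnipotentSL2 F) ∧ ∀ s : F, (lo s : SL(2, F)) • v - v ∈ fx W (lowerUnipotentSL2 F)}
      zero_mem' := ⟨AddSubgroup.zero_mem _, fun s => by rw [smul_zero, sub_zero]; exact AddSubgroup.zero_mem _⟩
      add_mem' := by
        rintro a b ⟨ha, ha'⟩ ⟨hb, hb'⟩
        refine ⟨AddSubgroup.add_mem _ ha hb, fun s => ?_⟩
        have : (lo s : SL(2, F)) • (a + b) - (a + b) = ((lo s : SL(2, F)) • a - a) + ((lo s : SL(2, F)) • b - b) := by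
          rw [smul_add]; abel
        rw [this]
        exact AddSubgroup.add_mem _ (ha' s) (hb' s)
      neg_mem' := by
        rintro a ⟨ha, ha'⟩
        refine ⟨AddSubgroup.neg_mem _ ha, fun s => ?_⟩
        have : (lo s : SL(2, F)) • (-a) - (-a) = -((lo s : SL(2, F)) • a - a) := by rw [smul_neg]; abel
        rw [this]
        exact AddSubgroup.neg_mem _ (ha' s) }
  have hU := bru hI U (fx W (lowerUnipotentSL2 F)) (by
      rintro x u ⟨hu, hu'⟩
      rw [mem_C.mp hu x]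
      exact ⟨hu, hu'⟩) (by
      rintro r hr u ⟨hu, hu'⟩
      refine ⟨dg_C r hr hu, fun s => ?_⟩
      rw [← mul_smul, dg_lo', mul_smul, ← smul_sub]
      exact dg_Cm r hr (hu' _)) (by
      rintro s u ⟨hu, hu'⟩
      have := AddSubgroup.add_mem _ (AddSubgroup.mem_sup_right (S := U) (hu' s)) (AddSubgroup.mem_sup_left (T := fx W (lowerUnipotentSL2 F)) (⟨hu, hu'⟩ : u ∈ U))
      rwa [sub_add_cancel] at this) (by
      rintro t ht u ⟨hu, hu'⟩
      exact wy_C t ht hu)
  have hUne : U ≠ ⊥ := by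
    let _ : DistribMulAction (lowerUnipotentSL2 F) (W ⧸ fx W (lowerUnipotentSL2 F)) :=
      quotAct (L := lowerUnipotentSL2 F) (fx W (lowerUnipotentSL2 F)) (fun g w hw => by
        show (g : SL(2, F)) • w ∈ _
        rw [hw g.1 g.2]; exact hw)
    have hnt : (⊤ : AddSubgroup (W ⧸ fx W (lowerUnipotentSL2 F))) ≠ ⊥ := by
      intro h1
      apply hmne
      rw [eq_top_iff]
      intro v _
      have h2 : (QuotientAddGroup.mk v : W ⧸ fx W (lowerUnipotentSL2 F)) ∈ (⊤ : AddSubgroup (W ⧸ fx W (lowerUnipotentSL2 F))) :=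
        AddSubgroup.mem_top _
      rw [h1, AddSubgroup.mem_bot, QuotientAddGroup.eq_zero_iff] at h2
      exact h2
    obtain ⟨w, _, hw0, hwT⟩ := exists_fixed (hpW.quot (fx W (lowerUnipotentSL2 F))) (hL.to_subgroup (⊤ : Subgroup (lowerUnipotentSL2 F))) hnt
      (fun _ _ _ _ => AddSubgroup.mem_top _)
    obtain ⟨v, rfl⟩ := QuotientAddGroup.mk_surjective w
    have hvT : ∀ s : F, (lo s : SL(2, F)) • v - v ∈ fx W (lowerUnipotentSL2 F) := by
      intro s
      have h1 := hwT ⟨lo s, lo_mem s⟩ (Subgroup.mem_top _)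
      have h2 : (QuotientAddGroup.mk ((lo s : SL(2, F)) • v) : W ⧸ fx W (lowerUnipotentSL2 F)) = QuotientAddGroup.mk v := h1
      have h3 := QuotientAddGroup.eq.1 h2.symm
      rwa [neg_add_eq_sub] at h3
    have hvs : v ∈ fx W (upperUnipotentSL2 F) ⊔ fx W (lowerUnipotentSL2 F) := by rw [hsup]; exact AddSubgroup.mem_top _
    obtain ⟨c, hc, d, hd, rfl⟩ := AddSubgroup.mem_sup.mp hvs
    have hcU : c ∈ U := by
      refine ⟨hc, fun s => ?_⟩
      have h1 := hvT s
      have : (lo s : SL(2, F)) • (c + d) - (c + d) = (lo s : SL(2, F)) • c - c := by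
        rw [smul_add, mem_Cm.mp hd s]; abel
      rwa [this] at h1
    intro h
    rw [h, AddSubgroup.mem_bot] at hcU
    apply hw0
    rw [QuotientAddGroup.eq_zero_iff, hcU, zero_add]
    exact hd
  have hUtop := hU.resolve_left hUne
  have hlow : ∀ (s : F) (w : W), (lo s : SL(2, F)) • w - w ∈ fx W (lowerUnipotentSL2 F) := by
    intro s w
    have hw : w ∈ U ⊔ fx W (lowerUnipotentSL2 F) := by rw [hUtop]; exact AddSubgroup.mem_top _
    obtain ⟨u, hu, d, hd, rfl⟩ := AddSubgroup.mem_sup.mp hw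
    have : (lo s : SL(2, F)) • (u + d) - (u + d) = (lo s : SL(2, F)) • u - u := by
      rw [smul_add, mem_Cm.mp hd s]; abel
    rw [this]
    exact hu.2 s
  exact QU_of_QL hlow

end mod

end H98.NatB
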