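import Mathlib
import Cfsg.Agent.Lib.H98.NatB

/-!
Irreducible modules of `SL₂(q)` on which the Sylow `p`-subgroups act quadratically, part 3.
-/

set_option autoImplicit false
set_option linter.unusedSectionVars false

namespace H98.NatC

open Subgroup H53.PU H85.SL2 Matrix H98.NatA H98.NatB Cfsg
open scoped MatrixGroups

variable {F : Type*} [Field F] [Fintype F] {W : Type*} [AddCommGroup W] [Finite W] [DistribMulAction SL(2, F) W]

theorem irr_C (hI : Irr F W) (hq : ∀ (t : F) (w : W), (up t : SL(2, F)) • w - w ∈ fx W (upperUnipotentSL2 F))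
    (U : AddSubgroup W) (hUC : U ≤ fx W (upperUnipotentSL2 F)) (hU : ∀ (r : F) (hr : r ≠ 0), ∀ u ∈ U, dg r hr • u ∈ U) :
    U = ⊥ ∨ U = fx W (upperUnipotentSL2 F) := by
  rcases bru hI U (fx W (lowerUnipotentSL2 F)) (fun x u hu => by rw [mem_C.mp (hUC hu) x]; exact hu) hU (fun s u hu => by
      have := AddSubgroup.add_mem _ (AddSubgroup.mem_sup_right (S := U) (QL_of_QU hq s u))
        (AddSubgroup.mem_sup_left (T := fx W (lowerUnipotentSL2 F)) hu)
      rwa [sub_add_cancel] at this) (fun t ht u hu => wy_C t ht (hUC hu)) with h | h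
  · exact Or.inl h
  · right
    apply le_antisymm hUC
    intro c hc
    have hc' : c ∈ U ⊔ fx W (lowerUnipotentSL2 F) := by rw [h]; exact AddSubgroup.mem_top _
    obtain ⟨u, hu, d, hd, rfl⟩ := AddSubgroup.mem_sup.mp hc'
    have hd' : d ∈ fx W (upperUnipotentSL2 F) := by
      have := AddSubgroup.sub_mem _ hc (hUC hu)
      rwa [add_sub_cancel_left] at this
    rw [fix_all hI hd' hd, add_zero]
    exact hu

theorem rA (hI : Irr F W) (hq : ∀ (t : F) (w : W), (up t : SL(2, F)) • w - w ∈ fx W (upperUnipotentSL2 F))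
    {t : F} (ht : t ≠ 0) {y : W} (hy : y ∈ fx W (lowerUnipotentSL2 F)) (h : (up t : SL(2, F)) • y ∈ fx W (lowerUnipotentSL2 F)) : y = 0 := by
  have h1 : (up t : SL(2, F)) • y - y = 0 := fix_all hI (hq t y) (AddSubgroup.sub_mem _ h hy)
  rw [sub_eq_zero] at h1
  have h2 : wy t ht • y = y := by
    rw [wy_eq1, mul_smul, mul_smul, h1, mem_Cm.mp hy, h1]
  apply fix_all hI _ hy
  rw [← h2]
  exact wy_Cm t ht hy

theorem rB (hI : Irr F W) (hq : ∀ (t : F) (w : W), (up t : SL(2, F)) • w - w ∈ fx W (upperUnipotentSL2 F))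
    {t : F} (ht : t ≠ 0) {y : W} (hy : y ∈ fx W (upperUnipotentSL2 F)) (h : (lo t : SL(2, F)) • y ∈ fx W (upperUnipotentSL2 F)) : y = 0 := by
  have h1 : (lo t : SL(2, F)) • y - y = 0 := fix_all hI (AddSubgroup.sub_mem _ h hy) (QL_of_QU hq t y)
  rw [sub_eq_zero] at h1
  have ht' : -t⁻¹ ≠ 0 := neg_ne_zero.mpr (inv_ne_zero ht)
  have e : -(-t⁻¹)⁻¹ = t := by rw [inv_neg, inv_inv, neg_neg]
  have h2 : wy (-t⁻¹) ht' • y = y := by
    rw [wy_eq2, e, mul_smul, mul_smul, h1, mem_C.mp hy, h1]
  apply fix_all hI hy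
  rw [← h2]
  exact wy_C _ ht' hy

theorem exists_ne_zero (hI : Irr F W) (hq : ∀ (t : F) (w : W), (up t : SL(2, F)) • w - w ∈ fx W (upperUnipotentSL2 F)) :
    ∃ y ∈ fx W (lowerUnipotentSL2 F), y ≠ 0 := by
  by_contra hcon
  push Not at hcon
  have h1 : fx W (lowerUnipotentSL2 F) = ⊥ := by
    rw [eq_bot_iff]; exact fun y hy => hcon y hy
  have h2 := card_eq (F := F) (W := W)
  rw [h1, AddSubgroup.card_bot] at h2
  have h3 := sup_top_of_quad hI hq
  have h4 : fx W (upperUnipotentSL2 F) = ⊥ := AddSubgroup.card_eq_one.mp h2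
  rw [h1, h4, sup_bot_eq] at h3
  apply hI.nt
  have : ∀ w : W, w = 0 := by
    intro w
    have : w ∈ (⊤ : AddSubgroup W) := AddSubgroup.mem_top _
    rwa [← h3, AddSubgroup.mem_bot] at this
  intro g w
  rw [this w, smul_zero]

theorem up_inj (hI : Irr F W) (hq : ∀ (t : F) (w : W), (up t : SL(2, F)) • w - w ∈ fx W (upperUnipotentSL2 F))
    {y : W} (hy : y ∈ fx W (lowerUnipotentSL2 F)) (hy0 : y ≠ 0) {t t' : F} (h : (up t : SL(2, F)) • y = (up t' : SL(2, F)) • y) : t = t' := by
  by_contra hne
  apply hy0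
  apply rA hI hq (t := t - t') (sub_ne_zero.mpr hne) hy
  have : (up (t - t') : SL(2, F)) • y = y := by
    have e : t - t' = -t' + t := by ring
    rw [e, up_add, mul_smul, h, ← up_inv, inv_smul_smul]
  rw [this]; exact hy

theorem card_C {p : ℕ} [hp : Fact p.Prime] {n : ℕ} (hF : Fintype.card F = p ^ n) (hpz : ∀ w : W, p • w = 0) (hI : Irr F W)
    (hq : ∀ (t : F) (w : W), (up t : SL(2, F)) • w - w ∈ fx W (upperUnipotentSL2 F)) :
    Nat.card (fx W (upperUnipotentSL2 F)) = Nat.card F := by
  classical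
  have hn : n ≠ 0 := by
    rintro rfl
    rw [pow_zero] at hF
    have := Fintype.one_lt_card (α := F)
    omega
  apply le_antisymm
  · obtain ⟨ζ, hζ⟩ := IsCyclic.exists_monoid_generator (α := Fˣ)
    have hdgmul : ∀ (r s : F) (hr : r ≠ 0) (hs : s ≠ 0), dg r hr * dg s hs = dg (r * s) (mul_ne_zero hr hs) := by
      intro r s hr hs
      apply Subtype.ext
      ext i j
      fin_cases i <;> fin_cases j <;> simp [dg_coe, mul_comm]
    let x : AddMonoid.End (fx W (upperUnipotentSL2 F)) :=
      { toFun := fun c => ⟨dg (ζ : F) ζ.ne_zero • (c : W), dg_C _ _ c.2⟩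
        map_zero' := Subtype.ext (smul_zero _)
        map_add' := fun a b => Subtype.ext (smul_add _ _ _) }
    have hxpow : ∀ (k : ℕ) (c : fx W (upperUnipotentSL2 F)), (((x ^ k) c : fx W (upperUnipotentSL2 F)) : W) =
        dg ((ζ : F) ^ k) (pow_ne_zero k ζ.ne_zero) • (c : W) := by
      intro k
      induction k with
      | zero =>
        intro c
        have : dg ((ζ : F) ^ 0) (pow_ne_zero 0 ζ.ne_zero) = 1 := by
          apply Subtype.ext
          ext i j
          fin_cases i <;> fin_cases j <;> simp [dg_coe]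
        rw [this, one_smul]; rfl
      | succ k ih =>
        intro c
        have e : dg ((ζ : F) ^ (k + 1)) (pow_ne_zero (k + 1) ζ.ne_zero) = dg ((ζ : F) ^ k) (pow_ne_zero k ζ.ne_zero) * dg (ζ : F) ζ.ne_zero := by
          rw [hdgmul]
          congr 1
          exact pow_succ _ _
        rw [e, mul_smul, pow_succ]
        exact ih (x c)
    have h1 := card_le_of_irred (C := fx W (upperUnipotentSL2 F)) (p := p) hn (fun c => Subtype.ext (hpz c)) x (by
      ext c
      rw [hxpow]
      have e : (ζ : F) ^ (p ^ n) = ζ := by rw [← hF]; exact FiniteField.pow_card _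
      show dg ((ζ : F) ^ (p ^ n)) (pow_ne_zero (p ^ n) ζ.ne_zero) • (c : W) = dg (ζ : F) ζ.ne_zero • (c : W)
      congr 2) (by
      intro U hU
      rcases irr_C hI hq (U.map (fx W (upperUnipotentSL2 F)).subtype) (by
          rintro _ ⟨u, -, rfl⟩
          exact u.2) (by
          rintro r hr _ ⟨u, hu, rfl⟩
          obtain ⟨k, hk⟩ := hζ (Units.mk0 r hr)
          have hk' : (ζ : F) ^ k = r := by
            have := congrArg Units.val hk
            simpa using this
          have hxk : ∀ k : ℕ, ∀ u ∈ U, (x ^ k) u ∈ U := by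
            intro k
            induction k with
            | zero => intro u hu; exact hu
            | succ k ih => intro u hu; rw [pow_succ]; exact ih _ (hU u hu)
          refine ⟨(x ^ k) u, hxk k u hu, ?_⟩
          show (((x ^ k) u : fx W (upperUnipotentSL2 F)) : W) = _
          rw [hxpow]
          congr 2) with h | h
      · left
        rw [eq_bot_iff]
        intro u hu
        have h3 : (u : W) ∈ U.map (fx W (upperUnipotentSL2 F)).subtype := ⟨u, hu, rfl⟩
        rw [h, AddSubgroup.mem_bot] at h3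
        exact Subtype.ext h3
      · right
        rw [eq_top_iff]
        intro u _
        have h3 : (u : W) ∈ U.map (fx W (upperUnipotentSL2 F)).subtype := by rw [h]; exact u.2
        obtain ⟨v, hv, hvu⟩ := h3
        have : v = u := Subtype.ext hvu
        rw [← this]; exact hv)
    rw [Nat.card_eq_fintype_card (α := F), hF]
    exact h1
  · obtain ⟨y, hy, hy0⟩ := exists_ne_zero hI hq
    refine Nat.card_le_card_of_injective (fun t : F => (⟨(up t : SL(2, F)) • y - y, hq t y⟩ : fx W (upperUnipotentSL2 F))) ?_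
    intro t t' h
    have h1 : (up t : SL(2, F)) • y - y = (up t' : SL(2, F)) • y - y := congrArg Subtype.val h
    exact up_inj hI hq hy hy0 (sub_left_injective h1)

theorem main {p : ℕ} [hp : Fact p.Prime] {n : ℕ} (hF : Fintype.card F = p ^ n) (hpz : ∀ w : W, p • w = 0) (hI : Irr F W)
    (hq : ∀ (t : F) (w : W), (up t : SL(2, F)) • w - w ∈ fx W (upperUnipotentSL2 F)) :
    ∃ (ρ : SL(2, F) →* SL(2, F)) (ψ : W ≃+ (Fin 2 → F)), Function.Surjective ρ ∧ ∀ g w, ψ (g • w) = (ρ g).1.mulVec (ψ w) := by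
  classical
  obtain ⟨f, hf⟩ : ∃ f : SL(2, F) →* (AddMonoid.End W)ˣ, ∀ (g : SL(2, F)) (w : W), f g • w = g • w :=
    ⟨(DistribMulAction.toAddMonoidEnd SL(2, F) W).toHomUnits, fun g w => by
      rw [Units.smul_def, MonoidHom.coe_toHomUnits]; rfl⟩
  let A : Subgroup f.range := (upperUnipotentSL2 F).map f.rangeRestrict
  let B : Subgroup f.range := (lowerUnipotentSL2 F).map f.rangeRestrict
  have hact : ∀ (g : SL(2, F)) (w : W), f.rangeRestrict g • w = g • w := fun g w => hf g w
  have hA : ∀ w : W, w ∈ fx W A ↔ w ∈ fx W (upperUnipotentSL2 F) := by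
    intro w
    constructor
    · intro h a ha
      rw [← hact]
      exact h _ ⟨a, ha, rfl⟩
    · rintro h _ ⟨a, ha, rfl⟩
      rw [hact]
      exact h a ha
  have hB : ∀ w : W, w ∈ fx W B ↔ w ∈ fx W (lowerUnipotentSL2 F) := by
    intro w
    constructor
    · intro h a ha
      rw [← hact]
      exact h _ ⟨a, ha, rfl⟩
    · rintro h _ ⟨a, ha, rfl⟩
      rw [hact]
      exact h a ha
  have hcA : Nat.card (fx W A) = Nat.card F := by
    rw [← card_C hF hpz hI hq]
    congr 2
    ext w; exact hA w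
  have hcB : Nat.card (fx W B) = Nat.card F := by
    rw [← card_C hF hpz hI hq, card_eq]
    congr 2
    ext w; exact hB w
  obtain ⟨y₀, hy₀, hy₀0⟩ := exists_ne_zero hI hq
  have hcardA : Nat.card A = Nat.card F := by
    symm
    refine Nat.card_eq_of_bijective (fun t : F => (⟨f.rangeRestrict (up t), ⟨up t, up_mem t, rfl⟩⟩ : A)) ⟨?_, ?_⟩
    · intro t t' h
      have h1 : f.rangeRestrict (up t) = f.rangeRestrict (up t') := congrArg Subtype.val h
      apply up_inj hI hq hy₀ hy₀0
      rw [← hact, h1, hact]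
    · rintro ⟨_, a, ha, rfl⟩
      obtain ⟨t, rfl⟩ := mem_upper.1 ha
      exact ⟨t, rfl⟩
  have hQL := QL_of_QU hq
  have hC : H51.FFNat.Conf p W A B :=
    { pz := hpz
      gen := by
        rw [← Subgroup.map_sup, sup_comm, sup_eq_top, ← MonoidHom.range_eq_map, MonoidHom.range_eq_top]
        exact f.rangeRestrict_surjective
      faith := by
        rintro ⟨g, hg⟩ h
        apply Subtype.ext
        apply Units.ext
        ext w
        exact h w
      inf := by
        intro w h1 h2
        exact fix_all hI ((hA w).mp h1) ((hB w).mp h2)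
      sup := by
        intro w
        have hw : w ∈ fx W (upperUnipotentSL2 F) ⊔ fx W (lowerUnipotentSL2 F) := by
          rw [sup_top_of_quad hI hq]; exact AddSubgroup.mem_top _
        obtain ⟨x, hx, y, hy, rfl⟩ := AddSubgroup.mem_sup.mp hw
        exact ⟨x, (hA x).mpr hx, y, (hB y).mpr hy, rfl⟩
      cA := hcardA.trans hcA.symm
      cAB := hcA.trans hcB.symm
      ne := by
        intro h
        rw [h, Subgroup.card_bot] at hcardA
        have := Fintype.one_lt_card (α := F)
        rw [Nat.card_eq_fintype_card] at hcardA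
        omega
      qA := by
        rintro _ ⟨a, ha, rfl⟩ w
        obtain ⟨t, rfl⟩ := mem_upper.1 ha
        rw [hact, hA]
        exact hq t w
      qB := by
        rintro _ ⟨a, ha, rfl⟩ w
        obtain ⟨t, rfl⟩ := mem_lower.1 ha
        rw [hact, hB]
        exact hQL t w
      rA := by
        rintro _ ⟨a, ha, rfl⟩ ha1 y hy h
        obtain ⟨t, rfl⟩ := mem_upper.1 ha
        have ht : t ≠ 0 := by
          rintro rfl
          apply ha1
          rw [up_zero, map_one]
        rw [hact, hB] at h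
        exact rA hI hq ht ((hB y).mp hy) h
      rB := by
        rintro _ ⟨a, ha, rfl⟩ ha1 y hy h
        obtain ⟨t, rfl⟩ := mem_lower.1 ha
        have ht : t ≠ 0 := by
          rintro rfl
          apply ha1
          rw [lo_zero, map_one]
        rw [hact, hA] at h
        exact rB hI hq ht ((hA y).mp hy) h
      sA := by
        rintro _ ⟨a, ha, rfl⟩ ha1
        obtain ⟨t, rfl⟩ := mem_upper.1 ha
        have ht : t ≠ 0 := by
          rintro rfl
          apply ha1
          rw [up_zero, map_one]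
        refine ⟨f.rangeRestrict (lo (t⁻¹)), ⟨_, lo_mem _, rfl⟩, fun y hy => ⟨wy t ht • y, (hA _).mpr (wy_Cm t ht ((hB y).mp hy)), ?_⟩⟩
        rw [hact, hact, wy_eq2, mul_smul, mul_smul, mem_Cm.mp ((hB y).mp hy), ← lo_inv, smul_inv_smul]
      sB := by
        rintro _ ⟨a, ha, rfl⟩ ha1
        obtain ⟨t, rfl⟩ := mem_lower.1 ha
        have ht : t ≠ 0 := by
          rintro rfl
          apply ha1
          rw [lo_zero, map_one]
        have ht' : -t⁻¹ ≠ 0 := neg_ne_zero.mpr (inv_ne_zero ht)
        have e : -(-t⁻¹)⁻¹ = t := by rw [inv_neg, inv_inv, neg_neg]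
        refine ⟨f.rangeRestrict (up (-(-t⁻¹))), ⟨_, up_mem _, rfl⟩,
          fun x hx => ⟨wy (-t⁻¹) ht' • x, (hB _).mpr (wy_C _ ht' ((hA x).mp hx)), ?_⟩⟩
        rw [hact, hact, wy_eq1, e, mul_smul, mul_smul, mem_C.mp ((hA x).mp hx), ← up_inv, inv_smul_smul] }
  obtain ⟨F', i1, i2, ρ', ψ', hρψ⟩ := hC.main
  have hW1 : Nat.card W = Nat.card F' ^ 2 := by
    rw [Nat.card_congr ψ'.toEquiv, Nat.card_eq_fintype_card, Nat.card_eq_fintype_card, Fintype.card_fun, Fintype.card_fin]
  have hW2 : Nat.card W = Nat.card F ^ 2 := by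
    have h1 := add_card_sup_inf (fx W (upperUnipotentSL2 F)) (fx W (lowerUnipotentSL2 F))
    rw [H98.NatB.inf_bot hI, AddSubgroup.card_bot, mul_one, ← card_eq, ← pow_two, sup_top_of_quad hI hq, card_C hF hpz hI hq,
      AddSubgroup.card_top] at h1
    exact h1
  have hFF : Fintype.card F' = Fintype.card F := by
    rw [← Nat.card_eq_fintype_card, ← Nat.card_eq_fintype_card]
    rw [hW1] at hW2
    exact Nat.pow_left_injective (by norm_num) hW2
  let e : F' ≃+* F := FiniteField.ringEquivOfCardEq hFF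
  let ψ : W ≃+ (Fin 2 → F) := ψ'.trans
    { toFun := fun v i => e (v i)
      invFun := fun v i => e.symm (v i)
      left_inv := fun v => by ext i; simp
      right_inv := fun v => by ext i; simp
      map_add' := fun v w => by ext i; simp }
  refine ⟨(Matrix.SpecialLinearGroup.map (e : F' →+* F)).comp (ρ'.toMonoidHom.comp f.rangeRestrict), ψ, ?_, ?_⟩
  · have h1 : Function.Surjective (Matrix.SpecialLinearGroup.map (n := Fin 2) (e : F' →+* F)) := by
      intro M
      refine ⟨Matrix.SpecialLinearGroup.map (e.symm : F →+* F') M, ?_⟩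
      apply Subtype.ext
      ext i j
      simp
    exact h1.comp (ρ'.surjective.comp f.rangeRestrict_surjective)
  · intro g w
    have h1 := hρψ (f.rangeRestrict g) w
    rw [hact] at h1
    ext i
    show e (ψ' (g • w) i) = _
    rw [h1]
    have h2 := RingHom.map_mulVec (e : F' →+* F) (ρ' (f.rangeRestrict g) : Matrix (Fin 2) (Fin 2) F') (ψ' w) i
    exact h2

end H98.NatC
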