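import Mathlib
import Cfsg.Agent.Lib.H98.NatC
import Cfsg.Prelude.Def_BaumannBlocks
import Cfsg.Agent.Lib.H51.NAct
import Cfsg.Agent.Lib.H51.NatSL2

/-!
Irreducible modules of `SL₂(q)` on which the Sylow `p`-subgroups act quadratically, group version.
-/

set_option autoImplicit false
set_option linter.unusedSectionVars false

namespace H98.NatD

open Subgroup H53.PU H85.SL2 Matrix H98.NatA H98.NatB H98.NatC Cfsg
open scoped MatrixGroups

theorem main {X : Type*} [Group X] [Finite X] {p : ℕ} [Fact p.Prime] (G V : Subgroup X)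
    (hV : Cfsg.IsElementaryAbelian p V) (hGV : G ≤ Subgroup.normalizer (V : Set X)) (F : Type*) [Field F] [Fintype F] (n : ℕ)
    (hF : Fintype.card F = p ^ n) (hG : Nonempty (↥G ≃* Matrix.SpecialLinearGroup (Fin 2) F))
    (hirr : ∀ U : Subgroup X, U ≤ V → G ≤ Subgroup.normalizer (U : Set X) → U = ⊥ ∨ U = V) (hnt : ⁅V, G⁆ ≠ ⊥) (S : Sylow p ↥G)
    (hyp : ⁅⁅V, (S : Subgroup ↥G).map G.subtype⁆, (S : Subgroup ↥G).map G.subtype⁆ = ⊥ ∨
      Nat.card ↥V ≤ Nat.card ↥(V ⊓ Subgroup.centralizer (((S : Subgroup ↥G).map G.subtype : Subgroup X) : Set X)) ^ 2) :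
    Cfsg.ActsAsSL2OnSection F ⊤ G V ⊥ := by
  classical
  have hVc : ∀ a ∈ V, ∀ b ∈ V, a * b = b * a := fun a ha b hb => congrArg Subtype.val (hV.1.is_comm.comm ⟨a, ha⟩ ⟨b, hb⟩)
  obtain ⟨e⟩ := hG
  have hchar : CharP F p := H51.NatSL2.charP_of_card p hF
  let P : Sylow p SL(2, F) := S.mapSurjective (f := e.toMonoidHom) e.surjective
  have hP : (P : Subgroup SL(2, F)) = (S : Subgroup G).map e.toMonoidHom := rfl
  obtain ⟨g, hg⟩ := H51.NatSL2.exists_conj_up p P
  let e' : G ≃* SL(2, F) := e.trans (MulAut.conj g⁻¹)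
  have he' : ∀ x : G, x ∈ (S : Subgroup G) ↔ ∃ t, e' x = up t := by
    intro x
    have h1 : e x ∈ (P : Subgroup SL(2, F)) ↔ x ∈ (S : Subgroup G) := by
      rw [hP]
      constructor
      · rintro ⟨y, hy, hyx⟩
        have : y = x := e.injective hyx
        rw [← this]; exact hy
      · intro hx
        exact ⟨x, hx, rfl⟩
    rw [← h1, hg]
    have : e' x = g⁻¹ * e x * g := by
      show (MulAut.conj g⁻¹) (e x) = _
      rw [MulAut.conj_apply, inv_inv]
    rw [this]
  letI := H51.NAct.addV V hVc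
  letI := H51.NAct.actV V G hVc hGV
  letI actS : DistribMulAction SL(2, F) (Additive V) := DistribMulAction.compHom (Additive V) (e'.symm : SL(2, F) →* G)
  have hact : ∀ (M : SL(2, F)) (w : Additive V), M • w = (e'.symm M) • w := fun M w => rfl
  have hact' : ∀ (x : G) (w : Additive V), x • w = (e' x) • w := fun x w => by rw [hact, e'.symm_apply_apply]
  have hsm : ∀ (x : G) (v : V), (((x • (Additive.ofMul v : Additive V)).toMul : V) : X) = x * v * (x : X)⁻¹ := fun x v => rfl
  have hpz : ∀ w : Additive V, p • w = 0 := by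
    intro w
    apply Additive.toMul.injective
    apply Subtype.ext
    exact hV.2 _ w.toMul.2
  have hpV : IsPGroup p V := by
    intro v
    exact ⟨1, by rw [pow_one]; exact Subtype.ext (hV.2 _ v.2)⟩
  have hPV : PV p (Additive V) := by
    obtain ⟨k, hk⟩ := IsPGroup.iff_card.mp hpV
    exact ⟨k, hk⟩
  have hlow : IsPGroup p (lowerUnipotentSL2 F) := by
    rintro ⟨a, ha⟩
    obtain ⟨t, rfl⟩ := mem_lower.1 ha
    refine ⟨1, Subtype.ext ?_⟩
    show lo t ^ (p ^ 1) = 1
    rw [pow_one, lo_pow, CharP.cast_eq_zero, zero_mul, lo_zero]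
  have hI : Irr F (Additive V) := by
    refine ⟨?_, ?_⟩
    · intro U hU
      let U' : Subgroup X :=
        { carrier := {x | ∃ u ∈ U, ((u.toMul : V) : X) = x}
          one_mem' := ⟨0, U.zero_mem, rfl⟩
          mul_mem' := by
            rintro _ _ ⟨u, hu, rfl⟩ ⟨v, hv, rfl⟩
            exact ⟨u + v, U.add_mem hu hv, rfl⟩
          inv_mem' := by
            rintro _ ⟨u, hu, rfl⟩
            exact ⟨-u, U.neg_mem hu, rfl⟩ }
      have key : ∀ x ∈ G, ∀ y ∈ U', x * y * x⁻¹ ∈ U' := by
        rintro x hx _ ⟨u, hu, rfl⟩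
        refine ⟨(⟨x, hx⟩ : G) • u, ?_, rfl⟩
        rw [hact']; exact hU _ u hu
      rcases hirr U' (by
          rintro _ ⟨u, -, rfl⟩
          exact u.toMul.2) (by
          intro x hx
          rw [Subgroup.mem_normalizer_iff]
          intro y
          refine ⟨key x hx y, fun h => ?_⟩
          have h1 := key x⁻¹ (inv_mem hx) _ h
          have : x⁻¹ * (x * y * x⁻¹) * x⁻¹⁻¹ = y := by group
          rwa [this] at h1) with h | h
      · left
        rw [eq_bot_iff]
        intro u hu
        have h1 : ((u.toMul : V) : X) ∈ U' := ⟨u, hu, rfl⟩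
        rw [h, Subgroup.mem_bot] at h1
        apply Additive.toMul.injective
        exact Subtype.ext h1
      · right
        rw [eq_top_iff]
        intro u _
        have h1 : ((u.toMul : V) : X) ∈ U' := by rw [h]; exact u.toMul.2
        obtain ⟨v, hv, hvu⟩ := h1
        have : v = u := Additive.toMul.injective (Subtype.ext hvu)
        rw [← this]; exact hv
    · intro h
      apply hnt
      rw [Subgroup.commutator_eq_bot_iff_le_centralizer]
      intro v hv
      rw [Subgroup.mem_centralizer_iff]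
      intro x hx
      have h1 := h (e' ⟨x, hx⟩) (Additive.ofMul (⟨v, hv⟩ : V))
      rw [← hact'] at h1
      exact (H51.NAct.smul_eq_self_iff V G hVc hGV ⟨x, hx⟩ ⟨v, hv⟩).1 h1
  -- the fixed points of the upper group
  have hC : ∀ v : V, (Additive.ofMul v : Additive V) ∈ fx (Additive V) (upperUnipotentSL2 F) ↔
      (v : X) ∈ Subgroup.centralizer (((S : Subgroup ↥G).map G.subtype : Subgroup X) : Set X) := by
    intro v
    rw [← H51.NAct.mem_fx_iff V G hVc hGV (S : Subgroup G) v]
    constructor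
    · intro h b hb
      obtain ⟨t, ht⟩ := (he' b).mp hb
      rw [hact', ht]
      exact h _ (up_mem t)
    · intro h a ha
      obtain ⟨t, rfl⟩ := mem_upper.1 ha
      have h1 := h (e'.symm (up t)) ((he' _).mpr ⟨t, e'.apply_symm_apply _⟩)
      exact h1
  have hq : ∀ (t : F) (w : Additive V), (up t : SL(2, F)) • w - w ∈ fx (Additive V) (upperUnipotentSL2 F) := by
    rcases hyp with hyp | hyp
    · intro t w
      obtain ⟨v, rfl⟩ := Additive.ofMul.surjective w
      rw [hact]
      have hs : e'.symm (up t) ∈ (S : Subgroup G) := (he' _).mpr ⟨t, e'.apply_symm_apply _⟩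
      obtain ⟨u, hu⟩ : ∃ u : V, (e'.symm (up t)) • (Additive.ofMul v : Additive V) - Additive.ofMul v = Additive.ofMul u := ⟨_, rfl⟩
      rw [hu, hC]
      have hu' : (u : X) = (e'.symm (up t) : X) * v * (e'.symm (up t) : X)⁻¹ * (v : X)⁻¹ := by
        have : u = ((e'.symm (up t)) • (Additive.ofMul v : Additive V) - Additive.ofMul v).toMul := by rw [hu]; rfl
        rw [this, sub_eq_add_neg]; rfl
      have h1 : (u : X) ∈ ⁅V, (S : Subgroup ↥G).map G.subtype⁆ := by
        rw [Subgroup.commutator_comm, hu', ← commutatorElement_def]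
        exact Subgroup.commutator_mem_commutator ⟨_, hs, rfl⟩ v.2
      rw [Subgroup.commutator_eq_bot_iff_le_centralizer] at hyp
      exact hyp h1
    · apply quad_of_card hPV hlow hI
      have h1 : Nat.card (fx (Additive V) (upperUnipotentSL2 F)) = Nat.card (fx (Additive V) (S : Subgroup G)) := by
        congr 2
        ext w
        obtain ⟨v, rfl⟩ := Additive.ofMul.surjective w
        exact (hC v).trans (H51.NAct.mem_fx_iff V G hVc hGV (S : Subgroup G) v).symm
      rw [h1, H51.NAct.card_fx V G hVc hGV (S : Subgroup G)]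
      exact hyp
  obtain ⟨ρ, ψ, hρ, hρψ⟩ := H98.NatC.main hF hpz hI hq
  refine ⟨hGV, bot_le, ρ.comp e'.toMonoidHom,
    { toFun := fun u => Multiplicative.ofAdd (ψ (Additive.ofMul u))
      map_one' := by
        show Multiplicative.ofAdd (ψ 0) = 1
        rw [map_zero]; rfl
      map_mul' := by
        intro u w
        show Multiplicative.ofAdd (ψ (Additive.ofMul u + Additive.ofMul w)) = _
        rw [map_add]; rfl }, ?_, ?_, ?_, ?_⟩
  · rw [MonoidHom.range_eq_top]
    exact hρ.comp e'.surjective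
  · intro z
    refine ⟨(ψ.symm z.toAdd).toMul, ?_⟩
    show Multiplicative.ofAdd (ψ (ψ.symm z.toAdd)) = z
    rw [ψ.apply_symm_apply]; rfl
  · intro u
    rw [Subgroup.mem_bot]
    constructor
    · intro h
      have h1 : ψ (Additive.ofMul u) = 0 := h
      rw [map_eq_zero_iff ψ ψ.injective] at h1
      have : u = 1 := h1
      rw [this]; rfl
    · intro h
      have : u = 1 := Subtype.ext h
      rw [this]
      show Multiplicative.ofAdd (ψ 0) = 1
      rw [map_zero]; rfl
  · intro x u
    refine ⟨(x • (Additive.ofMul u : Additive V)).toMul, rfl, ?_⟩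
    show ψ (x • (Additive.ofMul u : Additive V)) = (ρ (e' x)).1.mulVec (ψ (Additive.ofMul u))
    rw [hact', hρψ]

end H98.NatD
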