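import Mathlib
import Cfsg.Agent.Lib.H98.PGLMax13
import Cfsg.Agent.Lib.H10.Dihedral

set_option autoImplicit false

/-! Maximal subgroups of `PSL₂(F)`, `F` of even order. -/

namespace H98.PGLMax14

open MulAction Matrix OnePoint H98.Moebius H98.DicksonField H98.DicksonMoeb H98.DicksonNum H98.DicksonAbs H98.DicksonPGL
  H98.Dickson H98.DicksonPSL H98.DicksonIdx H98.DicksonDih H98.DicksonMax H98.DicksonSub H98.PGLMax1 H98.PGLMax2 H98.PGLMax3
  H98.PGLMax4 H98.PGLMax5 H98.PGLMax6 H98.PGLMax7 H98.PGLMax8 H98.PGLMax9 H98.PGLMax10 H98.PGLMax11 H98.PGLMax12 H98.PGLMax13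
open scoped H98.Moebius

/-- `PGL₂(2)` is dihedral of order six -/
theorem pgl_two (K : Type*) [Field K] [Finite K] (h : Nat.card K = 2) :
    Nonempty (ProjGenLinGroup (Fin 2) K ≃* DihedralGroup 3) := by
  classical
  have hK : ∀ z : K, z = 0 ∨ z = 1 := by
    intro z
    by_contra hcon
    push Not at hcon
    have h1 := Nat.card_le_card_of_injective (fun i : Fin 3 => (![0, 1, z] i : K)) (by
      intro i j hij
      fin_cases i <;> fin_cases j <;>
        first | rfl | (exfalso; revert hij; simp [hcon.1, hcon.2, hcon.1.symm, hcon.2.symm]))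
    rw [Nat.card_fin, h] at h1
    omega
  let f : ProjGenLinGroup (Fin 2) K →* Equiv.Perm (OnePoint K) := toPermHom (ProjGenLinGroup (Fin 2) K) (OnePoint K)
  have hf : Function.Injective f := by
    rw [injective_iff_map_eq_one]
    intro g hg
    have h1 : ∀ x : OnePoint K, g • x = x := fun x => by
      have := congrArg (fun s : Equiv.Perm (OnePoint K) => s x) hg
      exact this
    exact eq_one_of_fix g (h1 _) (h1 _) (h1 _)
  haveI : Finite (OnePoint K) := Nat.finite_of_card_ne_zero (by rw [card_onePoint]; omega)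
  letI := Fintype.ofFinite (OnePoint K)
  have hc : Nat.card (ProjGenLinGroup (Fin 2) K) = Nat.card (Equiv.Perm (OnePoint K)) := by
    rw [card_pgl_eq, h, Nat.card_eq_fintype_card, Fintype.card_perm, ← Nat.card_eq_fintype_card, card_onePoint, h]
    rfl
  have hbij := (Nat.bijective_iff_injective_and_card f).mpr ⟨hf, hc⟩
  have e1 := MulEquiv.ofBijective f hbij
  have e2 : OnePoint K ≃ Fin 3 := Finite.equivFinOfCardEq (by rw [card_onePoint, h])
  obtain ⟨e3⟩ := H10.Dihedral.dihedral_three_mulEquiv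
  exact ⟨(e1.trans e2.permCongrHom).trans e3.symm⟩

variable {F : Type*} [Field F] [Finite F]

theorem LL_eq_top (h : Even (Nat.card F)) : LL F = ⊤ := by
  have h1 := index_LL (F := F)
  rw [gcd_even h Finite.one_lt_card.le, Subgroup.index_eq_one] at h1
  exact h1

theorem class_even (heven : Even (Nat.card F)) (h4 : 4 ≤ Nat.card F) {P : Subgroup (ProjGenLinGroup (Fin 2) F)} (h : P ⋖ LL F) :
    Nat.card P = Nat.card F * (Nat.card F - 1) ∨
    Nonempty (P ≃* DihedralGroup (Nat.card F - 1)) ∨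
    Nonempty (P ≃* DihedralGroup (Nat.card F + 1)) ∨
    (∃ (F₀ : Type) (_ : Field F₀) (_ : Fintype F₀) (r : ℕ), r.Prime ∧ Fintype.card F₀ ≠ 2 ∧
        Nat.card F = Fintype.card F₀ ^ r ∧ Nonempty (P ≃* Matrix.ProjectiveSpecialLinearGroup (Fin 2) F₀)) := by
  haveI : CharP F 2 := charP_two_of_even heven
  haveI : Fact (Nat.Prime 2) := ⟨Nat.prime_two⟩
  have h' := h
  rw [LL_eq_top heven] at h'
  rcases class_top 2 h4 h' (Or.inl rfl) with h1 | h1 | h1 | ⟨h1, -⟩ | ⟨K, r, hr, -, hK, ⟨e⟩⟩
  · exact Or.inl h1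
  · exact Or.inr (Or.inl h1)
  · exact Or.inr (Or.inr (Or.inl h1))
  · omega
  · by_cases hK2 : Nat.card K = 2
    · obtain ⟨f⟩ := pgl_two K hK2
      rcases dihedral_top 2 h4 h' le_rfl (by norm_num) (e.trans f) with h2 | h2
      · right; left; rw [← h2]; exact ⟨e.trans f⟩
      · right; right; left; rw [← h2]; exact ⟨e.trans f⟩
    · right; right; right
      have hKe : Even (Nat.card K) := by
        obtain ⟨a, ha1, ha⟩ := char_dvd (F := K) 2
        rw [ha]; exact even_two.pow_of_ne_zero (by omega)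
      have e2 : ProjGenLinGroup (Fin 2) K ≃* Matrix.ProjectiveSpecialLinearGroup (Fin 2) K :=
        (Subgroup.topEquiv.symm.trans (MulEquiv.subgroupCongr (LL_eq_top hKe).symm)).trans (equivLL K).symm
      obtain ⟨F₀, i1, i2, hc, hE⟩ := small_psl K (e.trans e2)
      exact ⟨F₀, i1, i2, r, hr, by rw [hc]; exact hK2, by rw [hc, hK], hE⟩

end H98.PGLMax14
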