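import Mathlib
import Cfsg.Agent.Lib.H98.PGLMax17
import Cfsg.Agent.S0802
import Cfsg.Agent.S0809

set_option autoImplicit false

/-! Normalizers of the subgroups of `PSL(2,13)` are maximal. -/

namespace H98.PSL13

open Subgroup

section abs

variable {L : Type*} [Group L] [Finite L]

theorem normal_of_sylow {X : Type*} [Group X] [Finite X] (p m : ℕ) [hp : Fact p.Prime] (hX : Nat.card X = p * m) (hm0 : 0 < m) (hm : m < p)
    (R : Subgroup X) (hR : Nat.card R = p) : R.Normal := by
  have hpm : ¬ p ∣ m := fun h => absurd (Nat.le_of_dvd hm0 h) (by omega)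
  have hi : R.index = m := by
    have h1 := Subgroup.card_mul_index R
    rw [hR, hX] at h1
    exact Nat.eq_of_mul_eq_mul_left hp.out.pos h1
  have hpg : IsPGroup p R := IsPGroup.of_card (n := 1) (by rw [hR, pow_one])
  let S : Sylow p X := hpg.toSylow (by rw [hi]; exact hpm)
  have h1 : Nat.card (Sylow p X) ∣ m := by
    have := S.card_dvd_index
    rwa [show (S : Subgroup X) = R from IsPGroup.toSylow_coe hpg _, hi] at this
  have h2 : Nat.card (Sylow p X) ≡ 1 [MOD p] := card_sylow_modEq_one p X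
  have h3 : Nat.card (Sylow p X) ≤ m := Nat.le_of_dvd hm0 h1
  have h4 : Nat.card (Sylow p X) = 1 := by
    have h5 : Nat.card (Sylow p X) % p = 1 % p := h2
    rw [Nat.mod_eq_of_lt (by omega), Nat.mod_eq_of_lt hp.out.one_lt] at h5
    exact h5
  haveI : Subsingleton (Sylow p X) := (Nat.card_eq_one_iff_unique.mp h4).1
  have h6 : (S : Subgroup X).Normal := Sylow.normal_of_subsingleton S
  rwa [show (S : Subgroup X) = R from IsPGroup.toSylow_coe hpg _] at h6

/-- normality inside a subgroup -/
theorem le_norm_of_card (X R : Subgroup L) (hRX : R ≤ X) (p m : ℕ) [hp : Fact p.Prime] (hX : Nat.card X = p * m) (hm0 : 0 < m) (hm : m < p)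
    (hR : Nat.card R = p) : X ≤ normalizer (R : Set L) := by
  have h1 : (R.subgroupOf X).Normal := normal_of_sylow p m hX hm0 hm _ (by
    rw [← hR]; exact Nat.card_congr (Subgroup.subgroupOfEquivOfLe hRX).toEquiv)
  exact (Subgroup.normal_subgroupOf_iff_le_normalizer hRX).mp h1

theorem le_norm_index_two (X R : Subgroup L) (hRX : R ≤ X) (h : Nat.card X = 2 * Nat.card R) : X ≤ normalizer (R : Set L) := by
  have h1 : (R.subgroupOf X).index = 2 := by
    have h2 := Subgroup.card_mul_index (R.subgroupOf X)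
    rw [Nat.card_congr (Subgroup.subgroupOfEquivOfLe hRX).toEquiv, h, mul_comm] at h2
    exact Nat.eq_of_mul_eq_mul_right Nat.card_pos h2
  exact (Subgroup.normal_subgroupOf_iff_le_normalizer hRX).mp (Subgroup.normal_of_index_eq_two h1)

/-- elements normalising a cyclic group commute modulo its centralizer -/
theorem comm_centralizes {r : L} {R : Subgroup L} (hR : R = zpowers r) {g x : L} (hg : g ∈ normalizer (R : Set L)) (hx : x ∈ normalizer (R : Set L)) :
    g * x * g⁻¹ * x⁻¹ ∈ centralizer (R : Set L) := by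
  have hr : r ∈ R := by rw [hR]; exact mem_zpowers r
  have conj : ∀ y ∈ normalizer (R : Set L), ∃ k : ℤ, y * r * y⁻¹ = r ^ k := by
    intro y hy
    have h1 : y * r * y⁻¹ ∈ R := (mem_normalizer_iff.mp hy r).mp hr
    rw [hR, mem_zpowers_iff] at h1
    obtain ⟨k, hk⟩ := h1
    exact ⟨k, hk.symm⟩
  obtain ⟨a, ha⟩ := conj g hg
  obtain ⟨b, hb⟩ := conj x hx
  have cz : ∀ (y : L) (k m : ℤ), y * r * y⁻¹ = r ^ k → y * r ^ m * y⁻¹ = r ^ (k * m) := by
    intro y k m h
    rw [zpow_mul, ← h, conj_zpow]
  have h1 : (g * x) * r * (g * x)⁻¹ = (x * g) * r * (x * g)⁻¹ := by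
    have e1 : (g * x) * r * (g * x)⁻¹ = g * (x * r * x⁻¹) * g⁻¹ := by group
    have e2 : (x * g) * r * (x * g)⁻¹ = x * (g * r * g⁻¹) * x⁻¹ := by group
    rw [e1, e2, hb, ha, cz g a b ha, cz x b a hb, mul_comm]
  have h2 : (g * x * g⁻¹ * x⁻¹) * r = r * (g * x * g⁻¹ * x⁻¹) := by
    have e3 : ∃ w : L, w = (x * g) ∧ True := ⟨_, rfl, trivial⟩
    -- put r = (xg)⁻¹ … 
    obtain ⟨c, hc⟩ := conj (x * g)⁻¹ (inv_mem (mul_mem hx hg))
    have h3 := cz (g * x) (a * b) c (by
      have e1 : (g * x) * r * (g * x)⁻¹ = g * (x * r * x⁻¹) * g⁻¹ := by group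
      rw [e1, hb, cz g a b ha])
    have h4 := cz (x * g) (a * b) c (by rw [← h1]; have e1 : (g * x) * r * (g * x)⁻¹ = g * (x * r * x⁻¹) * g⁻¹ := by group
                                        rw [e1, hb, cz g a b ha])
    rw [← hc] at h3 h4
    have h5 : (x * g) * ((x * g)⁻¹ * r * (x * g)⁻¹⁻¹) * (x * g)⁻¹ = r := by group
    rw [h5] at h4
    rw [← h4] at h3
    have h6 : (g * x * g⁻¹ * x⁻¹) * r * (g * x * g⁻¹ * x⁻¹)⁻¹ = (g * x) * ((x * g)⁻¹ * r * (x * g)⁻¹⁻¹) * (g * x)⁻¹ := by group
    rw [h3] at h6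
    exact mul_inv_eq_iff_eq_mul.mp h6
  rw [mem_centralizer_iff]
  intro y hy
  rw [SetLike.mem_coe, hR, mem_zpowers_iff] at hy
  obtain ⟨k, rfl⟩ := hy
  exact ((show Commute (g * x * g⁻¹ * x⁻¹) r from h2).zpow_right k).eq.symm

variable [IsSimpleGroup L]
  (h1 : ∀ X : Subgroup L, IsCoatom X → Nat.card X = 78 ∨ Nat.card X = 12 ∨ Nat.card X = 14)
  (h2 : ∀ c : L, orderOf c ∣ 13 ∨ orderOf c ∣ 6 ∨ orderOf c ∣ 7)
  (h3 : ∀ t : L, orderOf t = 2 → 12 ∣ Nat.card (centralizer ({t} : Set L)))
  (h4 : ∀ P : Subgroup L, Nat.card P = 3 ∨ Nat.card P = 4 → 12 ∣ Nat.card (normalizer (P : Set L)))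

theorem norm_ne_top {P : Subgroup L} (hb : P ≠ ⊥) (ht : P ≠ ⊤) : normalizer (P : Set L) ≠ ⊤ := by
  intro h
  have h5 : P.Normal := Subgroup.normalizer_eq_top_iff.mp h
  rcases h5.eq_bot_or_eq_top with h6 | h6
  · exact hb h6
  · exact ht h6

theorem norm_eq {P X : Subgroup L} (hb : P ≠ ⊥) (ht : P ≠ ⊤) (hX : IsCoatom X) (h : X ≤ normalizer (P : Set L)) :
    IsCoatom (normalizer (P : Set L)) := by
  rcases eq_or_lt_of_le h with h5 | h5
  · rw [← h5]; exact hX
  · exact absurd (hX.2 _ h5) (norm_ne_top hb ht)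

include h1 in
theorem coatom_of_twelve {P : Subgroup L} (hb : P ≠ ⊥) (ht : P ≠ ⊤) (h : 12 ∣ Nat.card (normalizer (P : Set L))) :
    IsCoatom (normalizer (P : Set L)) := by
  obtain ⟨Y, hY, hle⟩ := (eq_top_or_exists_le_coatom (normalizer (P : Set L))).resolve_left (norm_ne_top hb ht)
  have h5 := h.trans (Subgroup.card_dvd_of_le hle)
  have h6 : Nat.card Y = 12 := by
    rcases h1 Y hY with h7 | h7 | h7
    · rw [h7] at h5; omega
    · exact h7
    · rw [h7] at h5; omega
  have h7 : normalizer (P : Set L) = Y := by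
    apply Subgroup.eq_of_le_of_card_ge hle
    rw [h6]; exact Nat.le_of_dvd Nat.card_pos h
  rw [h7]; exact hY

include h2 in
/-- commuting elements: no element of order `13` commutes with an element of order prime to `13` -/
theorem no_comm {r c : L} (hr : orderOf r = 13) (hc : Commute r c) (hc13 : ¬ 13 ∣ orderOf c) : c = 1 := by
  have hco : (orderOf r).Coprime (orderOf c) := by
    rw [hr]; exact (Nat.Prime.coprime_iff_not_dvd (by norm_num)).mpr hc13
  have h5 := hc.orderOf_mul_eq_mul_orderOf_of_coprime hco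
  rw [hr] at h5
  rcases h2 (r * c) with h6 | h6 | h6
  · rw [h5] at h6
    have h7 : 13 * orderOf c ≤ 13 := Nat.le_of_dvd (by norm_num) h6
    have h8 : 0 < orderOf c := orderOf_pos c
    have h9 : orderOf c = 1 := by omega
    exact orderOf_eq_one_iff.mp h9
  · rw [h5] at h6
    have h7 := Nat.le_of_dvd (by norm_num) ((Dvd.intro _ rfl : (13 : ℕ) ∣ 13 * orderOf c).trans h6)
    omega
  · rw [h5] at h6
    have h7 := Nat.le_of_dvd (by norm_num) ((Dvd.intro _ rfl : (13 : ℕ) ∣ 13 * orderOf c).trans h6)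
    omega

/-- a subgroup of order `13` inside -/
theorem exists_R {X : Subgroup L} (h : 13 ∣ Nat.card X) : ∃ r : L, r ∈ X ∧ orderOf r = 13 := by
  haveI : Fact (Nat.Prime 13) := ⟨by norm_num⟩
  obtain ⟨r, hr⟩ := exists_prime_orderOf_dvd_card' (G := X) 13 h
  exact ⟨r, r.2, by rw [Subgroup.orderOf_coe]; exact hr⟩

include h2 in
/-- in a group of order 78 -/
theorem borel {X : Subgroup L} (hX : Nat.card X = 78) {r : L} (hrX : r ∈ X) (hr : orderOf r = 13) :
    X ≤ normalizer ((zpowers r : Subgroup L) : Set L) ∧ ∀ g ∈ X, ∀ x ∈ X, g * x * g⁻¹ * x⁻¹ ∈ zpowers r := by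
  haveI : Fact (Nat.Prime 13) := ⟨by norm_num⟩
  have hle : zpowers r ≤ X := by rw [zpowers_le]; exact hrX
  have hc : Nat.card (zpowers r) = 13 := by rw [Nat.card_zpowers, hr]
  have h5 := le_norm_of_card X (zpowers r) hle 13 6 (by rw [hX]) (by norm_num) (by norm_num) hc
  refine ⟨h5, ?_⟩
  intro g hg x hx
  have h6 := comm_centralizes rfl (h5 hg) (h5 hx)
  have h7 : g * x * g⁻¹ * x⁻¹ ∈ X := X.mul_mem (X.mul_mem (X.mul_mem hg hx) (X.inv_mem hg)) (X.inv_mem hx)
  set c := g * x * g⁻¹ * x⁻¹ with hcdef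
  -- the centralizer is a `13`-group; `c` and `zpowers r` generate a `13`-group
  have hcomm : Commute r c := by
    have := (mem_centralizer_iff.mp h6) r (mem_zpowers r)
    exact this
  -- order of c is 1 or 13
  have hord : c ^ 13 = 1 := by
    rcases h2 c with h8 | h8 | h8
    · exact orderOf_dvd_iff_pow_eq_one.mp h8
    · have h9 : c = 1 := no_comm h2 hr hcomm (by
        intro h10
        have := Nat.le_of_dvd (by norm_num) (h10.trans h8)
        omega)
      rw [h9, one_pow]
    · have h9 : c = 1 := no_comm h2 hr hcomm (by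
        intro h10
        have := Nat.le_of_dvd (by norm_num) (h10.trans h8)
        omega)
      rw [h9, one_pow]
  -- the Sylow 13-subgroup of X is unique
  by_contra hcon
  have hc1 : c ≠ 1 := fun h => hcon (by rw [h]; exact one_mem _)
  have hoc : orderOf c = 13 := orderOf_eq_prime hord hc1
  have hcX : zpowers c ≤ X := by rw [zpowers_le]; exact h7
  have hcc : Nat.card (zpowers c) = 13 := by rw [Nat.card_zpowers, hoc]
  have hn : X ≤ normalizer ((zpowers r : Subgroup L) : Set L) := h5
  -- product subgroup of order 169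
  have h10 : Disjoint (zpowers r) (zpowers c) := by
    rw [disjoint_iff, Subgroup.eq_bot_iff_forall]
    intro y hy
    by_contra hy1
    have hy' := Subgroup.mem_inf.mp hy
    have h11 : zpowers y ≤ zpowers r := by rw [zpowers_le]; exact hy'.1
    have h12 : zpowers y ≤ zpowers c := by rw [zpowers_le]; exact hy'.2
    have h13 : Nat.card (zpowers y) = 13 := by
      have h14 := Subgroup.card_dvd_of_le h11
      rw [hc] at h14
      rcases (Nat.dvd_prime (by norm_num)).mp h14 with h15 | h15
      · rw [Nat.card_zpowers, orderOf_eq_one_iff] at h15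
        exact absurd h15 hy1
      · exact h15
    have h14 : zpowers y = zpowers r := Subgroup.eq_of_le_of_card_ge h11 (by rw [h13, hc])
    have h15 : zpowers y = zpowers c := Subgroup.eq_of_le_of_card_ge h12 (by rw [h13, hcc])
    exact hcon (by rw [← h14, h15]; exact mem_zpowers c)
  have h11 : Function.Injective (fun z : (zpowers r) × (zpowers c) => (z.1 : L) * z.2) := Subgroup.mul_injective_of_disjoint h10
  have h12 : Nat.card ((zpowers r) × (zpowers c)) ≤ Nat.card X := by
    apply Nat.card_le_card_of_injective (fun z : (zpowers r) × (zpowers c) => (⟨(z.1 : L) * z.2, X.mul_mem (hle z.1.2) (hcX z.2.2)⟩ : X))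
    intro a b hab
    exact h11 (congrArg Subtype.val hab)
  rw [Nat.card_prod, hc, hcc, hX] at h12
  omega

include h1 h2 h3 h4 in
/-- normalizers are maximal -/
theorem coatom_norm {P : Subgroup L} (hb : P ≠ ⊥) (ht : P ≠ ⊤) : IsCoatom (normalizer (P : Set L)) := by
  haveI : Fact (Nat.Prime 13) := ⟨by norm_num⟩
  haveI : Fact (Nat.Prime 2) := ⟨by norm_num⟩
  haveI : Fact (Nat.Prime 7) := ⟨by norm_num⟩
  obtain ⟨X, hX, hPX⟩ := (eq_top_or_exists_le_coatom P).resolve_left ht
  have hdvd := Subgroup.card_dvd_of_le hPX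
  have hP1 : Nat.card P ≠ 1 := fun h => hb (Subgroup.card_eq_one.mp h)
  have hP2 : Nat.card P = 2 → IsCoatom (normalizer (P : Set L)) := by
    intro hP
    obtain ⟨t, ht1⟩ := exists_prime_orderOf_dvd_card' (G := P) 2 (by rw [hP])
    have ht2 : orderOf (t : L) = 2 := by rw [Subgroup.orderOf_coe]; exact ht1
    have hz : zpowers (t : L) = P := by
      apply Subgroup.eq_of_le_of_card_ge
      · rw [zpowers_le]; exact t.2
      · rw [Nat.card_zpowers, ht2, hP]
    apply coatom_of_twelve h1 hb ht
    have h5 : centralizer ({(t : L)} : Set L) ≤ normalizer (P : Set L) := by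
      have h6 : centralizer ({(t : L)} : Set L) ≤ normalizer ((zpowers (t : L) : Subgroup L) : Set L) := by
        rw [← Subgroup.centralizer_closure, ← Subgroup.zpowers_eq_closure]
        exact Subgroup.centralizer_le_normalizer _
      have h7 : normalizer ((zpowers (t : L) : Subgroup L) : Set L) = normalizer (P : Set L) :=
        congrArg (fun Z : Subgroup L => normalizer (Z : Set L)) hz
      rwa [h7] at h6
    exact (h3 _ ht2).trans (Subgroup.card_dvd_of_le h5)
  have hP34 : (Nat.card P = 3 ∨ Nat.card P = 4) → IsCoatom (normalizer (P : Set L)) := fun h => coatom_of_twelve h1 hb ht (h4 P h)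
  have hP6 : Nat.card P = 6 → Nat.card X = 78 → IsCoatom (normalizer (P : Set L)) := by
    intro hP hX78
    obtain ⟨r, hrX, hr⟩ := exists_R (X := X) (by rw [hX78]; norm_num)
    obtain ⟨-, h5⟩ := borel h2 hX78 hrX hr
    have hab : ∀ g ∈ P, ∀ x ∈ P, g * x = x * g := by
      intro g hg x hx
      have h6 := h5 g (hPX hg) x (hPX hx)
      have h7 : g * x * g⁻¹ * x⁻¹ ∈ P := P.mul_mem (P.mul_mem (P.mul_mem hg hx) (P.inv_mem hg)) (P.inv_mem hx)
      have h8 : g * x * g⁻¹ * x⁻¹ = 1 := by
        have h9 : orderOf (g * x * g⁻¹ * x⁻¹) ∣ 6 := by rw [← hP]; exact Subgroup.orderOf_dvd_natCard P h7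
        have h10 : orderOf (g * x * g⁻¹ * x⁻¹) ∣ 13 := by
          have := Subgroup.orderOf_dvd_natCard _ h6
          rwa [Nat.card_zpowers, hr] at this
        have h11 : orderOf (g * x * g⁻¹ * x⁻¹) ∣ 1 := by
          have := Nat.dvd_gcd h9 h10
          exact this
        exact orderOf_eq_one_iff.mp (Nat.dvd_one.mp h11)
      have h12 : g * x = x * g := by
        have := mul_inv_eq_one.mp h8
        exact (mul_inv_eq_iff_eq_mul.mp this)
      exact h12
    obtain ⟨t, ht1⟩ := exists_prime_orderOf_dvd_card' (G := P) 2 (by rw [hP]; norm_num)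
    have ht2 : orderOf (t : L) = 2 := by rw [Subgroup.orderOf_coe]; exact ht1
    have hPC : P ≤ centralizer ({(t : L)} : Set L) := by
      intro x hx
      rw [mem_centralizer_singleton_iff]
      exact hab x hx t t.2
    have hC12 := h3 _ ht2
    have hCt : centralizer ({(t : L)} : Set L) ≠ ⊤ := by
      intro h
      have h6 : (zpowers (t : L)).Normal := by
        constructor
        intro n hn g
        have h7 : g ∈ centralizer ({(t : L)} : Set L) := by rw [h]; trivial
        rw [mem_centralizer_singleton_iff] at h7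
        rw [mem_zpowers_iff] at hn
        obtain ⟨k, rfl⟩ := hn
        have h8 := ((show Commute g (t : L) from h7).zpow_right k).eq
        rw [h8, mul_inv_cancel_right]
        exact zpow_mem (mem_zpowers _) k
      rcases h6.eq_bot_or_eq_top with h7 | h7
      · have : Nat.card (zpowers (t : L)) = 1 := by rw [h7]; simp
        rw [Nat.card_zpowers, ht2] at this
        omega
      · have h8 : Nat.card P ≤ 2 := by
          rw [← ht2, ← Nat.card_zpowers, h7]
          exact Subgroup.card_le_of_le le_top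
        omega
    obtain ⟨Y, hY, hle⟩ := (eq_top_or_exists_le_coatom (centralizer ({(t : L)} : Set L))).resolve_left hCt
    have h5 := hC12.trans (Subgroup.card_dvd_of_le hle)
    have h6 : Nat.card Y = 12 := by
      rcases h1 Y hY with h7 | h7 | h7
      · rw [h7] at h5; omega
      · exact h7
      · rw [h7] at h5; omega
    exact norm_eq hb ht hY (le_norm_index_two Y P (hPC.trans hle) (by rw [h6, hP]))
  have hself : Nat.card P = Nat.card X → IsCoatom (normalizer (P : Set L)) := by
    intro h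
    have h5 : P = X := Subgroup.eq_of_le_of_card_ge hPX (by rw [h])
    exact norm_eq hb ht hX (by rw [← h5]; exact Subgroup.le_normalizer)
  rcases h1 X hX with hc | hc | hc
  · by_cases h13 : 13 ∣ Nat.card P
    · obtain ⟨r, hrP, hr⟩ := exists_R (X := P) h13
      obtain ⟨-, h5⟩ := borel h2 hc (hPX hrP) hr
      apply norm_eq hb ht hX
      intro g hg
      rw [mem_normalizer_iff]
      have key : ∀ g ∈ X, ∀ x ∈ P, g * x * g⁻¹ ∈ P := by
        intro g hg x hx
        have h6 := h5 g hg x (hPX hx)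
        have h7 : g * x * g⁻¹ * x⁻¹ ∈ P := by
          have : zpowers r ≤ P := by rw [zpowers_le]; exact hrP
          exact this h6
        have h8 := P.mul_mem h7 hx
        rwa [inv_mul_cancel_right] at h8
      intro x
      constructor
      · exact key g hg x
      · intro hx
        have h6 := key g⁻¹ (X.inv_mem hg) _ hx
        have e : g⁻¹ * (g * x * g⁻¹) * g⁻¹⁻¹ = x := by group
        rwa [e] at h6
    · have h6 : Nat.card P ∣ 6 := by
        rw [hc, show 78 = 13 * 6 by norm_num] at hdvd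
        exact (((Nat.Prime.coprime_iff_not_dvd (by norm_num)).mpr h13).symm).dvd_of_dvd_mul_left hdvd
      have h7 : Nat.card P ≤ 6 := Nat.le_of_dvd (by norm_num) h6
      have h8 : Nat.card P = 2 ∨ Nat.card P = 3 ∨ Nat.card P = 6 := by
        have h9 : 0 < Nat.card P := Nat.card_pos
        generalize Nat.card P = n at *
        interval_cases n <;> omega
      rcases h8 with h8 | h8 | h8
      · exact hP2 h8
      · exact hP34 (Or.inl h8)
      · exact hP6 h8 hc
  · rw [hc] at hdvd
    have h7 : Nat.card P ≤ 12 := Nat.le_of_dvd (by norm_num) hdvd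
    have h8 : Nat.card P = 2 ∨ Nat.card P = 3 ∨ Nat.card P = 4 ∨ Nat.card P = 6 ∨ Nat.card P = 12 := by
      have h9 : 0 < Nat.card P := Nat.card_pos
      generalize Nat.card P = n at *
      interval_cases n <;> omega
    rcases h8 with h8 | h8 | h8 | h8 | h8
    · exact hP2 h8
    · exact hP34 (Or.inl h8)
    · exact hP34 (Or.inr h8)
    · exact norm_eq hb ht hX (le_norm_index_two X P hPX (by rw [hc, h8]))
    · exact hself (by rw [hc, h8])
  · rw [hc] at hdvd
    have h7 : Nat.card P ≤ 14 := Nat.le_of_dvd (by norm_num) hdvd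
    have h8 : Nat.card P = 2 ∨ Nat.card P = 7 ∨ Nat.card P = 14 := by
      have h9 : 0 < Nat.card P := Nat.card_pos
      generalize Nat.card P = n at *
      interval_cases n <;> omega
    rcases h8 with h8 | h8 | h8
    · exact hP2 h8
    · exact norm_eq hb ht hX (le_norm_index_two X P hPX (by rw [hc, h8]))
    · exact hself (by rw [hc, h8])

end abs

section conc

open Matrix H98.PGLMax1 H98.PGLMax2 H98.PGLMax13 H98.PGLMax17 H98.DicksonPSL H98.DicksonDih H98.DicksonIdx

instance fact13 : Fact (Nat.Prime 13) := ⟨by norm_num⟩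

abbrev L13 := Matrix.ProjectiveSpecialLinearGroup (Fin 2) (ZMod 13)

instance finL : Finite L13 := inferInstanceAs (Finite (_ ⧸ _))

theorem card13 : Nat.card (ZMod 13) = 13 := by rw [Nat.card_eq_fintype_card, ZMod.card]

theorem card_L13 : Nat.card L13 = 1092 := by
  have h := card_G (F := ZMod 13)
  rw [card13] at h
  exact h

instance simple_L13 : IsSimpleGroup L13 :=
  Matrix.ProjectiveSpecialLinearGroup.rank_two_simple (F := ZMod 13) (by rw [card13]; norm_num)

theorem max_L13 (X : Subgroup L13) (hX : IsCoatom X) : Nat.card X = 78 ∨ Nat.card X = 12 ∨ Nat.card X = 14 := by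
  have h := covBy_of_psl hX
  have hc : Nat.card (X.map ProjectiveSpecialLinearGroup.toPGL) = Nat.card X :=
    Nat.card_congr (X.equivMapOfInjective _ ProjectiveSpecialLinearGroup.toPGL_injective).symm.toEquiv
  rcases order_cases 13 (by rw [card13]; decide) (by rw [card13]; norm_num) h with h1 | h1 | h1 | ⟨f, hf3, hf, h1, -⟩ | ⟨f, hf3, hf, h1⟩ |
    ⟨h1, h2⟩ | ⟨h1, h2⟩ | ⟨h1, h2⟩
  · rw [hc, card13] at h1; left; omega
  · rw [hc, card13] at h1; right; left; omega
  · rw [hc, card13] at h1; right; right; omega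
  · rw [card13] at hf
    exfalso
    have h5 : f < 4 := by
      by_contra h6
      push Not at h6
      have := Nat.pow_le_pow_left h6 2
      omega
    interval_cases f
    omega
  · rw [card13] at hf
    exfalso
    have := Nat.pow_le_pow_left hf3 3
    omega
  · rw [card13] at h1; omega
  · right; left
    rw [← hc]; exact card_A4 h2
  · rw [card13] at h1; omega

theorem order_L13 (c : L13) : orderOf c ∣ 13 ∨ orderOf c ∣ 6 ∨ orderOf c ∣ 7 := by
  have h := H46.PSL2Orders.order_trichotomy (F := ZMod 13) 13 c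
  rw [card13] at h
  exact h

theorem dih_L13 : ∃ D : Subgroup L13, Nonempty (D ≃* DihedralGroup 6) := by
  have h := exists_dih_minus (F := ZMod 13) (by rw [card13]; norm_num)
  rw [card13] at h
  exact h

theorem dih6_center : ∃ z : DihedralGroup 6, z * z = 1 ∧ z ≠ 1 ∧ ∀ x, x * z = z * x := ⟨DihedralGroup.r 3, by decide, by decide, by decide⟩

theorem conj_centralizer_card {G : Type*} [Group G] [Finite G] {x y : G} (h : IsConj x y) :
    Nat.card (centralizer ({x} : Set G)) = Nat.card (centralizer ({y} : Set G)) := by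
  obtain ⟨g, hg⟩ := isConj_iff.mp h
  have : centralizer ({y} : Set G) = (centralizer ({x} : Set G)).map (MulAut.conj g).toMonoidHom := by
    rw [← hg]
    ext z
    rw [Subgroup.mem_map, mem_centralizer_singleton_iff]
    constructor
    · intro hz
      refine ⟨g⁻¹ * z * g, ?_, ?_⟩
      · rw [mem_centralizer_singleton_iff]
        have e1 : g⁻¹ * z * g * x = g⁻¹ * (z * (g * x * g⁻¹)) * g := by group
        have e2 : x * (g⁻¹ * z * g) = g⁻¹ * ((g * x * g⁻¹) * z) * g := by group
        rw [e1, e2, hz]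
      · show g * (g⁻¹ * z * g) * g⁻¹ = z
        group
    · rintro ⟨w, hw, rfl⟩
      rw [mem_centralizer_singleton_iff] at hw
      show g * w * g⁻¹ * (g * x * g⁻¹) = g * x * g⁻¹ * (g * w * g⁻¹)
      have e1 : g * w * g⁻¹ * (g * x * g⁻¹) = g * (w * x) * g⁻¹ := by group
      have e2 : g * x * g⁻¹ * (g * w * g⁻¹) = g * (x * w) * g⁻¹ := by group
      rw [e1, e2, hw]
  rw [this]
  exact Nat.card_congr (Subgroup.equivMapOfInjective _ _ (MulAut.conj g).injective).toEquiv

theorem exists_four : ∃ a : Matrix.SpecialLinearGroup (Fin 2) (ZMod 13), a ^ 2 ≠ 1 ∧ a ^ 4 = 1 := by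
  let A : Matrix (Fin 2) (Fin 2) (ZMod 13) := !![0, -1; 1, 0]
  have hA : A * A = -1 := by
    show !![(0 : ZMod 13), -1; 1, 0] * !![0, -1; 1, 0] = -1
    rw [Matrix.mul_fin_two]
    ext i j
    fin_cases i <;> fin_cases j <;> simp
  have hdet : A.det = 1 := by
    show (!![(0 : ZMod 13), -1; 1, 0]).det = 1
    rw [Matrix.det_fin_two_of]; simp
  obtain ⟨a, ha⟩ : ∃ a : Matrix.SpecialLinearGroup (Fin 2) (ZMod 13), (a : Matrix (Fin 2) (Fin 2) (ZMod 13)) = A := ⟨⟨A, hdet⟩, rfl⟩
  refine ⟨a, ?_, ?_⟩
  · intro h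
    rw [pow_two] at h
    have h1 := congrArg Subtype.val h
    change (a : Matrix (Fin 2) (Fin 2) (ZMod 13)) * (a : Matrix (Fin 2) (Fin 2) (ZMod 13)) = 1 at h1
    rw [ha] at h1
    rw [hA] at h1
    have h2 := congrFun (congrFun h1 0) 0
    rw [Matrix.neg_apply, Matrix.one_apply_eq] at h2
    exact absurd h2 (by decide)
  · apply Subtype.ext
    have e : a ^ 4 = (a * a) * (a * a) := by
      rw [pow_succ, pow_succ, pow_two]; simp only [mul_assoc]
    rw [e]
    show ((a : Matrix (Fin 2) (Fin 2) (ZMod 13)) * a) * ((a : Matrix (Fin 2) (Fin 2) (ZMod 13)) * a) = 1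
    rw [ha, hA, neg_mul_neg, one_mul]

theorem centr_L13 (t : L13) (ht : orderOf t = 2) : 12 ∣ Nat.card (centralizer ({t} : Set L13)) := by
  obtain ⟨D, ⟨e⟩⟩ := dih_L13
  obtain ⟨z, hzz, hz1, hzc⟩ := dih6_center
  have hoz : orderOf ((e.symm z : D) : L13) = 2 := by
    rw [Subgroup.orderOf_coe]
    apply orderOf_eq_prime
    · rw [pow_two, ← map_mul, hzz, map_one]
    · intro h
      apply hz1
      rw [← map_one e.symm] at h
      exact e.symm.injective h
  -- all involutions are conjugate
  have hSL : ∃ A : Subgroup (Matrix.SpecialLinearGroup (Fin 2) (ZMod 13)), Nat.card A = 4 := by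
    obtain ⟨a, ha2, ha4⟩ := exists_four
    refine ⟨zpowers a, ?_⟩
    rw [Nat.card_zpowers]
    exact orderOf_eq_prime_pow (p := 2) (n := 1) (by simpa using ha2) (by simpa using ha4)
  obtain ⟨A, hA⟩ := hSL
  have hconj := (Cfsg.Agent.S0809.result (F := ZMod 13) (q := 13) (by rw [ZMod.card]) (by decide) A hA).2.2.2 t _ ht hoz
  rw [conj_centralizer_card hconj]
  have h1 : D ≤ centralizer ({((e.symm z : D) : L13)} : Set L13) := by
    intro x hx
    rw [mem_centralizer_singleton_iff]
    have h2 := hzc (e ⟨x, hx⟩)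
    have h3 := congrArg e.symm h2
    rw [map_mul, map_mul, e.symm_apply_apply] at h3
    exact congrArg Subtype.val h3
  have h2 := Subgroup.card_dvd_of_le h1
  rwa [Nat.card_congr e.toEquiv, DihedralGroup.nat_card] at h2

/-- Sylow conjugation -/
theorem norm_card_of_sylow {G : Type*} [Group G] [Finite G] (p k : ℕ) [Fact p.Prime] (n : ℕ) (hG : Nat.card G = p ^ n * k) (hk : ¬ p ∣ k)
    (P Q : Subgroup G) (hP : Nat.card P = p ^ n) (hQ : Nat.card Q = p ^ n) :
    Nat.card (normalizer (P : Set G)) = Nat.card (normalizer (Q : Set G)) := by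
  have hp0 : 0 < p ^ n := pow_pos (Fact.out : p.Prime).pos n
  have hi : ∀ R : Subgroup G, Nat.card R = p ^ n → ¬ p ∣ R.index := by
    intro R hR
    have h1 := Subgroup.card_mul_index R
    rw [hR, hG] at h1
    rw [Nat.eq_of_mul_eq_mul_left hp0 h1]; exact hk
  let S := (IsPGroup.of_card hP).toSylow (hi P hP)
  let T := (IsPGroup.of_card hQ).toSylow (hi Q hQ)
  have hS : (S : Subgroup G) = P := IsPGroup.toSylow_coe _ _
  have hT : (T : Subgroup G) = Q := IsPGroup.toSylow_coe _ _
  obtain ⟨g, hg⟩ := MulAction.exists_smul_eq G S T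
  have h1 : P.map (MulAut.conj g).toMonoidHom = Q := by
    rw [← hS, ← hT, ← hg]; rfl
  rw [← h1, ← Subgroup.map_normalizer_eq_of_bijective _ (MulAut.conj g).bijective]
  exact Nat.card_congr (Subgroup.equivMapOfInjective _ _ (MulAut.conj g).injective).toEquiv

theorem norm34_L13 (P : Subgroup L13) (h : Nat.card P = 3 ∨ Nat.card P = 4) : 12 ∣ Nat.card (normalizer (P : Set L13)) := by
  haveI : Fact (Nat.Prime 2) := ⟨by norm_num⟩
  haveI : Fact (Nat.Prime 3) := ⟨by norm_num⟩
  rcases h with h | h
  · obtain ⟨D, ⟨e⟩⟩ := dih_L13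
    -- the rotation subgroup of order 3
    let c : L13 := ((e.symm (DihedralGroup.r 2) : D) : L13)
    have hc : orderOf c = 3 := by
      show orderOf ((e.symm (DihedralGroup.r 2) : D) : L13) = 3
      rw [Subgroup.orderOf_coe]
      apply orderOf_eq_prime
      · rw [← map_pow, show (DihedralGroup.r 2 : DihedralGroup 6) ^ 3 = 1 by decide, map_one]
      · intro h1
        rw [← map_one e.symm] at h1
        exact absurd (e.symm.injective h1) (by decide)
    have hcard : Nat.card (zpowers c) = 3 := by rw [Nat.card_zpowers, hc]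
    have hD : D ≤ normalizer ((zpowers c : Subgroup L13) : Set L13) := by
      have key : ∀ x : DihedralGroup 6, x * DihedralGroup.r 2 * x⁻¹ = DihedralGroup.r 2 ∨ x * DihedralGroup.r 2 * x⁻¹ = (DihedralGroup.r 2)⁻¹ := by decide
      have key2 : ∀ x ∈ D, x * c * x⁻¹ ∈ zpowers c := by
        intro x hx
        have h1 : x * c * x⁻¹ = ((e.symm (e ⟨x, hx⟩ * DihedralGroup.r 2 * (e ⟨x, hx⟩)⁻¹) : D) : L13) := by
          rw [map_mul, map_mul, map_inv, e.symm_apply_apply]; rfl
        rw [h1]
        rcases key (e ⟨x, hx⟩) with h2 | h2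
        · rw [h2]; exact mem_zpowers c
        · rw [h2, map_inv]; exact inv_mem (mem_zpowers c)
      have key3 : ∀ x ∈ D, ∀ y ∈ zpowers c, x * y * x⁻¹ ∈ zpowers c := by
        intro x hx y hy
        obtain ⟨k, rfl⟩ := mem_zpowers_iff.mp hy
        rw [← conj_zpow]
        exact zpow_mem (key2 x hx) k
      intro x hx
      rw [mem_normalizer_iff]
      intro y
      constructor
      · exact key3 x hx y
      · intro hy
        have h6 := key3 x⁻¹ (D.inv_mem hx) _ hy
        have e : x⁻¹ * (x * y * x⁻¹) * x⁻¹⁻¹ = y := by group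
        rwa [e] at h6
    rw [norm_card_of_sylow (G := L13) 3 364 1 (by rw [card_L13]; norm_num) (by norm_num) P (zpowers c) (by rw [h]; rfl) (by rw [hcard]; rfl)]
    have h2 := Subgroup.card_dvd_of_le hD
    rwa [Nat.card_congr e.toEquiv, DihedralGroup.nat_card] at h2
  · obtain ⟨A, ⟨e⟩⟩ := (Cfsg.Agent.S0802.result (F := ZMod 13) 13 1 (by rw [ZMod.card, pow_one])).mpr (by rintro ⟨h2, -⟩; omega)
    -- the normal four-group of A
    have hV : ∃ V : Subgroup (alternatingGroup (Fin 4)), V.Normal ∧ Nat.card V = 4 := by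
      have h1 : Nat.card (alternatingGroup (Fin 4)) = 12 := card_A4 ⟨MulEquiv.refl _⟩
      let V : Subgroup (alternatingGroup (Fin 4)) :=
        { carrier := {x | x * x = 1}
          mul_mem' := by intro a b; revert a b; decide
          one_mem' := by decide
          inv_mem' := by intro a; revert a; decide }
      refine ⟨V, ⟨?_⟩, ?_⟩
      · intro n hn g
        show (g * n * g⁻¹) * (g * n * g⁻¹) = 1
        have : n * n = 1 := hn
        have e : (g * n * g⁻¹) * (g * n * g⁻¹) = g * (n * n) * g⁻¹ := by group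
        rw [e, this, mul_one, mul_inv_cancel]
      · have h2 : Nat.card V = Fintype.card {x : alternatingGroup (Fin 4) // x * x = 1} := by
          rw [← Nat.card_eq_fintype_card]; rfl
        rw [h2]; decide +kernel
    obtain ⟨V, hVn, hVc⟩ := hV
    let W : Subgroup L13 := (V.map e.symm.toMonoidHom).map A.subtype
    have hWA : W ≤ A := Subgroup.map_subtype_le _
    have hWc : Nat.card W = 4 := by
      rw [← hVc]
      rw [Nat.card_congr (Subgroup.equivMapOfInjective _ _ A.subtype_injective).symm.toEquiv]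
      exact Nat.card_congr (Subgroup.equivMapOfInjective _ _ e.symm.injective).symm.toEquiv
    have hWn : A ≤ normalizer (W : Set L13) := by
      rw [← Subgroup.normal_subgroupOf_iff_le_normalizer hWA]
      have : W.subgroupOf A = V.map e.symm.toMonoidHom := Subgroup.comap_map_eq_self_of_injective A.subtype_injective _
      rw [this]
      exact hVn.map _ e.symm.surjective
    rw [norm_card_of_sylow (G := L13) 2 273 2 (by rw [card_L13]; norm_num) (by norm_num) P W (by rw [h]; rfl) (by rw [hWc]; rfl)]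
    have h2 := Subgroup.card_dvd_of_le hWn
    rwa [card_A4 ⟨e⟩] at h2

/-- in `PSL(2,13)` the normalizers of proper nontrivial subgroups are maximal -/
theorem psl13 (P : Subgroup L13) (hP : ¬ P.Normal) : IsCoatom (normalizer (P : Set L13)) :=
  coatom_norm max_L13 order_L13 centr_L13 norm34_L13 (by rintro rfl; exact hP inferInstance) (by rintro rfl; exact hP inferInstance)

end conc

end H98.PSL13
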