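import Mathlib

set_option autoImplicit false

/-! Isomorphisms between symmetric groups of the same degree, and subgroups of index `n` in `S_n`. -/

namespace H98.PermIndex

open Equiv Equiv.Perm

section arith

/-- arithmetic: the centralizer of a product of `k` disjoint transpositions in `S_n` has the order of the
centralizer of a transposition only for `k = 1` or `(n, k) = (6, 3)`. -/
theorem arith (n k : ℕ) (hk : 1 ≤ k) (hkn : 2 * k ≤ n)
    (h : (n - 2 * k).factorial * 2 ^ k * k.factorial = (n - 2).factorial * 2) : k = 1 ∨ (n = 6 ∧ k = 3) := by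
  obtain ⟨m, rfl⟩ := Nat.exists_eq_add_of_le hkn
  have e1 : 2 * k + m - 2 * k = m := by omega
  rw [e1] at h
  rcases Nat.lt_or_ge k 4 with hk4 | hk4
  · interval_cases k
    · left; rfl
    · -- k = 2
      exfalso
      have e2 : 2 * 2 + m - 2 = m + 2 := by omega
      have hf2 : Nat.factorial 2 = 2 := rfl
      rw [hf2, e2, Nat.factorial_succ (m + 1), Nat.factorial_succ m] at h
      have hm := Nat.factorial_pos m
      have h2 : m.factorial * (2 * ((m + 2) * (m + 1))) = m.factorial * 8 := by
        linarith [h, show (m + 1 + 1) * ((m + 1) * m.factorial) * 2 = m.factorial * (2 * ((m + 2) * (m + 1))) by ring]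
      have h3 := Nat.eq_of_mul_eq_mul_left hm h2
      rcases m with _ | _ | m
      · omega
      · omega
      · nlinarith
    · right
      have e2 : 2 * 3 + m - 2 = m + 4 := by omega
      rw [e2] at h
      have hm := Nat.factorial_pos m
      have h1 : (m + 4).factorial = (m + 4) * (m + 3) * (m + 2) * (m + 1) * m.factorial := by
        rw [Nat.factorial_succ, Nat.factorial_succ, Nat.factorial_succ, Nat.factorial_succ]; ring
      have hf3 : Nat.factorial 3 = 6 := rfl
      rw [h1, hf3] at h
      have h2 : m.factorial * (2 * ((m + 4) * (m + 3) * (m + 2) * (m + 1))) = m.factorial * 48 := by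
        linarith [h, show (m + 4) * (m + 3) * (m + 2) * (m + 1) * m.factorial * 2 = m.factorial * (2 * ((m + 4) * (m + 3) * (m + 2) * (m + 1))) by ring]
      have h3 := Nat.eq_of_mul_eq_mul_left hm h2
      rcases m with _ | m
      · exact ⟨rfl, rfl⟩
      · exfalso
        have : (m + 1 + 4) * (m + 1 + 3) * (m + 1 + 2) * (m + 1 + 1) ≥ 5 * 4 * 3 * 2 := by
          apply Nat.mul_le_mul
          · apply Nat.mul_le_mul
            · apply Nat.mul_le_mul <;> omega
            · omega
          · omega
        omega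
  · exfalso
    -- (2k-2)! > 2^(k-1) k! for k ≥ 4
    have key : ∀ j : ℕ, 2 ^ (j + 4) * (j + 4).factorial < (2 * (j + 4) - 2).factorial * 2 := by
      intro j
      induction j with
      | zero => decide
      | succ j ih =>
        have e3 : 2 * (j + 1 + 4) - 2 = 2 * (j + 4) - 2 + 2 := by omega
        have e4 : (j + 1 + 4).factorial = (j + 5) * (j + 4).factorial := Nat.factorial_succ (j + 4)
        rw [e3, e4, Nat.factorial_succ (2 * (j + 4) - 2 + 1), Nat.factorial_succ (2 * (j + 4) - 2)]
        have e5 : 2 ^ (j + 1 + 4) = 2 * 2 ^ (j + 4) := by rw [show j + 1 + 4 = (j + 4) + 1 by ring, pow_succ]; ring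
        rw [e5]
        have e6 : 2 * (j + 4) - 2 = 2 * j + 6 := by omega
        rw [e6] at ih ⊢
        have h7 : 2 * (j + 5) * (2 ^ (j + 4) * (j + 4).factorial) < 2 * (j + 5) * ((2 * j + 6).factorial * 2) :=
          Nat.mul_lt_mul_of_pos_left ih (by omega)
        have h8 : 2 * (j + 5) * ((2 * j + 6).factorial * 2) ≤ ((2 * j + 6 + 1 + 1) * (2 * j + 6 + 1)) * ((2 * j + 6).factorial * 2) := by
          apply Nat.mul_le_mul_right
          nlinarith
        nlinarith
    obtain ⟨j, rfl⟩ := Nat.exists_eq_add_of_le hk4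
    have h1 := key j
    rw [show j + 4 = 4 + j by ring] at h1
    have h2 : (2 * (4 + j) - 2).factorial * m.factorial ≤ (2 * (4 + j) + m - 2).factorial := by
      have e3 : 2 * (4 + j) + m - 2 = (2 * (4 + j) - 2) + m := by omega
      rw [e3]
      exact Nat.le_of_dvd (Nat.factorial_pos _) (Nat.factorial_mul_factorial_dvd_factorial_add _ _)
    have hm := Nat.factorial_pos m
    have h3 : m.factorial * (2 ^ (4 + j) * (4 + j).factorial) < m.factorial * ((2 * (4 + j) - 2).factorial * 2) :=
      Nat.mul_lt_mul_of_pos_left h1 hm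
    nlinarith

end arith

variable {α β : Type*} [Fintype α] [DecidableEq α] [Fintype β] [DecidableEq β]

theorem centralizer_card_map {G H : Type*} [Group G] [Group H] (φ : G ≃* H) (g : G) :
    Nat.card (Subgroup.centralizer {φ g}) = Nat.card (Subgroup.centralizer {g}) := by
  symm
  apply Nat.card_congr
  refine φ.toEquiv.subtypeEquiv fun x => ?_
  rw [Subgroup.mem_centralizer_singleton_iff, Subgroup.mem_centralizer_singleton_iff]
  show _ ↔ φ x * φ g = φ g * φ x
  rw [← map_mul, ← map_mul]
  exact φ.injective.eq_iff.symm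

theorem cycleType_invol {g : Perm α} (hg : g ^ 2 = 1) : g.cycleType = Multiset.replicate (g.cycleType.card) 2 := by
  haveI : Fact (Nat.Prime 2) := ⟨Nat.prime_two⟩
  exact cycleType_of_pow_prime_eq_one hg

theorem centralizer_invol {g : Perm α} (hg : g ^ 2 = 1) (hg1 : g ≠ 1) :
    Nat.card (Subgroup.centralizer {g}) =
      (Fintype.card α - 2 * g.cycleType.card).factorial * 2 ^ (g.cycleType.card) * (g.cycleType.card).factorial := by
  rw [nat_card_centralizer]
  have h := cycleType_invol hg
  have hpos : 0 < g.cycleType.card := card_cycleType_pos.mpr hg1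
  set k := g.cycleType.card
  rw [h]
  rw [Multiset.sum_replicate, Multiset.prod_replicate, Multiset.toFinset_replicate, if_neg (by omega),
    Finset.prod_singleton, Multiset.count_replicate_self, smul_eq_mul, mul_comm k 2]

theorem swap_invol {t : Perm α} (ht : t.IsSwap) : t ^ 2 = 1 ∧ t ≠ 1 := by
  obtain ⟨x, y, hxy, rfl⟩ := ht
  exact ⟨by rw [pow_two, Equiv.swap_mul_self], fun h => hxy (Equiv.swap_eq_one_iff.mp h)⟩

/-- The involutions whose centralizer has the order of that of a transposition. -/
theorem invol_type {g : Perm α} (hg : g ^ 2 = 1) (hg1 : g ≠ 1)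
    (h : Nat.card (Subgroup.centralizer {g}) = (Fintype.card α - 2).factorial * 2) :
    g.IsSwap ∨ (Fintype.card α = 6 ∧ g.cycleType = {2, 2, 2}) := by
  rw [centralizer_invol hg hg1] at h
  have hpos : 0 < g.cycleType.card := card_cycleType_pos.mpr hg1
  have hsum := sum_cycleType_le g
  have hrep := cycleType_invol hg
  rw [hrep, Multiset.sum_replicate, smul_eq_mul, mul_comm] at hsum
  rcases arith _ _ hpos hsum h with h1 | ⟨h1, h2⟩
  · left
    rw [isSwap_iff_cycleType, hrep, h1]; rfl
  · right
    refine ⟨h1, ?_⟩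
    rw [hrep, h2]; rfl

theorem swap_image (hc : Fintype.card α = Fintype.card β) (φ : Perm α ≃* Perm β) {t : Perm α} (ht : t.IsSwap) :
    (φ t).IsSwap ∨ (Fintype.card β = 6 ∧ (φ t).cycleType = {2, 2, 2}) := by
  obtain ⟨h1, h2⟩ := swap_invol ht
  apply invol_type
  · rw [← map_pow, h1, map_one]
  · intro h; exact h2 (φ.injective (by rw [h, map_one]))
  · rw [centralizer_card_map, centralizer_invol h1 h2, (card_cycleType_eq_one.mpr ht.isCycle), ← hc]
    simp

/-- pairwise intersecting 2-sets: at least four of them share a point -/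
theorem star {ι : Type*} (S : ι → Finset β) (hS : ∀ i, (S i).card = 2) (hinj : ∀ i j, i ≠ j → S i ≠ S j)
    (hint : ∀ i j, i ≠ j → (S i ∩ S j).Nonempty) (i₁ i₂ : ι) (h12 : i₁ ≠ i₂)
    (hfour : ∀ i : ι, ∃ j : ι, j ≠ i₁ ∧ j ≠ i₂ ∧ j ≠ i) : ∃ b, ∀ i, b ∈ S i := by
  obtain ⟨b, hb⟩ := hint i₁ i₂ h12
  rw [Finset.mem_inter] at hb
  -- S i₁ = {b, c}, S i₂ = {b, d}
  have other : ∀ (T : Finset β), T.card = 2 → ∀ x ∈ T, ∃ y, y ≠ x ∧ T = {x, y} := by
    intro T hT x hx
    obtain ⟨p, q, hpq, rfl⟩ := Finset.card_eq_two.mp hT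
    rw [Finset.mem_insert, Finset.mem_singleton] at hx
    rcases hx with rfl | rfl
    · exact ⟨q, hpq.symm, rfl⟩
    · exact ⟨p, hpq, Finset.pair_comm _ _⟩
  obtain ⟨c, hcb, hc⟩ := other _ (hS i₁) b hb.1
  obtain ⟨d, hdb, hd⟩ := other _ (hS i₂) b hb.2
  have hcd : c ≠ d := by
    rintro rfl
    exact hinj _ _ h12 (by rw [hc, hd])
  -- a set meeting both without containing b is {c, d}
  have htri : ∀ i, i ≠ i₁ → i ≠ i₂ → b ∉ S i → S i = {c, d} := by
    intro i hi1 hi2 hb'
    obtain ⟨x, hx⟩ := hint i i₁ hi1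
    obtain ⟨y, hy⟩ := hint i i₂ hi2
    rw [hc, Finset.mem_inter, Finset.mem_insert, Finset.mem_singleton] at hx
    rw [hd, Finset.mem_inter, Finset.mem_insert, Finset.mem_singleton] at hy
    have hxc : x = c := hx.2.resolve_left (fun h => hb' (h ▸ hx.1))
    have hyd : y = d := hy.2.resolve_left (fun h => hb' (h ▸ hy.1))
    subst hxc hyd
    symm
    apply Finset.eq_of_subset_of_card_le
    · intro z hz
      rw [Finset.mem_insert, Finset.mem_singleton] at hz
      rcases hz with rfl | rfl
      · exact hx.1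
      · exact hy.1
    · rw [hS, Finset.card_pair hcd]
  refine ⟨b, fun i => ?_⟩
  by_contra hb'
  have hi1 : i ≠ i₁ := by rintro rfl; exact hb' hb.1
  have hi2 : i ≠ i₂ := by rintro rfl; exact hb' hb.2
  have hi := htri i hi1 hi2 hb'
  obtain ⟨j, hj1, hj2, hji⟩ := hfour i
  by_cases hbj : b ∈ S j
  · obtain ⟨e, heb, he⟩ := other _ (hS j) b hbj
    obtain ⟨x, hx⟩ := hint j i hji
    rw [he, hi, Finset.mem_inter, Finset.mem_insert, Finset.mem_singleton, Finset.mem_insert, Finset.mem_singleton] at hx
    obtain ⟨hx1, hx2⟩ := hx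
    have hxe : x = e := by
      rcases hx1 with rfl | h
      · exact absurd hb' (by rcases hx2 with h | h
                             · exact absurd h.symm hcb
                             · exact absurd h.symm hdb)
      · exact h
    subst hxe
    rcases hx2 with rfl | rfl
    · exact hinj _ _ hj1 (by rw [he, hc])
    · exact hinj _ _ hj2 (by rw [he, hd])
  · exact hinj _ _ hji (by rw [htri j hj1 hj2 hbj, hi])

/-- An isomorphism of symmetric groups that maps transpositions to transpositions maps point stabilizers into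
point stabilizers. -/
theorem stab_image (hα : 5 ≤ Fintype.card α) (φ : Perm α ≃* Perm β)
    (hφ : ∀ t : Perm α, t.IsSwap → (φ t).IsSwap) (a : α) :
    ∃ b : β, ∀ g : Perm α, g a = a → (φ g) b = b := by
  let ι := {y : α // y ≠ a}
  let S : ι → Finset β := fun y => (φ (swap a y.1)).support
  have hsw : ∀ y : ι, (φ (swap a y.1)).IsSwap := fun y => hφ _ ⟨a, y.1, y.2.symm, rfl⟩
  have hS : ∀ y, (S y).card = 2 := fun y => card_support_eq_two.mpr (hsw y)
  have hdet : ∀ s t : Perm β, s.IsSwap → t.IsSwap → s.support = t.support → s = t := by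
    rintro s t ⟨x, y, hxy, rfl⟩ ⟨z, w, hzw, rfl⟩ h
    rw [support_swap hxy, support_swap hzw] at h
    have hx : x ∈ ({z, w} : Finset β) := h ▸ Finset.mem_insert_self _ _
    have hy : y ∈ ({z, w} : Finset β) := h ▸ Finset.mem_insert_of_mem (Finset.mem_singleton_self _)
    rw [Finset.mem_insert, Finset.mem_singleton] at hx hy
    rcases hx with rfl | rfl <;> rcases hy with rfl | rfl
    · exact absurd rfl hxy
    · rfl
    · exact swap_comm _ _
    · exact absurd rfl hxy
  have hinj : ∀ i j : ι, i ≠ j → S i ≠ S j := by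
    intro i j hij h
    have h1 := φ.injective (hdet _ _ (hsw i) (hsw j) h)
    apply hij
    apply Subtype.ext
    have h2 := congrArg (fun e : Perm α => e a) h1
    simpa using h2
  have hint : ∀ i j : ι, i ≠ j → (S i ∩ S j).Nonempty := by
    intro i j hij
    by_contra hcon
    rw [Finset.not_nonempty_iff_eq_empty, ← Finset.disjoint_iff_inter_eq_empty, ← disjoint_iff_disjoint_support] at hcon
    have h1 := hcon.commute
    have h2 : swap a i.1 * swap a j.1 = swap a j.1 * swap a i.1 := by
      apply φ.injective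
      rw [map_mul, map_mul]; exact h1.eq
    have h3 := congrArg (fun e : Perm α => e a) h2
    simp only [Perm.mul_apply, swap_apply_left] at h3
    have hij' : i.1 ≠ j.1 := fun h => hij (Subtype.ext h)
    rw [swap_apply_of_ne_of_ne j.2 hij'.symm, swap_apply_of_ne_of_ne i.2 hij'] at h3
    exact hij' h3.symm
  have hcard : 4 ≤ Fintype.card ι := by
    rw [Fintype.card_subtype_compl, Fintype.card_subtype_eq]; omega
  have hex : ∀ s : Finset ι, s.card ≤ 3 → ∃ j : ι, j ∉ s := by
    intro s hs
    by_contra hcon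
    push Not at hcon
    have : s = Finset.univ := Finset.eq_univ_iff_forall.mpr hcon
    rw [this, Finset.card_univ] at hs
    omega
  obtain ⟨i₁, -⟩ := hex ∅ (by simp)
  obtain ⟨i₂, hi₂⟩ := hex {i₁} (by simp)
  have h12 : i₁ ≠ i₂ := by
    rintro rfl; exact hi₂ (Finset.mem_singleton_self _)
  obtain ⟨b, hb⟩ := star S hS hinj hint i₁ i₂ h12 (fun i => by
    obtain ⟨j, hj⟩ := hex {i₁, i₂, i} Finset.card_le_three
    simp only [Finset.mem_insert, Finset.mem_singleton, not_or] at hj
    exact ⟨j, hj.1, hj.2.1, hj.2.2⟩)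
  refine ⟨b, fun g hg => ?_⟩
  -- b is the unique common point of S i₁ and S i₂
  have huniq : ∀ c, c ∈ S i₁ → c ∈ S i₂ → c = b := by
    intro c hc1 hc2
    by_contra hcb
    apply hinj _ _ h12
    have e1 : ({c, b} : Finset β) = S i₁ := Finset.eq_of_subset_of_card_le (by
      intro z hz
      rw [Finset.mem_insert, Finset.mem_singleton] at hz
      rcases hz with rfl | rfl
      · exact hc1
      · exact hb _) (by rw [hS, Finset.card_pair hcb])
    have e2 : ({c, b} : Finset β) = S i₂ := Finset.eq_of_subset_of_card_le (by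
      intro z hz
      rw [Finset.mem_insert, Finset.mem_singleton] at hz
      rcases hz with rfl | rfl
      · exact hc2
      · exact hb _) (by rw [hS, Finset.card_pair hcb])
    rw [← e1, ← e2]
  have hmove : ∀ i : ι, (φ g) b ∈ S i := by
    intro i
    have hgi : g⁻¹ i.1 ≠ a := by
      intro h
      apply i.2
      have : i.1 = g a := by
        have h5 := congrArg g h
        simpa using h5
      exact this.trans hg
    have h1 := hb ⟨g⁻¹ i.1, hgi⟩
    have h2 : swap a i.1 = g * swap a (g⁻¹ i.1) * g⁻¹ := by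
      rw [← Equiv.swap_apply_apply, hg]; simp
    show (φ g) b ∈ (φ (swap a i.1)).support
    rw [h2, map_mul, map_mul, map_inv, support_conj]
    exact Finset.mem_map.mpr ⟨b, h1, rfl⟩
  exact huniq _ (hmove i₁) (hmove i₂)

end H98.PermIndex
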