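import Mathlib
import Cfsg.Agent.Lib.H98.PermIndex

set_option autoImplicit false

/-! Subgroups of index `n` in `S_n`. -/

namespace H98.PermIndex2

open Equiv Equiv.Perm H98.PermIndex

variable {α : Type*} [Fintype α] [DecidableEq α]

theorem core_eq_bot (hα : 5 ≤ Fintype.card α) (H : Subgroup (Perm α)) (hH : 2 < H.index) :
    H.normalCore = ⊥ := by
  by_contra hne
  have hnt : Nontrivial H.normalCore := (Subgroup.nontrivial_iff_ne_bot _).mpr hne
  have hle := Equiv.Perm.alternatingGroup_le_of_normal (α := α) (by rw [Nat.card_eq_fintype_card]; exact hα) hnt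
  have hle' : alternatingGroup α ≤ H := hle.trans H.normalCore_le
  haveI : Nontrivial α := Fintype.one_lt_card_iff_nontrivial.mp (by omega)
  have hidx : (alternatingGroup α).index = 2 := alternatingGroup.index_eq_two
  have hdvd : H.index ∣ 2 := hidx ▸ Subgroup.index_dvd_of_le hle'
  have := Nat.le_of_dvd (by norm_num) hdvd
  omega

theorem toPermHom_bijective (hα : 5 ≤ Fintype.card α) (H : Subgroup (Perm α)) (hH : H.index = Fintype.card α) :
    Function.Bijective (MulAction.toPermHom (Perm α) (Perm α ⧸ H)) := by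
  have hinj : Function.Injective (MulAction.toPermHom (Perm α) (Perm α ⧸ H)) := by
    rw [← MonoidHom.ker_eq_bot_iff, ← Subgroup.normalCore_eq_ker, core_eq_bot hα H (by omega)]
  haveI : Finite (Perm α ⧸ H) := inferInstance
  refine (Nat.bijective_iff_injective_and_card _).mpr ⟨hinj, ?_⟩
  rw [Nat.card_perm, Nat.card_perm, Nat.card_eq_fintype_card, ← hH]; rfl

/-- the isomorphism given by the action on cosets -/
noncomputable def cosetIso (hα : 5 ≤ Fintype.card α) (H : Subgroup (Perm α)) (hH : H.index = Fintype.card α) :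
    Perm α ≃* Perm (Perm α ⧸ H) :=
  MulEquiv.ofBijective (MulAction.toPermHom (Perm α) (Perm α ⧸ H)) (toPermHom_bijective hα H hH)

theorem cosetIso_apply (hα : 5 ≤ Fintype.card α) (H : Subgroup (Perm α)) (hH : H.index = Fintype.card α)
    (g : Perm α) (x : Perm α ⧸ H) : cosetIso hα H hH g x = g • x := rfl

theorem conj_of_fix (hα : 5 ≤ Fintype.card α) (H : Subgroup (Perm α)) (hH : H.index = Fintype.card α)
    (K : Subgroup (Perm α)) (hK : K.index = Fintype.card α) (x : Perm α ⧸ H) (hx : ∀ g ∈ K, g • x = x) :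
    ∃ k : Perm α, ∀ g, g ∈ H ↔ k * g * k⁻¹ ∈ K := by
  obtain ⟨k, rfl⟩ := QuotientGroup.mk_surjective x
  -- the stabilizer of kH has index n
  have hle : K ≤ MulAction.stabilizer (Perm α) ((k : Perm α) : Perm α ⧸ H) := fun g hg => hx g hg
  have hidx : (MulAction.stabilizer (Perm α) ((k : Perm α) : Perm α ⧸ H)).index = Fintype.card α := by
    rw [MulAction.index_stabilizer_of_transitive, ← hH]; rfl
  have heq : K = MulAction.stabilizer (Perm α) ((k : Perm α) : Perm α ⧸ H) := by
    apply Subgroup.eq_of_le_of_card_ge hle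
    have h1 := K.card_mul_index
    have h2 := (MulAction.stabilizer (Perm α) ((k : Perm α) : Perm α ⧸ H)).card_mul_index
    rw [hK] at h1
    rw [hidx, ← h1] at h2
    exact (Nat.eq_of_mul_eq_mul_right (by omega) h2).le
  refine ⟨k, fun g => ?_⟩
  rw [heq, MulAction.mem_stabilizer_iff]
  have : (k * g * k⁻¹) • ((k : Perm α) : Perm α ⧸ H) = ((k * g : Perm α) : Perm α ⧸ H) := by
    rw [MulAction.Quotient.smul_coe, smul_eq_mul, inv_mul_cancel_right]
  rw [this, QuotientGroup.eq, mul_inv_rev, inv_mul_cancel_right, H.inv_mem_iff]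

theorem index_stab (a : α) (hα : 0 < Fintype.card α) :
    (MulAction.stabilizer (Perm α) a).index = Fintype.card α := by
  rw [MulAction.index_stabilizer_of_transitive, Nat.card_eq_fintype_card]

/-- A subgroup of index `n` whose coset action maps transpositions to transpositions is a point stabilizer. -/
theorem eq_stab_of_swap (hα : 5 ≤ Fintype.card α) (H : Subgroup (Perm α)) (hH : H.index = Fintype.card α)
    [Fintype (Perm α ⧸ H)] [DecidableEq (Perm α ⧸ H)]
    (h : ∀ t : Perm α, t.IsSwap → (cosetIso hα H hH t).IsSwap) :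
    ∃ a : α, H = MulAction.stabilizer (Perm α) a := by
  obtain ⟨a⟩ : Nonempty α := Fintype.card_pos_iff.mp (by omega)
  obtain ⟨x, hx⟩ := stab_image hα (cosetIso hα H hH) h a
  obtain ⟨k, hk⟩ := conj_of_fix hα H hH (MulAction.stabilizer (Perm α) a) (index_stab a (by omega)) x
    (fun g hg => hx g hg)
  refine ⟨k⁻¹ a, ?_⟩
  ext g
  rw [hk, MulAction.mem_stabilizer_iff, MulAction.mem_stabilizer_iff]
  simp only [Perm.smul_def, Perm.mul_apply]
  constructor
  · intro h
    have h5 := congrArg (k⁻¹ : Perm α) h
    simpa using h5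
  · intro h; rw [h]; simp

theorem card_quot (H : Subgroup (Perm α)) (hH : H.index = Fintype.card α) [Fintype (Perm α ⧸ H)] :
    Fintype.card α = Fintype.card (Perm α ⧸ H) := by
  rw [← Nat.card_eq_fintype_card (α := Perm α ⧸ H), ← hH]; rfl

/-- For `n ≥ 5`, `n ≠ 6`, the subgroups of `S_n` of index `n` are the point stabilizers. -/
theorem eq_stab (hα : 5 ≤ Fintype.card α) (hα6 : Fintype.card α ≠ 6) (H : Subgroup (Perm α))
    (hH : H.index = Fintype.card α) : ∃ a : α, H = MulAction.stabilizer (Perm α) a := by
  classical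
  letI : Fintype (Perm α ⧸ H) := Fintype.ofFinite _
  apply eq_stab_of_swap hα H hH
  intro t ht
  rcases swap_image (card_quot H hH) (cosetIso hα H hH) ht with h | ⟨h, -⟩
  · exact h
  · exact absurd ((card_quot H hH).trans h) hα6

/-- If `H` of index 6 in `S_6` is not a point stabilizer then its coset action maps all transpositions to
products of three transpositions. -/
theorem type_of_not_stab (hα : Fintype.card α = 6) (H : Subgroup (Perm α)) (hH : H.index = Fintype.card α)
    [Fintype (Perm α ⧸ H)] [DecidableEq (Perm α ⧸ H)]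
    (hns : ∀ a : α, H ≠ MulAction.stabilizer (Perm α) a) (t : Perm α) (ht : t.IsSwap) :
    (cosetIso (by omega) H hH t).cycleType = {2, 2, 2} := by
  have hα5 : 5 ≤ Fintype.card α := by omega
  have h1 : ∃ s : Perm α, s.IsSwap ∧ ¬ (cosetIso hα5 H hH s).IsSwap := by
    by_contra hcon
    push Not at hcon
    obtain ⟨a, ha⟩ := eq_stab_of_swap hα5 H hH hcon
    exact hns a ha
  obtain ⟨s, hs, hsn⟩ := h1
  rcases swap_image (card_quot H hH) (cosetIso hα5 H hH) ht with h | ⟨-, h⟩
  · exfalso
    apply hsn
    rw [isSwap_iff_cycleType] at h ⊢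
    rw [← h]
    have hc : IsConj s t := (isConj_iff_cycleType_eq).mpr (by
      rw [isSwap_iff_cycleType.mp hs, isSwap_iff_cycleType.mp ht])
    exact (isConj_iff_cycleType_eq).mp (MonoidHom.map_isConj (cosetIso hα5 H hH).toMonoidHom hc)
  · exact h

/-- Two subgroups of index 6 in `S_6` that are not point stabilizers are conjugate. -/
theorem conj_of_not_stab (hα : Fintype.card α = 6) (H K : Subgroup (Perm α)) (hH : H.index = Fintype.card α)
    (hK : K.index = Fintype.card α)
    (hHn : ∀ a : α, H ≠ MulAction.stabilizer (Perm α) a) (hKn : ∀ a : α, K ≠ MulAction.stabilizer (Perm α) a) :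
    ∃ k : Perm α, ∀ g, g ∈ H ↔ k * g * k⁻¹ ∈ K := by
  classical
  letI : Fintype (Perm α ⧸ H) := Fintype.ofFinite _
  letI : Fintype (Perm α ⧸ K) := Fintype.ofFinite _
  have hα5 : 5 ≤ Fintype.card α := by omega
  set φ := cosetIso hα5 H hH with hφ
  set ψ := cosetIso hα5 K hK with hψ
  -- the composite maps transpositions to transpositions
  have hsw : ∀ t : Perm (Perm α ⧸ K), t.IsSwap → ((ψ.symm.trans φ) t).IsSwap := by
    intro t ht
    set s := ψ.symm t with hs
    have hst : ψ s = t := by rw [hs]; simp
    rcases swap_image (card_quot K hK).symm ψ.symm ht with h | ⟨-, h⟩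
    · exfalso
      have h1 := type_of_not_stab hα K hK hKn (ψ.symm t) h
      rw [isSwap_iff_cycleType] at ht
      have h2 : cosetIso hα5 K hK (ψ.symm t) = t := hst
      rw [h2, ht] at h1
      simp at h1
    · -- s has type 2^3
      obtain ⟨hs1, hs2⟩ := swap_invol ht
      have hs3 : s ^ 2 = 1 := by rw [hs, ← map_pow, hs1, map_one]
      have hs4 : s ≠ 1 := by
        intro h5; apply hs2; rw [← hst, h5, map_one]
      have hcent : Nat.card (Subgroup.centralizer {φ s}) = (Fintype.card (Perm α ⧸ H) - 2).factorial * 2 := by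
        rw [centralizer_card_map, hs, centralizer_card_map, centralizer_invol hs1 hs2,
          (card_cycleType_eq_one.mpr ht.isCycle), ← card_quot K hK, ← card_quot H hH]
        simp
      rcases invol_type (by rw [← map_pow, hs3, map_one]) (fun h5 => hs4 (φ.injective (by rw [h5, map_one]))) hcent with h5 | ⟨-, h5⟩
      · exact h5
      · exfalso
        -- conjugate to the image of a transposition
        obtain ⟨x, y, hxy⟩ := Fintype.exists_pair_of_one_lt_card (α := α) (by omega)
        have h6 := type_of_not_stab hα H hH hHn (swap x y) ⟨x, y, hxy, rfl⟩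
        have h7 : IsConj (φ s) (φ (swap x y)) := isConj_iff_cycleType_eq.mpr (h5.trans h6.symm)
        have h8 : IsConj s (swap x y) := by
          have := MonoidHom.map_isConj φ.symm.toMonoidHom h7
          simpa using this
        have h9 := isConj_iff_cycleType_eq.mp h8
        have h10 : (swap x y).cycleType = {2} := isSwap_iff_cycleType.mp ⟨x, y, hxy, rfl⟩
        have h11 : s.cycleType = {2, 2, 2} := h
        rw [h10, h11] at h9
        have h12 := congrArg Multiset.card h9
        simp at h12
  obtain ⟨x, hx⟩ := stab_image (by rw [← card_quot K hK]; exact hα5) (ψ.symm.trans φ) hsw ((1 : Perm α) : Perm α ⧸ K)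
  apply conj_of_fix hα5 H hH K hK x
  intro g hg
  have h1 := hx (ψ g) (by
    show g • ((1 : Perm α) : Perm α ⧸ K) = _
    rw [MulAction.Quotient.smul_coe, smul_eq_mul, mul_one, QuotientGroup.eq]
    simpa using hg)
  have h2 : (ψ.symm.trans φ) (ψ g) = φ g := by simp
  rw [h2] at h1
  exact h1

end H98.PermIndex2
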