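import Mathlib
import Cfsg.Agent.Lib.H98.PermIndex2

set_option autoImplicit false

/-! The exotic subgroups of index 6 in `S_6`. -/

namespace H98.PermSix

open Equiv Equiv.Perm H98.PermIndex H98.PermIndex2

/-- `S_5` has exactly six Sylow 5-subgroups. -/
theorem card_sylow : Nat.card (Sylow 5 (Perm (Fin 5))) = 6 := by
  haveI : Fact (Nat.Prime 5) := ⟨by norm_num⟩
  have hG : Nat.card (Perm (Fin 5)) = 120 := by
    rw [Nat.card_perm, Nat.card_fin]; rfl
  obtain ⟨P⟩ : Nonempty (Sylow 5 (Perm (Fin 5))) := inferInstance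
  have hP : Nat.card P = 5 := by
    rw [P.card_eq_multiplicity, hG]
    have : (120 : ℕ).factorization 5 = 1 := by
      rw [show (120 : ℕ) = 5 ^ 1 * 24 by norm_num, Nat.factorization_mul (by norm_num) (by norm_num)]
      rw [Nat.Prime.factorization_pow (by norm_num)]
      simp [Nat.factorization_eq_zero_of_not_dvd (show ¬ 5 ∣ 24 by norm_num)]
    rw [this, pow_one]
  have hmod := card_sylow_modEq_one 5 (Perm (Fin 5))
  have hidx : (P : Subgroup (Perm (Fin 5))).index = 24 := by
    have := (P : Subgroup (Perm (Fin 5))).card_mul_index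
    rw [hG] at this
    have h5 : Nat.card (P : Subgroup (Perm (Fin 5))) = 5 := hP
    rw [h5] at this; omega
  have hdvd : Nat.card (Sylow 5 (Perm (Fin 5))) ∣ 24 := hidx ▸ P.card_dvd_index
  have hne : Nat.card (Sylow 5 (Perm (Fin 5))) ≠ 1 := by
    intro h
    haveI : Subsingleton (Sylow 5 (Perm (Fin 5))) := (Nat.card_eq_one_iff_unique.mp h).1
    haveI hn : (P : Subgroup (Perm (Fin 5))).Normal := P.normal_of_subsingleton
    have hnt : Nontrivial (P : Subgroup (Perm (Fin 5))) := by
      rw [← Finite.one_lt_card_iff_nontrivial]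
      have h5 : Nat.card (P : Subgroup (Perm (Fin 5))) = 5 := hP
      omega
    have hle := Equiv.Perm.alternatingGroup_le_of_normal (α := Fin 5) (by simp) hnt
    have h1 := Subgroup.index_dvd_of_le hle
    rw [hidx, alternatingGroup.index_eq_two] at h1
    omega
  have hle : Nat.card (Sylow 5 (Perm (Fin 5))) ≤ 24 := Nat.le_of_dvd (by norm_num) hdvd
  unfold Nat.ModEq at hmod
  generalize Nat.card (Sylow 5 (Perm (Fin 5))) = m at *
  interval_cases m <;> simp_all <;> omega

theorem sylow_hom_injective : Function.Injective (MulAction.toPermHom (Perm (Fin 5)) (Sylow 5 (Perm (Fin 5)))) := by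
  haveI : Fact (Nat.Prime 5) := ⟨by norm_num⟩
  rw [← MonoidHom.ker_eq_bot_iff]
  by_contra hne
  have hnt : Nontrivial (MulAction.toPermHom (Perm (Fin 5)) (Sylow 5 (Perm (Fin 5)))).ker :=
    (Subgroup.nontrivial_iff_ne_bot _).mpr hne
  have hle := Equiv.Perm.alternatingGroup_le_of_normal (α := Fin 5) (by simp) hnt
  -- then the alternating group acts trivially, and the orbit has size at most 2
  have h1 := card_sylow
  obtain ⟨P⟩ : Nonempty (Sylow 5 (Perm (Fin 5))) := inferInstance
  have h2 : (MulAction.stabilizer (Perm (Fin 5)) P).index = 6 := by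
    rw [MulAction.index_stabilizer_of_transitive, h1]
  have h3 : alternatingGroup (Fin 5) ≤ MulAction.stabilizer (Perm (Fin 5)) P := by
    intro g hg
    have := hle hg
    rw [MonoidHom.mem_ker] at this
    exact congrArg (fun e : Perm (Sylow 5 (Perm (Fin 5))) => e P) this
  have h4 := Subgroup.index_dvd_of_le h3
  rw [h2, alternatingGroup.index_eq_two] at h4
  omega

/-- A transitive subgroup of index 6 of `S_6`. -/
theorem exists_transitive {α : Type*} [Fintype α] [DecidableEq α] (hα : Fintype.card α = 6) :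
    ∃ H : Subgroup (Perm α), H.index = Fintype.card α ∧ ∀ a : α, H ≠ MulAction.stabilizer (Perm α) a := by
  classical
  haveI : Fact (Nat.Prime 5) := ⟨by norm_num⟩
  obtain ⟨e⟩ : Nonempty (Sylow 5 (Perm (Fin 5)) ≃ α) :=
    Finite.card_eq.mp (by rw [card_sylow, Nat.card_eq_fintype_card, hα])
  let φ : Perm (Fin 5) →* Perm α := (e.permCongrHom).toMonoidHom.comp (MulAction.toPermHom (Perm (Fin 5)) (Sylow 5 (Perm (Fin 5))))
  have hφ : Function.Injective φ := e.permCongrHom.injective.comp sylow_hom_injective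
  have hcard : Nat.card φ.range = 120 := by
    rw [Nat.card_congr (MonoidHom.ofInjective hφ).toEquiv.symm, Nat.card_perm, Nat.card_fin]; rfl
  have hidx : φ.range.index = 6 := by
    have := φ.range.card_mul_index
    have h720 : Nat.card (Perm α) = 720 := by
      rw [Nat.card_perm, Nat.card_eq_fintype_card, hα]; rfl
    rw [hcard, h720] at this
    omega
  refine ⟨φ.range, by rw [hidx, hα], fun a ha => ?_⟩
  -- transitive
  obtain ⟨b, hb⟩ := Fintype.exists_ne_of_one_lt_card (by omega : 1 < Fintype.card α) a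
  obtain ⟨g, hg⟩ := MulAction.exists_smul_eq (Perm (Fin 5)) (e.symm a) (e.symm b)
  have h1 : φ g a = b := by
    show e (g • (e.symm a)) = b
    rw [hg]; simp
  have h2 : φ g ∈ MulAction.stabilizer (Perm α) a := ha ▸ ⟨g, rfl⟩
  have h3 : φ g a = a := h2
  rw [h1] at h3
  exact hb h3

end H98.PermSix
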