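import Mathlib
import Cfsg.Agent.Lib.H51.FFNat

/-!
2-groups with two commuting automorphisms: field coordinates.
-/

set_option autoImplicit false
set_option linter.unusedSectionVars false

namespace H98.TwA

/-- the functional equation -/
theorem sqrt_lemma {F : Type*} [Field F] (h2 : (2 : F) = 0) {D : Type*} [AddCommGroup D] (σ : F →+* AddMonoid.End D)
    (g : F → F → D) (g1 : ∀ x x' y, g (x + x') y = g x y + g x' y) (g2 : ∀ x y y', g x (y + y') = g x y + g x y')
    (gs : ∀ l x y, g (l * x) (l * y) = σ l (g x y)) (x y : F) : g (x ^ 2) (y ^ 2) = σ (x * y) (g 1 1) := by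
  have two : ∀ d : D, d + d = 0 := by
    intro d
    have h : σ (1 + 1) d = d + d := by
      rw [map_add, map_one]; rfl
    have h3 : (1 + 1 : F) = 0 := by rw [one_add_one_eq_two]; exact h2
    rw [h3, map_zero] at h
    exact h.symm
  have g10 : ∀ y, g 0 y = 0 := by
    intro y
    have := g1 0 0 y
    rw [add_zero] at this
    exact left_eq_add.mp this
  have g20 : ∀ x, g x 0 = 0 := by
    intro x
    have := g2 x 0 0
    rw [add_zero] at this
    exact left_eq_add.mp this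
  have hcomp : ∀ a b d, σ a (σ b d) = σ (a * b) d := by
    intro a b d; rw [map_mul]; rfl
  have hG : ∀ t : F, t ≠ 0 → g t 1 = σ t (g 1 t⁻¹) := by
    intro t ht
    rw [← gs, mul_one, mul_inv_cancel₀ ht]
  have key : ∀ t : F, g (t ^ 2) 1 = σ t (g 1 1) := by
    intro t
    by_cases h0 : t = 0
    · rw [h0, zero_pow (by norm_num), g10, map_zero]; rfl
    by_cases h1 : t = 1
    · rw [h1, one_pow, map_one]; rfl
    have h1t : (1 - t) ≠ 0 := sub_ne_zero.mpr (Ne.symm h1)
    have e1 : t⁻¹ + (1 - t)⁻¹ = (t * (1 - t))⁻¹ := by field_simp; ring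
    have e2 : g 1 (t * (1 - t))⁻¹ = g 1 t⁻¹ + g 1 (1 - t)⁻¹ := by rw [← e1, g2]
    have e3 : g (t * (1 - t)) 1 = σ (1 - t) (g t 1) + σ t (g (1 - t) 1) := by
      rw [hG _ (mul_ne_zero h0 h1t), e2, map_add, hG t h0, hG (1 - t) h1t, hcomp, hcomp, mul_comm (1 - t) t]
    have e4 : g (1 - t) 1 = g 1 1 + g t 1 := by
      have : (1 : F) - t = 1 + t := by linear_combination (-t) * h2
      rw [this, g1]
    have e5 : g (t * (1 - t)) 1 = g t 1 + g (t ^ 2) 1 := by
      have : t * (1 - t) = t + t ^ 2 := by linear_combination (-t ^ 2) * h2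
      rw [this, g1]
    have e6 : σ (1 - t) (g t 1) = g t 1 + σ t (g t 1) := by
      have : (1 : F) - t = 1 + t := by linear_combination (-t) * h2
      rw [this, map_add, map_one]; rfl
    rw [e4, e5, e6, map_add] at e3
    have e7 : g (t ^ 2) 1 = σ t (g t 1) + (σ t (g 1 1) + σ t (g t 1)) := by
      have := congrArg (fun z => z + g t 1) e3
      have l : g t 1 + g (t ^ 2) 1 + g t 1 = g (t ^ 2) 1 := by
        rw [add_comm (g t 1), add_assoc, two, add_zero]
      rw [l] at this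
      rw [this]
      have := two (g t 1)
      calc g t 1 + (σ t) (g t 1) + ((σ t) (g 1 1) + (σ t) (g t 1)) + g t 1 = (σ t) (g t 1) + ((σ t) (g 1 1) + (σ t) (g t 1)) + (g t 1 + g t 1) := by abel
        _ = _ := by rw [this, add_zero]
    rw [e7]
    calc σ t (g t 1) + (σ t (g 1 1) + σ t (g t 1)) = σ t (g 1 1) + (σ t (g t 1) + σ t (g t 1)) := by abel
      _ = σ t (g 1 1) := by rw [two, add_zero]
  by_cases hy : y = 0
  · rw [hy, zero_pow (by norm_num), g20, mul_zero, map_zero]; rfl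
  · have e : g (x ^ 2) (y ^ 2) = σ (y ^ 2) (g ((x / y) ^ 2) 1) := by
      rw [← gs]; congr 1
      · field_simp
      · ring
    rw [e, key, hcomp]
    congr 2
    field_simp

/-- the field attached to a transitive cyclic group -/
theorem exists_field {A : Type*} [AddCommGroup A] [Finite A] {n : ℕ} (hn : 2 ≤ n) (hA : Nat.card A = 2 ^ n)
    (h2 : ∀ a : A, a + a = 0) (r : AddMonoid.End A) (hr : r ^ (2 ^ n - 1) = 1)
    (htr : ∀ a b : A, a ≠ 0 → b ≠ 0 → ∃ k : ℕ, (r ^ k) a = b) :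
    ∃ (F : Type) (_ : Field F) (_ : Fintype F) (ζ : F) (e : F → A), Nat.card F = 2 ^ n ∧ (2 : F) = 0 ∧
      (∀ s : F, s ≠ 0 → ∃ k : ℕ, ζ ^ k = s) ∧ (∀ s t, e (s + t) = e s + e t) ∧ Function.Bijective e ∧
      (∀ s, r (e s) = e (ζ * s)) := by
  classical
  have hA1 : 1 < Nat.card A := by rw [hA]; exact Nat.one_lt_two_pow (by omega)
  obtain ⟨a₀, ha₀⟩ : ∃ a : A, a ≠ 0 := by
    by_contra hcon
    push Not at hcon
    have : Subsingleton A := ⟨fun a b => by rw [hcon a, hcon b]⟩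
    have := Finite.card_le_one_iff_subsingleton.mpr this
    omega
  have hq1 : 1 ≤ 2 ^ n - 1 := by
    have : 4 ≤ 2 ^ n := by
      calc 4 = 2 ^ 2 := by norm_num
        _ ≤ 2 ^ n := Nat.pow_le_pow_right (by norm_num) hn
    omega
  have hinjr : ∀ k : ℕ, ∀ a : A, (r ^ k) a = 0 → a = 0 := by
    intro k a h
    have e : (r ^ (k * (2 ^ n - 1 - 1))) ((r ^ k) a) = a := by
      have : (r ^ (k * (2 ^ n - 1 - 1)) * r ^ k) a = a := by
        rw [← pow_add]
        have : k * (2 ^ n - 1 - 1) + k = (2 ^ n - 1) * k := by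
          obtain ⟨m, hm⟩ : ∃ m, 2 ^ n - 1 = m + 1 := ⟨2 ^ n - 1 - 1, by omega⟩
          rw [hm]; simp; ring
        rw [this, pow_mul, hr, one_pow]; rfl
      exact this
    rw [h, map_zero] at e
    exact e.symm
  have hcl : ∀ i j : ℕ, (r ^ i + r ^ j = 0) ∨ ∃ k, r ^ i + r ^ j = r ^ k := by
    intro i j
    have hgen : ∀ s : AddMonoid.End A, Commute s r → s a₀ = 0 → s = 0 := by
      intro s hs h0
      ext b
      by_cases hb : b = 0
      · rw [hb, map_zero]; rfl
      · obtain ⟨k, hk⟩ := htr a₀ b ha₀ hb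
        rw [← hk]
        have : (s * r ^ k) a₀ = (r ^ k * s) a₀ := by rw [(hs.pow_right k).eq]
        show (s * r ^ k) a₀ = 0
        rw [this]
        show (r ^ k) (s a₀) = 0
        rw [h0, map_zero]
    have hcomm : ∀ k : ℕ, Commute (r ^ k) r := fun k => (Commute.refl r).pow_left k
    by_cases h : (r ^ i + r ^ j) a₀ = 0
    · left
      exact hgen _ ((hcomm i).add_left (hcomm j)) h
    · right
      obtain ⟨k, hk⟩ := htr a₀ _ ha₀ h
      refine ⟨k, ?_⟩
      have := hgen (r ^ i + r ^ j - r ^ k) (((hcomm i).add_left (hcomm j)).sub_left (hcomm k)) (by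
        show (r ^ i + r ^ j) a₀ - (r ^ k) a₀ = 0
        rw [hk, sub_self])
      exact sub_eq_zero.mp this
  have h2E : ∀ s : AddMonoid.End A, s + s = 0 := by
    intro s; ext a; exact h2 (s a)
  let S : AddSubgroup (AddMonoid.End A) :=
    { carrier := {s | s = 0 ∨ ∃ k : ℕ, s = r ^ k}
      zero_mem' := Or.inl rfl
      add_mem' := by
        rintro s t (rfl | ⟨i, rfl⟩) (rfl | ⟨j, rfl⟩)
        · left; exact add_zero _
        · right; exact ⟨j, zero_add _⟩
        · right; exact ⟨i, add_zero _⟩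
        · rcases hcl i j with h | ⟨k, h⟩
          · exact Or.inl h
          · exact Or.inr ⟨k, h⟩
      neg_mem' := by
        rintro s hs
        have : -s = s := neg_eq_of_add_eq_zero_left (h2E s)
        rw [this]; exact hs }
  have hev : Function.Bijective (fun s : S => (s : AddMonoid.End A) a₀) := by
    constructor
    · intro s t hst
      have h3 : (s : AddMonoid.End A) - t ∈ S := S.sub_mem s.2 t.2
      have h4 : ((s : AddMonoid.End A) - t) a₀ = 0 := by
        show (s : AddMonoid.End A) a₀ - (t : AddMonoid.End A) a₀ = 0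
        rw [sub_eq_zero]; exact hst
      rcases h3 with h3 | ⟨k, h3⟩
      · exact Subtype.ext (sub_eq_zero.mp h3)
      · rw [h3] at h4
        exact absurd (hinjr k a₀ h4) ha₀
    · intro a
      by_cases h : a = 0
      · exact ⟨0, by rw [h]; rfl⟩
      · obtain ⟨k, hk⟩ := htr a₀ a ha₀ h
        exact ⟨⟨r ^ k, Or.inr ⟨k, rfl⟩⟩, hk⟩
  have hp : Fact (Nat.Prime 2) := ⟨Nat.prime_two⟩
  obtain ⟨F, i1, i2, σ, hσi, hσ⟩ := H51.FFNat.exists_field (p := 2) (fun z => by rw [two_nsmul]; exact h2 z) S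
    (Nat.card_congr (Equiv.ofBijective _ hev)) (Or.inr ⟨0, (pow_zero r).symm⟩) (by
      rintro s (rfl | ⟨k, rfl⟩) hs
      · exact absurd rfl hs
      · refine ⟨r ^ (k * (2 ^ n - 1 - 1)), Or.inr ⟨_, rfl⟩, ?_, ?_⟩
        · rw [← pow_add]
          have : k * (2 ^ n - 1 - 1) + k = (2 ^ n - 1) * k := by
            obtain ⟨m, hm⟩ : ∃ m, 2 ^ n - 1 = m + 1 := ⟨2 ^ n - 1 - 1, by omega⟩
            rw [hm]; simp; ring
          rw [this, pow_mul, hr, one_pow]
        · rw [← pow_add]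
          have : k + k * (2 ^ n - 1 - 1) = (2 ^ n - 1) * k := by
            obtain ⟨m, hm⟩ : ∃ m, 2 ^ n - 1 = m + 1 := ⟨2 ^ n - 1 - 1, by omega⟩
            rw [hm]; simp; ring
          rw [this, pow_mul, hr, one_pow]) ha₀
  obtain ⟨ζ, hζ⟩ := (hσ r).mp (Or.inr ⟨1, (pow_one r).symm⟩)
  have hbij : Function.Bijective (fun s : F => σ s a₀) := by
    constructor
    · intro s t hst
      have h3 : (⟨σ s, (hσ _).mpr ⟨s, rfl⟩⟩ : S) = ⟨σ t, (hσ _).mpr ⟨t, rfl⟩⟩ := hev.1 hst
      exact hσi (congrArg Subtype.val h3)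
    · intro a
      obtain ⟨s, hs⟩ := hev.2 a
      obtain ⟨t, ht⟩ := (hσ s).mp s.2
      exact ⟨t, by show σ t a₀ = a; rw [ht]; exact hs⟩
  refine ⟨F, i1, i2, ζ, fun s => σ s a₀, ?_, ?_, ?_, ?_, hbij, ?_⟩
  · rw [← hA]; exact Nat.card_congr (Equiv.ofBijective _ hbij)
  · apply hσi
    rw [map_zero]
    have : (2 : F) = 1 + 1 := one_add_one_eq_two.symm
    rw [this, map_add, map_one]
    exact h2E 1
  · intro s hs
    rcases (hσ (σ s)).mpr ⟨s, rfl⟩ with h | ⟨k, h⟩
    · exact absurd (hσi (h.trans (map_zero σ).symm)) hs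
    · refine ⟨k, ?_⟩
      apply hσi
      rw [map_pow, hζ, h]
  · intro s t
    show σ (s + t) a₀ = _
    rw [map_add]; rfl
  · intro s
    show r (σ s a₀) = σ (ζ * s) a₀
    rw [map_mul, hζ]; rfl

end H98.TwA
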