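import Mathlib
import Cfsg.Agent.Lib.H98.TwA

/-!
2-groups with two commuting automorphisms: basic properties.
-/

set_option autoImplicit false
set_option linter.unusedSectionVars false

namespace H98.TwB

open Subgroup
open scoped commutatorElement

variable {F : Type} [Field F] [Fintype F] {ζ : F}

/-- generator of the multiplicative group -/
structure Gn (ζ : F) : Prop where
  two : (2 : F) = 0
  gen : ∀ s : F, s ≠ 0 → ∃ k : ℕ, ζ ^ k = s
  big : 4 ≤ Fintype.card F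
  pw : ∃ n : ℕ, Fintype.card F = 2 ^ n

theorem Gn.ne (h : Gn ζ) : ζ ≠ 0 := by
  rintro rfl
  classical
  have h1 : (Finset.univ : Finset F) ⊆ {0, 1} := by
    intro s _
    rw [Finset.mem_insert, Finset.mem_singleton]
    by_cases hs : s = 0
    · exact Or.inl hs
    · right
      obtain ⟨k, hk⟩ := h.gen s hs
      by_cases hk0 : k = 0
      · rw [hk0, pow_zero] at hk; exact hk.symm
      · rw [zero_pow hk0] at hk; exact absurd hk.symm hs
  have h2 := Finset.card_le_card h1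
  rw [Finset.card_univ] at h2
  have h3 : ({0, 1} : Finset F).card ≤ 2 := Finset.card_le_two
  have := h.big
  omega

theorem Gn.order (h : Gn ζ) : orderOf ζ = Fintype.card F - 1 := by
  classical
  have h1 : ∀ x : Fˣ, x ∈ zpowers (Units.mk0 ζ h.ne) := by
    intro x
    obtain ⟨k, hk⟩ := h.gen x x.ne_zero
    refine ⟨k, ?_⟩
    apply Units.ext
    show ((Units.mk0 ζ h.ne ^ (k : ℤ) : Fˣ) : F) = x
    rw [zpow_natCast, Units.val_pow_eq_pow_val, Units.val_mk0]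
    exact hk
  have h2 := orderOf_eq_card_of_forall_mem_zpowers h1
  rw [← orderOf_units, Units.val_mk0, Nat.card_eq_fintype_card, Fintype.card_units] at h2
  exact h2

variable {Q : Type*} [Group Q]

theorem Gn.pow_eq (h : Gn ζ) {k l : ℕ} (e : ζ ^ k = ζ ^ l) (ρ : MulAut Q) (hρ : ρ ^ (Fintype.card F - 1) = 1) : ρ ^ k = ρ ^ l := by
  have e' : (Units.mk0 ζ h.ne) ^ k = (Units.mk0 ζ h.ne) ^ l := by
    apply Units.ext
    rw [Units.val_pow_eq_pow_val, Units.val_pow_eq_pow_val, Units.val_mk0]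
    exact e
  rw [pow_eq_pow_iff_modEq, ← orderOf_units, Units.val_mk0, h.order] at e'
  rw [pow_eq_pow_iff_modEq]
  exact e'.of_dvd (orderOf_dvd_of_pow_eq_one hρ)

open Classical in
/-- scalar action (modulo suitable subgroups) -/
noncomputable def sc (ζ : F) (ρ : MulAut Q) (l : F) (x : Q) : Q := if h : ∃ k : ℕ, ζ ^ k = l then (ρ ^ h.choose) x else 1

section sc
variable (h : Gn ζ) {ρ : MulAut Q} (hρ : ρ ^ (Fintype.card F - 1) = 1)
include h

theorem sc_zero (ρ : MulAut Q) (x : Q) : sc ζ ρ 0 x = 1 := by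
  unfold sc
  rw [dif_neg]
  rintro ⟨k, hk⟩
  exact pow_ne_zero k h.ne hk

include hρ

theorem sc_pow (k : ℕ) (x : Q) : sc ζ ρ (ζ ^ k) x = (ρ ^ k) x := by
  unfold sc
  rw [dif_pos ⟨k, rfl⟩]
  rw [h.pow_eq (Exists.choose_spec (⟨k, rfl⟩ : ∃ l : ℕ, ζ ^ l = ζ ^ k)) ρ hρ]

theorem sc_one (x : Q) : sc ζ ρ 1 x = x := by
  have := sc_pow h hρ 0 x
  rw [pow_zero, pow_zero] at this
  exact this

theorem sc_map_one (l : F) : sc ζ ρ l (1 : Q) = 1 := by
  by_cases hl : l = 0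
  · rw [hl, sc_zero h]
  · obtain ⟨k, rfl⟩ := h.gen l hl
    rw [sc_pow h hρ, map_one]

theorem sc_sc (l m : F) (x : Q) : sc ζ ρ l (sc ζ ρ m x) = sc ζ ρ (l * m) x := by
  by_cases hm : m = 0
  · rw [hm, mul_zero, sc_zero h, sc_map_one h hρ]
  by_cases hl : l = 0
  · rw [hl, zero_mul, sc_zero h, sc_zero h]
  obtain ⟨k, rfl⟩ := h.gen l hl
  obtain ⟨j, rfl⟩ := h.gen m hm
  rw [← pow_add, sc_pow h hρ, sc_pow h hρ, sc_pow h hρ, pow_add]
  rfl

theorem sc_mul (l : F) (x y : Q) : sc ζ ρ l (x * y) = sc ζ ρ l x * sc ζ ρ l y := by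
  by_cases hl : l = 0
  · rw [hl, sc_zero h, sc_zero h, sc_zero h, mul_one]
  obtain ⟨k, rfl⟩ := h.gen l hl
  rw [sc_pow h hρ, sc_pow h hρ, sc_pow h hρ, map_mul]

theorem sc_inv (l : F) (x : Q) : sc ζ ρ l x⁻¹ = (sc ζ ρ l x)⁻¹ := by
  rw [eq_inv_iff_mul_eq_one, ← sc_mul h hρ, inv_mul_cancel, sc_map_one h hρ]

theorem pow_mem_of {U : Subgroup Q} (hU : ∀ x ∈ U, ρ x ∈ U) (k : ℕ) {x : Q} (hx : x ∈ U) : (ρ ^ k) x ∈ U := by
  induction k with
  | zero => exact hx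
  | succ k ih =>
    rw [pow_succ']
    exact hU _ ih

theorem sc_mem {U : Subgroup Q} (hU : ∀ x ∈ U, ρ x ∈ U) (l : F) {x : Q} (hx : x ∈ U) : sc ζ ρ l x ∈ U := by
  by_cases hl : l = 0
  · rw [hl, sc_zero h]; exact U.one_mem
  obtain ⟨k, rfl⟩ := h.gen l hl
  rw [sc_pow h hρ]
  exact pow_mem_of h hρ hU k hx

theorem sc_comm (l : F) (x y : Q) : sc ζ ρ l ⁅x, y⁆ = ⁅sc ζ ρ l x, sc ζ ρ l y⁆ := by
  rw [commutatorElement_def, commutatorElement_def, sc_mul h hρ, sc_mul h hρ, sc_mul h hρ, sc_inv h hρ, sc_inv h hρ]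

theorem sc_alpha {α : MulAut Q} (hc : ∀ x, α (ρ x) = ρ (α x)) (l : F) (x : Q) : α (sc ζ ρ l x) = sc ζ ρ l (α x) := by
  by_cases hl : l = 0
  · rw [hl, sc_zero h, sc_zero h, map_one]
  obtain ⟨k, rfl⟩ := h.gen l hl
  rw [sc_pow h hρ, sc_pow h hρ]
  clear hl
  induction k generalizing x with
  | zero => rfl
  | succ k ih =>
    rw [pow_succ]
    show α ((ρ ^ k) (ρ x)) = (ρ ^ k) (ρ (α x))
    rw [ih, hc]

theorem sc_E {E : F → Q} (hE : ∀ s, ρ (E s) = E (ζ * s)) (hE0 : E 0 = 1) (l s : F) : sc ζ ρ l (E s) = E (l * s) := by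
  by_cases hl : l = 0
  · rw [hl, sc_zero h, zero_mul, hE0]
  obtain ⟨k, rfl⟩ := h.gen l hl
  rw [sc_pow h hρ]
  clear hl
  induction k generalizing s with
  | zero => simp only [pow_zero, one_mul]; rfl
  | succ k ih =>
    rw [pow_succ]
    show (ρ ^ k) (ρ (E s)) = _
    rw [hE, ih]
    congr 1
    ring

theorem sc_map {Q' : Type*} [Group Q'] {ρ' : MulAut Q'} (hρ' : ρ' ^ (Fintype.card F - 1) = 1) (f : Q →* Q')
    (hf : ∀ x, f (ρ x) = ρ' (f x)) (l : F) (x : Q) : f (sc ζ ρ l x) = sc ζ ρ' l (f x) := by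
  by_cases hl : l = 0
  · rw [hl, sc_zero h, sc_zero h, map_one]
  obtain ⟨k, rfl⟩ := h.gen l hl
  rw [sc_pow h hρ, sc_pow h hρ']
  clear hl
  induction k generalizing x with
  | zero => rfl
  | succ k ih =>
    rw [pow_succ, pow_succ]
    show f ((ρ ^ k) (ρ x)) = (ρ' ^ k) (ρ' (f x))
    rw [ih, hf]

end sc

/-- the hypotheses -/
structure Hyp (ζ : F) (Q : Type*) [Group Q] (α ρ : MulAut Q) (E : F → Q) : Prop where
  a2 : ∀ x, α (α x) = x
  comm : ∀ x, α (ρ x) = ρ (α x)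
  rord : ρ ^ (Fintype.card F - 1) = 1
  Eadd : ∀ s t, E (s + t) = E s * E t
  Einj : ∀ s t, E s = E t → s = t
  Efix : ∀ x, α x = x ↔ ∃ s, E s = x
  Erho : ∀ s, ρ (E s) = E (ζ * s)

theorem exists_fix [Finite Q] (hQ : IsPGroup 2 Q) [Nontrivial Q] {α : MulAut Q} (h2 : ∀ x, α (α x) = x) :
    ∃ x, x ≠ 1 ∧ α x = x := by
  classical
  letI : Fintype Q := Fintype.ofFinite Q
  haveI : Fact (Nat.Prime 2) := ⟨Nat.prime_two⟩
  have hd : 2 ∣ Fintype.card Q := by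
    rw [← Nat.card_eq_fintype_card]
    obtain ⟨n, hn⟩ := IsPGroup.iff_card.mp hQ
    have h1 : 1 < Nat.card Q := Finite.one_lt_card
    rw [hn] at h1 ⊢
    apply dvd_pow_self
    rintro rfl
    simp at h1
  obtain ⟨b, hb, hb1⟩ := Equiv.Perm.exists_fixed_point_of_prime' (p := 2) (n := 1) hd (σ := α.toEquiv) (by
    rw [pow_one]
    ext x
    exact h2 x) (a := (1 : Q)) (map_one α)
  exact ⟨b, hb1, hb⟩

theorem fix_of_inv [Finite Q] (hQ : IsPGroup 2 Q) {α : MulAut Q} (h2 : ∀ x, α (α x) = x) (U : Subgroup Q)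
    (hU : ∀ x ∈ U, α x ∈ U) (hne : U ≠ ⊥) : ∃ x ∈ U, x ≠ 1 ∧ α x = x := by
  have hnt : Nontrivial U := (Subgroup.nontrivial_iff_ne_bot U).mpr hne
  let β : MulAut U :=
    { toFun := fun x => ⟨α x, hU x x.2⟩
      invFun := fun x => ⟨α x, hU x x.2⟩
      left_inv := fun x => Subtype.ext (h2 x)
      right_inv := fun x => Subtype.ext (h2 x)
      map_mul' := fun x y => Subtype.ext (map_mul α _ _) }
  obtain ⟨x, hx1, hx⟩ := exists_fix (hQ.to_subgroup U) (α := β) (fun x => Subtype.ext (h2 x))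
  exact ⟨x, x.2, fun h => hx1 (Subtype.ext h), congrArg Subtype.val hx⟩

namespace Hyp

variable {α ρ : MulAut Q} {E : F → Q}

theorem E0 (H : Hyp ζ Q α ρ E) : E 0 = 1 := by
  have := H.Eadd 0 0
  rw [add_zero] at this
  exact left_eq_mul.mp this

theorem E1 (H : Hyp ζ Q α ρ E) {s : F} (h : E s = 1) : s = 0 := H.Einj _ _ (h.trans H.E0.symm)

theorem Ecomm (H : Hyp ζ Q α ρ E) (s t : F) : E s * E t = E t * E s := by
  rw [← H.Eadd, add_comm, H.Eadd]

theorem Esq (hG : Gn ζ) (H : Hyp ζ Q α ρ E) (s : F) : E s * E s = 1 := by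
  rw [← H.Eadd, ← H.E0]
  congr 1
  linear_combination s * hG.two

theorem Eα (H : Hyp ζ Q α ρ E) (s : F) : α (E s) = E s := (H.Efix _).mpr ⟨s, rfl⟩

theorem Esc (hG : Gn ζ) (H : Hyp ζ Q α ρ E) (l s : F) : sc ζ ρ l (E s) = E (l * s) := sc_E hG H.rord H.Erho H.E0 l s

/-- the fixed subgroup -/
def A (_ : Hyp ζ Q α ρ E) : Subgroup Q where
  carrier := {x | α x = x}
  one_mem' := map_one α
  mul_mem' := by
    intro a b ha hb
    show α (a * b) = a * b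
    rw [map_mul, ha, hb]
  inv_mem' := by
    intro a ha
    show α a⁻¹ = a⁻¹
    rw [map_inv, ha]

theorem mem_A (H : Hyp ζ Q α ρ E) {x : Q} : x ∈ H.A ↔ α x = x := Iff.rfl

theorem mem_A' (H : Hyp ζ Q α ρ E) {x : Q} : x ∈ H.A ↔ ∃ s, E s = x := H.Efix x

theorem A_le (H : Hyp ζ Q α ρ E) (hG : Gn ζ) [Finite Q] (hQ : IsPGroup 2 Q) (U : Subgroup Q)
    (hU : ∀ x ∈ U, α x ∈ U) (hU' : ∀ x ∈ U, ρ x ∈ U) (hne : U ≠ ⊥) : H.A ≤ U := by
  obtain ⟨x, hx, hx1, hxf⟩ := fix_of_inv hQ H.a2 U hU hne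
  obtain ⟨s, hs⟩ := (H.Efix x).mp hxf
  have hs0 : s ≠ 0 := by
    rintro rfl
    exact hx1 (hs.symm.trans H.E0)
  intro y hy
  obtain ⟨t, rfl⟩ := H.mem_A'.mp hy
  have : E t = sc ζ ρ (t * s⁻¹) x := by
    rw [← hs, H.Esc hG, mul_assoc, inv_mul_cancel₀ hs0, mul_one]
  rw [this]
  exact sc_mem hG H.rord hU' _ hx

theorem nontriv (H : Hyp ζ Q α ρ E) : Nontrivial Q := ⟨⟨E 1, 1, fun h => one_ne_zero (H.E1 h)⟩⟩

theorem A_central (H : Hyp ζ Q α ρ E) (hG : Gn ζ) [Finite Q] (hQ : IsPGroup 2 Q) : H.A ≤ center Q := by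
  haveI := H.nontriv
  haveI : Fact (Nat.Prime 2) := ⟨Nat.prime_two⟩
  apply H.A_le hG hQ
  · intro x hx
    exact (Subgroup.characteristic_iff_map_eq.mp (inferInstance : (center Q).Characteristic) α) ▸ ⟨x, hx, rfl⟩
  · intro x hx
    exact (Subgroup.characteristic_iff_map_eq.mp (inferInstance : (center Q).Characteristic) ρ) ▸ ⟨x, hx, rfl⟩
  · exact (Subgroup.nontrivial_iff_ne_bot _).mp hQ.center_nontrivial

theorem Ec (H : Hyp ζ Q α ρ E) (hG : Gn ζ) [Finite Q] (hQ : IsPGroup 2 Q) (s : F) (x : Q) : x * E s = E s * x :=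
  Subgroup.mem_center_iff.mp (H.A_central hG hQ (H.mem_A'.mpr ⟨s, rfl⟩)) x

end Hyp

/-- the commutator with `α` -/
def del (α : MulAut Q) (x : Q) : Q := x⁻¹ * α x

theorem del_eq_one {α : MulAut Q} {x : Q} : del α x = 1 ↔ α x = x := by
  unfold del
  rw [inv_mul_eq_one]
  exact eq_comm

theorem del_alpha {α : MulAut Q} (h2 : ∀ x, α (α x) = x) (x : Q) : α (del α x) = (del α x)⁻¹ := by
  unfold del
  rw [map_mul, map_inv, h2]
  group

theorem del_mul {α : MulAut Q} {x y : Q} (h : ∀ z, z * del α x = del α x * z) : del α (x * y) = del α x * del α y := by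
  have := h y⁻¹
  unfold del at *
  rw [map_mul]
  calc (x * y)⁻¹ * (α x * α y) = (y⁻¹ * (x⁻¹ * α x)) * α y := by group
    _ = x⁻¹ * α x * y⁻¹ * α y := by rw [this]
    _ = _ := by group

theorem del_inj {α : MulAut Q} {x y : Q} (h : del α x = del α y) : α (x * y⁻¹) = x * y⁻¹ := by
  unfold del at h
  have h1 : α x = x * (y⁻¹ * α y) := by rw [← h]; group
  rw [map_mul, map_inv, h1]
  group

theorem del_rho {α ρ : MulAut Q} (hc : ∀ x, α (ρ x) = ρ (α x)) (x : Q) : del α (ρ x) = ρ (del α x) := by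
  unfold del
  rw [map_mul, map_inv, hc]

theorem del_sc (h : Gn ζ) {α ρ : MulAut Q} (hρ : ρ ^ (Fintype.card F - 1) = 1) (hc : ∀ x, α (ρ x) = ρ (α x)) (l : F) (x : Q) :
    del α (sc ζ ρ l x) = sc ζ ρ l (del α x) := by
  unfold del
  rw [sc_mul h hρ, sc_inv h hρ, sc_alpha h hρ hc]

/-- automorphism of a quotient -/
def qa (N : Subgroup Q) [N.Normal] [Finite Q] (α : MulAut Q) (h : ∀ x ∈ N, α x ∈ N) : MulAut (Q ⧸ N) :=
  QuotientGroup.congr N N α (by
    apply Subgroup.eq_of_le_of_card_ge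
    · rintro _ ⟨x, hx, rfl⟩
      exact h x hx
    · exact le_of_eq (Nat.card_congr (N.equivMapOfInjective (α : Q →* Q) α.injective).toEquiv))

theorem qa_mk (N : Subgroup Q) [N.Normal] [Finite Q] (α : MulAut Q) (h : ∀ x ∈ N, α x ∈ N) (x : Q) :
    qa N α h (QuotientGroup.mk x) = QuotientGroup.mk (α x) := rfl

theorem qa_pow (N : Subgroup Q) [N.Normal] [Finite Q] (α : MulAut Q) (h : ∀ x ∈ N, α x ∈ N) (k : ℕ) (x : Q) :
    (qa N α h ^ k) (QuotientGroup.mk x) = QuotientGroup.mk ((α ^ k) x) := by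
  induction k generalizing x with
  | zero => rfl
  | succ k ih =>
    rw [pow_succ, pow_succ]
    show (qa N α h ^ k) (qa N α h (QuotientGroup.mk x)) = QuotientGroup.mk ((α ^ k) (α x))
    rw [qa_mk, ih]

end H98.TwB
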