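import Mathlib
import Cfsg.Agent.Lib.H98.TwB

/-!
2-groups with two commuting automorphisms: quotients.
-/

set_option autoImplicit false
set_option linter.unusedSectionVars false

namespace H98.TwC

open Subgroup H98.TwB
open scoped commutatorElement

variable {F : Type} [Field F] [Fintype F] {ζ : F}

theorem A_normal {Q : Type*} [Group Q] [Finite Q] {α ρ : MulAut Q} {E : F → Q} (H : Hyp ζ Q α ρ E) (hG : Gn ζ) (hQ : IsPGroup 2 Q) :
    H.A.Normal := by
  refine ⟨fun a ha g => ?_⟩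
  have := Subgroup.mem_center_iff.mp (H.A_central hG hQ ha) g
  rw [this, mul_inv_cancel_right]
  exact ha

theorem A_α {Q : Type*} [Group Q] {α ρ : MulAut Q} {E : F → Q} (H : Hyp ζ Q α ρ E) : ∀ x ∈ H.A, α x ∈ H.A := by
  intro x hx
  rw [H.mem_A] at hx ⊢
  rw [hx, hx]

theorem A_ρ {Q : Type*} [Group Q] {α ρ : MulAut Q} {E : F → Q} (H : Hyp ζ Q α ρ E) : ∀ x ∈ H.A, ρ x ∈ H.A := by
  intro x hx
  rw [H.mem_A] at hx ⊢
  rw [H.comm, hx]

theorem del_mul_A {Q : Type*} [Group Q] [Finite Q] {α ρ : MulAut Q} {E : F → Q} (H : Hyp ζ Q α ρ E) (hG : Gn ζ) (hQ : IsPGroup 2 Q)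
    {x a : Q} (ha : a ∈ H.A) : del α (x * a) = del α x := by
  have h1 := Subgroup.mem_center_iff.mp (H.A_central hG hQ ha)
  have h2 := H.mem_A.mp ha
  unfold del
  rw [map_mul, h2]
  have h3 : α x * a = a * α x := h1 _
  rw [h3]
  have h4 : x * a = a * x := h1 _
  rw [h4]
  group

theorem mk_eq_iff {Q : Type*} [Group Q] [Finite Q] {α ρ : MulAut Q} {E : F → Q} (H : Hyp ζ Q α ρ E) (hG : Gn ζ) (hQ : IsPGroup 2 Q)
    {x y : Q} : (QuotientGroup.mk x : Q ⧸ H.A) = QuotientGroup.mk y ↔ del α x = del α y := by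
  rw [QuotientGroup.eq]
  constructor
  · intro h
    have : y = x * (x⁻¹ * y) := by group
    rw [this, del_mul_A H hG hQ h]
  · intro h
    have h1 : x * y⁻¹ ∈ H.A := del_inj h
    have h2 := Subgroup.mem_center_iff.mp (H.A_central hG hQ h1) y
    have h4 : y * x = x * y := by
      calc y * x = (y * (x * y⁻¹)) * y := by group
        _ = (x * y⁻¹ * y) * y := by rw [h2]
        _ = x * y := by group
    have h3 : x⁻¹ * y = (x * y⁻¹)⁻¹ := by
      calc x⁻¹ * y = x⁻¹ * (y * x) * x⁻¹ := by group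
        _ = x⁻¹ * (x * y) * x⁻¹ := by rw [h4]
        _ = (x * y⁻¹)⁻¹ := by group
    rw [h3]
    exact H.A.inv_mem h1

theorem quot {Q : Type*} [Group Q] [Finite Q] {α ρ : MulAut Q} {E : F → Q} (H : Hyp ζ Q α ρ E) (hG : Gn ζ) (hQ : IsPGroup 2 Q)
    [H.A.Normal] (hne : H.A ≠ ⊤) :
    ∃ E' : F → Q ⧸ H.A, Hyp ζ (Q ⧸ H.A) (qa H.A α (A_α H)) (qa H.A ρ (A_ρ H)) E' ∧
      ∀ x s, E' s = QuotientGroup.mk x ↔ del α x = E s := by
  have hnt : Nontrivial (Q ⧸ H.A) := by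
    rw [← not_subsingleton_iff_nontrivial]
    intro h
    exact hne (QuotientGroup.subgroup_eq_top_of_subsingleton _ h)
  have ha2 : ∀ z : Q ⧸ H.A, qa H.A α (A_α H) (qa H.A α (A_α H) z) = z := by
    intro z
    obtain ⟨x, rfl⟩ := QuotientGroup.mk_surjective z
    rw [qa_mk, qa_mk, H.a2]
  obtain ⟨z, hz1, hz⟩ := exists_fix (hQ.to_quotient H.A) ha2
  obtain ⟨x₀, rfl⟩ := QuotientGroup.mk_surjective z
  rw [qa_mk, QuotientGroup.eq] at hz
  have hx0 : x₀ ∉ H.A := fun h => hz1 ((QuotientGroup.eq_one_iff _).mpr h)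
  have hd0 : del α x₀ ∈ H.A := by
    have : (α x₀)⁻¹ * x₀ = (del α x₀)⁻¹ := by unfold del; group
    rw [this] at hz
    exact (Subgroup.inv_mem_iff _).mp hz
  obtain ⟨s₀, hs0⟩ := H.mem_A'.mp hd0
  have hs00 : s₀ ≠ 0 := by
    rintro rfl
    rw [H.E0] at hs0
    exact hx0 (del_eq_one.mp hs0.symm)
  have hex : ∀ s : F, ∃ x, del α x = E s := by
    intro s
    refine ⟨sc ζ ρ (s * s₀⁻¹) x₀, ?_⟩
    rw [del_sc hG H.rord H.comm, ← hs0, H.Esc hG, mul_assoc, inv_mul_cancel₀ hs00, mul_one]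
  choose ξ hξ using hex
  have hrel : ∀ x s, (QuotientGroup.mk (ξ s) : Q ⧸ H.A) = QuotientGroup.mk x ↔ del α x = E s := by
    intro x s
    rw [mk_eq_iff H hG hQ, hξ]
    exact eq_comm
  refine ⟨fun s => QuotientGroup.mk (ξ s), ⟨ha2, ?_, ?_, ?_, ?_, ?_, ?_⟩, hrel⟩
  · intro z
    obtain ⟨x, rfl⟩ := QuotientGroup.mk_surjective z
    rw [qa_mk, qa_mk, qa_mk, qa_mk, H.comm]
  · ext z
    obtain ⟨x, rfl⟩ := QuotientGroup.mk_surjective z
    rw [qa_pow, H.rord]
    rfl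
  · intro s t
    rw [← QuotientGroup.mk_mul, hrel, del_mul (fun z => ?_), hξ, hξ, H.Eadd]
    rw [hξ]
    exact H.Ec hG hQ _ _
  · intro s t hst
    rw [hrel, hξ] at hst
    exact (H.Einj _ _ hst).symm
  · intro z
    obtain ⟨x, rfl⟩ := QuotientGroup.mk_surjective z
    rw [qa_mk, QuotientGroup.eq]
    have : (α x)⁻¹ * x = (del α x)⁻¹ := by unfold del; group
    rw [this, Subgroup.inv_mem_iff, H.mem_A']
    constructor
    · rintro ⟨s, hs⟩
      exact ⟨s, (hrel x s).mpr hs.symm⟩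
    · rintro ⟨s, hs⟩
      exact ⟨s, ((hrel x s).mp hs).symm⟩
  · intro s
    rw [qa_mk, eq_comm, hrel, del_rho H.comm, hξ, H.Erho]

/-- the additivity defect -/
noncomputable def tau {Q : Type*} [Group Q] (ζ : F) (ρ : MulAut Q) (l m : F) (x : Q) : Q := sc ζ ρ (l + m) x * sc ζ ρ l x * sc ζ ρ m x

theorem iter_map {Q Q' : Type*} {f : Q → Q} {f' : Q' → Q'} (φ : Q → Q') (h : ∀ x, φ (f x) = f' (φ x)) (k : ℕ) (x : Q) :
    φ (f^[k] x) = f'^[k] (φ x) := by
  induction k generalizing x with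
  | zero => rfl
  | succ k ih => rw [Function.iterate_succ_apply, Function.iterate_succ_apply, ih, h]

theorem tau_map {Q Q' : Type*} [Group Q] [Group Q'] (hG : Gn ζ) {ρ : MulAut Q} {ρ' : MulAut Q'} (hρ : ρ ^ (Fintype.card F - 1) = 1)
    (hρ' : ρ' ^ (Fintype.card F - 1) = 1) (f : Q →* Q') (hf : ∀ x, f (ρ x) = ρ' (f x)) (l m : F) (x : Q) :
    f (tau ζ ρ l m x) = tau ζ ρ' l m (f x) := by
  unfold tau
  rw [map_mul, map_mul, sc_map hG hρ hρ' f hf, sc_map hG hρ hρ' f hf, sc_map hG hρ hρ' f hf]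

theorem tau_E {Q : Type*} [Group Q] {α ρ : MulAut Q} {E : F → Q} (H : Hyp ζ Q α ρ E) (hG : Gn ζ) (l m s : F) :
    tau ζ ρ l m (E s) = 1 := by
  unfold tau
  rw [H.Esc hG, H.Esc hG, H.Esc hG, ← H.Eadd, ← H.Eadd, ← H.E0]
  congr 1
  linear_combination ((l + m) * s) * hG.two

/-- nilpotency -/
theorem nilp (hG : Gn ζ) (l m : F) : ∀ (N : ℕ) (Q : Type*) [Group Q] [Finite Q] (α ρ : MulAut Q) (E : F → Q), IsPGroup 2 Q →
    Hyp ζ Q α ρ E → (∀ x y : Q, x * y = y * x) → Nat.card Q ≤ N → ∃ k : ℕ, ∀ x, (tau ζ ρ l m)^[k] x = 1 := by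
  intro N
  induction N with
  | zero =>
    intro Q _ _ α ρ E hQ H hc hN
    have : 0 < Nat.card Q := Nat.card_pos
    omega
  | succ N ih =>
    intro Q _ _ α ρ E hQ H hc hN
    by_cases htop : H.A = ⊤
    · refine ⟨1, fun x => ?_⟩
      have hx : x ∈ H.A := by rw [htop]; exact mem_top x
      obtain ⟨s, rfl⟩ := H.mem_A'.mp hx
      exact tau_E H hG l m s
    · haveI := A_normal H hG hQ
      obtain ⟨E', H', -⟩ := quot H hG hQ htop
      have hcard : Nat.card (Q ⧸ H.A) ≤ N := by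
        have h1 := H.A.card_eq_card_quotient_mul_card_subgroup
        have h2 : 1 < Nat.card H.A := by
          have : Nontrivial H.A := ⟨⟨⟨E 1, H.mem_A'.mpr ⟨1, rfl⟩⟩, 1, fun h => one_ne_zero (H.E1 (congrArg Subtype.val h))⟩⟩
          exact Finite.one_lt_card
        have h3 : 0 < Nat.card (Q ⧸ H.A) := Nat.card_pos
        have : Nat.card (Q ⧸ H.A) * 2 ≤ Nat.card Q := by
          rw [h1]; exact Nat.mul_le_mul_left _ h2
        omega
      obtain ⟨k, hk⟩ := ih (Q ⧸ H.A) _ _ E' (hQ.to_quotient _) H' (by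
        intro x y
        obtain ⟨x, rfl⟩ := QuotientGroup.mk_surjective x
        obtain ⟨y, rfl⟩ := QuotientGroup.mk_surjective y
        rw [← QuotientGroup.mk_mul, hc, QuotientGroup.mk_mul]) hcard
      refine ⟨k + 1, fun x => ?_⟩
      rw [Function.iterate_succ_apply']
      have h1 : (QuotientGroup.mk' H.A) ((tau ζ ρ l m)^[k] x) = 1 := by
        rw [iter_map (f' := tau ζ (qa H.A ρ (A_ρ H)) l m) (QuotientGroup.mk' H.A) (fun x => tau_map hG H.rord H'.rord _ (fun x => rfl) l m x)]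
        exact hk _
      have h2 : (tau ζ ρ l m)^[k] x ∈ H.A := (QuotientGroup.eq_one_iff _).mp h1
      obtain ⟨s, hs⟩ := H.mem_A'.mp h2
      rw [← hs]
      exact tau_E H hG l m s

theorem aux {V : Type*} [CommGroup V] (a b c d e f : V) : (a * d * e) * (d * b * f) * (e * f * c) = a * b * c * (d * d) * (e * e) * (f * f) := by
  apply Additive.ofMul.injective
  simp only [ofMul_mul]
  abel

/-- in an elementary abelian group nilpotency implies triviality -/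
theorem tau_one {V : Type*} [Group V] (hG : Gn ζ) (hc : ∀ x y : V, x * y = y * x) (h2 : ∀ x : V, x * x = 1) {ρ : MulAut V}
    (hρ : ρ ^ (Fintype.card F - 1) = 1) (l m : F) {k : ℕ} (hk : ∀ x, (tau ζ ρ l m)^[k] x = 1) (x : V) : tau ζ ρ l m x = 1 := by
  letI : CommGroup V := { (inferInstance : Group V) with mul_comm := hc }
  have hsq : ∀ l m : F, ∀ x : V, tau ζ ρ l m (tau ζ ρ l m x) = tau ζ ρ (l ^ 2) (m ^ 2) x := by
    intro l m x
    unfold tau
    simp only [sc_mul hG hρ, sc_sc hG hρ]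
    have e1 : (l + m) * (l + m) = l ^ 2 + m ^ 2 := by linear_combination (l * m) * hG.two
    have e2 : l * (l + m) = (l + m) * l := mul_comm _ _
    have e3 : m * (l + m) = (l + m) * m := mul_comm _ _
    have e4 : m * l = l * m := mul_comm _ _
    rw [e1, e2, e3, e4, aux, h2, h2, h2, mul_one, mul_one, mul_one, pow_two, pow_two]
  have hit : ∀ (j : ℕ) (l m : F) (x : V), (tau ζ ρ l m)^[2 ^ j] x = tau ζ ρ (l ^ (2 ^ j)) (m ^ (2 ^ j)) x := by
    intro j
    induction j with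
    | zero => intro l m x; simp
    | succ j ih =>
      intro l m x
      have e : (tau ζ ρ l m)^[2 ^ (j + 1)] x = ((tau ζ ρ l m)^[2])^[2 ^ j] x := by
        rw [← Function.iterate_mul]; congr 1; congr 1; ring
      have e2 : (tau ζ ρ l m)^[2] = tau ζ ρ (l ^ 2) (m ^ 2) := by
        funext y; exact hsq l m y
      rw [e, e2, ih, ← pow_mul, ← pow_mul, pow_succ']
  obtain ⟨n, hn⟩ := hG.pw
  have hn0 : n ≠ 0 := by
    rintro rfl
    have := hG.big
    rw [hn] at this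
    norm_num at this
  have hfix : ∀ (j : ℕ) (l : F), l ^ (2 ^ (n * j)) = l := by
    intro j l
    rw [pow_mul, ← hn]
    exact FiniteField.pow_card_pow j l
  have hbig : k ≤ 2 ^ (n * k) := by
    calc k ≤ 2 ^ k := Nat.lt_two_pow_self.le
      _ ≤ 2 ^ (n * k) := Nat.pow_le_pow_right (by norm_num) (Nat.le_mul_of_pos_left k (Nat.pos_of_ne_zero hn0))
  have h1 := hit (n * k) l m x
  rw [hfix, hfix] at h1
  rw [← h1]
  obtain ⟨d, hd⟩ := Nat.exists_eq_add_of_le hbig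
  rw [hd, Function.iterate_add_apply]
  exact hk _

/-- from `tau` to additivity -/
theorem sc_add_of_tau {Q : Type*} [Group Q] {ρ : MulAut Q} (N : Subgroup Q) [N.Normal] (hc : ∀ x y : Q, ⁅x, y⁆ ∈ N) (h2 : ∀ x : Q, x * x ∈ N)
    (h : ∀ l m x, tau ζ ρ l m x ∈ N) (l m : F) (x : Q) :
    (QuotientGroup.mk (sc ζ ρ (l + m) x) : Q ⧸ N) = QuotientGroup.mk (sc ζ ρ l x * sc ζ ρ m x) := by
  have h3 : (QuotientGroup.mk (tau ζ ρ l m x) : Q ⧸ N) = 1 := (QuotientGroup.eq_one_iff _).mpr (h l m x)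
  unfold tau at h3
  rw [mul_assoc, QuotientGroup.mk_mul, mul_eq_one_iff_eq_inv] at h3
  rw [h3, inv_eq_iff_mul_eq_one, ← QuotientGroup.mk_mul]
  exact (QuotientGroup.eq_one_iff _).mpr (h2 _)

end H98.TwC
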