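import Mathlib
import Cfsg.Agent.Lib.H98.TwC

/-!
2-groups with two commuting automorphisms: commutator maps.
-/

set_option autoImplicit false
set_option linter.unusedSectionVars false

namespace H98.TwD

open Subgroup H98.TwB H98.TwC
open scoped commutatorElement

variable {F : Type} [Field F] [Fintype F] {ζ : F}

theorem cml {Q : Type*} [Group Q] {x y z : Q} (h : ∀ w, w * ⁅y, z⁆ = ⁅y, z⁆ * w) : ⁅x * y, z⁆ = ⁅x, z⁆ * ⁅y, z⁆ := by
  have h1 := h x
  have h2 := h ⁅x, z⁆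
  rw [h2]
  rw [commutatorElement_def, commutatorElement_def x z]
  rw [commutatorElement_def] at h1
  calc x * y * z * (x * y)⁻¹ * z⁻¹ = (x * (y * z * y⁻¹ * z⁻¹)) * z * x⁻¹ * z⁻¹ := by group
    _ = (y * z * y⁻¹ * z⁻¹ * x) * z * x⁻¹ * z⁻¹ := by rw [h1]
    _ = ⁅y, z⁆ * (x * z * x⁻¹ * z⁻¹) := by rw [commutatorElement_def]; group

theorem cmr {Q : Type*} [Group Q] {x y z : Q} (h : ∀ w, w * ⁅x, z⁆ = ⁅x, z⁆ * w) : ⁅x, y * z⁆ = ⁅x, y⁆ * ⁅x, z⁆ := by
  have h1 := h y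
  rw [commutatorElement_def, commutatorElement_def x y]
  rw [commutatorElement_def] at h1
  calc x * (y * z) * x⁻¹ * (y * z)⁻¹ = x * y * x⁻¹ * (x * z * x⁻¹ * z⁻¹) * y⁻¹ := by group
    _ = x * y * x⁻¹ * (x * z * x⁻¹ * z⁻¹ * y⁻¹) := by group
    _ = x * y * x⁻¹ * (y⁻¹ * (x * z * x⁻¹ * z⁻¹)) := by
        have h2 : x * z * x⁻¹ * z⁻¹ * y⁻¹ = y⁻¹ * (x * z * x⁻¹ * z⁻¹) := by
          have := h y⁻¹
          rw [commutatorElement_def] at this
          exact this.symm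
        rw [h2]
    _ = x * y * x⁻¹ * y⁻¹ * ⁅x, z⁆ := by rw [commutatorElement_def]; group

/-- commutators do not change modulo centralizing elements -/
theorem cml_one {Q : Type*} [Group Q] {x y z : Q} (h : y * z = z * y) : ⁅x * y, z⁆ = ⁅x, z⁆ := by
  have : ⁅y, z⁆ = 1 := commutatorElement_eq_one_iff_mul_comm.mpr h
  rw [cml (fun w => by rw [this, mul_one, one_mul]), this, mul_one]

theorem cmr_one {Q : Type*} [Group Q] {x y z : Q} (h : x * z = z * x) : ⁅x, y * z⁆ = ⁅x, y⁆ := by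
  have : ⁅x, z⁆ = 1 := commutatorElement_eq_one_iff_mul_comm.mpr h
  rw [cmr (fun w => by rw [this, mul_one, one_mul]), this, mul_one]

theorem exists_sqrt (hG : Gn ζ) (l : F) : ∃ m : F, m ^ 2 = l := by
  haveI : CharP F 2 := by
    haveI : Fact (Nat.Prime 2) := ⟨Nat.prime_two⟩
    rw [CharP.charP_iff_prime_eq_zero Nat.prime_two]
    exact_mod_cast hG.two
  obtain ⟨m, hm⟩ := FiniteField.isSquare_of_char_two (F := F) (ringChar.eq F 2 ▸ rfl) l
  exact ⟨m, by rw [hm, pow_two]⟩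

theorem bil {Q : Type*} [Group Q] (hG : Gn ζ) {ρ : MulAut Q} (hρ : ρ ^ (Fintype.card F - 1) = 1) (D : Subgroup Q)
    (hDρ : ∀ x ∈ D, ρ x ∈ D) (hDc : ∀ x ∈ D, ∀ y ∈ D, x * y = y * x) (hD2 : ∀ x ∈ D, x * x = 1)
    (hDt : ∀ l m : F, ∀ x ∈ D, tau ζ ρ l m x = 1) (g : F → F → Q) (g0 : ∀ l m, g l m ∈ D)
    (g1 : ∀ l l' m, g (l + l') m = g l m * g l' m) (g2 : ∀ l m m', g l (m + m') = g l m * g l m')
    (gs : ∀ l a b, g (l * a) (l * b) = sc ζ ρ l (g a b)) (l m : F) : g (l ^ 2) (m ^ 2) = sc ζ ρ (l * m) (g 1 1) := by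
  letI : AddCommGroup (Additive D) :=
    { (inferInstance : AddGroup (Additive D)) with
      add_comm := by
        intro x y
        apply Additive.toMul.injective
        apply Subtype.ext
        exact hDc _ x.toMul.2 _ y.toMul.2 }
  have hadd : ∀ l m : F, ∀ x ∈ D, sc ζ ρ (l + m) x = sc ζ ρ l x * sc ζ ρ m x := by
    intro l m x hx
    have h1 := hDt l m x hx
    unfold tau at h1
    have hm := sc_mem hG hρ hDρ m hx
    have hl := sc_mem hG hρ hDρ l hx
    have h2 := hD2 _ (D.mul_mem hl hm)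
    rw [mul_assoc] at h1
    exact (eq_inv_of_mul_eq_one_left h1).trans (inv_eq_of_mul_eq_one_left h2)
  let s : F → AddMonoid.End (Additive D) := fun l =>
    { toFun := fun d => Additive.ofMul ⟨sc ζ ρ l (d.toMul : D), sc_mem hG hρ hDρ l d.toMul.2⟩
      map_zero' := by
        apply Additive.toMul.injective
        apply Subtype.ext
        exact sc_map_one hG hρ l
      map_add' := by
        intro x y
        apply Additive.toMul.injective
        apply Subtype.ext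
        exact sc_mul hG hρ l _ _ }
  let σ : F →+* AddMonoid.End (Additive D) :=
    { toFun := s
      map_one' := by
        refine AddMonoidHom.ext fun d => ?_
        apply Additive.toMul.injective
        apply Subtype.ext
        exact sc_one hG hρ _
      map_mul' := by
        intro a b
        refine AddMonoidHom.ext fun d => ?_
        apply Additive.toMul.injective
        apply Subtype.ext
        exact (sc_sc hG hρ a b _).symm
      map_zero' := by
        refine AddMonoidHom.ext fun d => ?_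
        apply Additive.toMul.injective
        apply Subtype.ext
        exact sc_zero hG ρ _
      map_add' := by
        intro a b
        refine AddMonoidHom.ext fun d => ?_
        apply Additive.toMul.injective
        apply Subtype.ext
        exact hadd a b _ d.toMul.2 }
  have := H98.TwA.sqrt_lemma hG.two σ (fun l m => Additive.ofMul (⟨g l m, g0 l m⟩ : D)) (by
      intro x x' y
      apply Additive.toMul.injective
      apply Subtype.ext
      exact g1 x x' y) (by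
      intro x y y'
      apply Additive.toMul.injective
      apply Subtype.ext
      exact g2 x y y') (by
      intro l x y
      apply Additive.toMul.injective
      apply Subtype.ext
      exact gs l x y) l m
  exact congrArg (fun d : Additive D => ((d.toMul : D) : Q)) this

theorem tau_tau {Q : Type*} [Group Q] (hG : Gn ζ) {ρ : MulAut Q} (hρ : ρ ^ (Fintype.card F - 1) = 1) (D : Subgroup Q)
    (hDρ : ∀ x ∈ D, ρ x ∈ D) (hDc : ∀ x ∈ D, ∀ y ∈ D, x * y = y * x) (hD2 : ∀ x ∈ D, x * x = 1) (l m : F) {x : Q} (hx : x ∈ D) :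
    tau ζ ρ l m (tau ζ ρ l m x) = tau ζ ρ (l ^ 2) (m ^ 2) x := by
  letI : CommGroup D := { (inferInstance : Group D) with mul_comm := fun a b => Subtype.ext (hDc _ a.2 _ b.2) }
  have hs : ∀ l, sc ζ ρ l x ∈ D := fun l => sc_mem hG hρ hDρ l hx
  unfold tau
  simp only [sc_mul hG hρ, sc_sc hG hρ]
  have e1 : (l + m) * (l + m) = l ^ 2 + m ^ 2 := by linear_combination (l * m) * hG.two
  have e2 : l * (l + m) = (l + m) * l := mul_comm _ _
  have e3 : m * (l + m) = (l + m) * m := mul_comm _ _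
  have e4 : m * l = l * m := mul_comm _ _
  rw [e1, e2, e3, e4]
  have := congrArg Subtype.val (aux (⟨_, hs (l ^ 2 + m ^ 2)⟩ : D) ⟨_, hs (l * l)⟩ ⟨_, hs (m * m)⟩ ⟨_, hs ((l + m) * l)⟩ ⟨_, hs ((l + m) * m)⟩ ⟨_, hs (l * m)⟩)
  simp only [Subgroup.coe_mul] at this
  rw [this, hD2 _ (hs _), hD2 _ (hs _), hD2 _ (hs _), mul_one, mul_one, mul_one, pow_two, pow_two]

/-- if two equal elements in the quotient by a subgroup centralizing `z` -/
theorem comm_congr {Q : Type*} [Group Q] {N : Subgroup Q} [N.Normal] {a b z : Q} (hN : ∀ n ∈ N, n * z = z * n)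
    (h : (QuotientGroup.mk a : Q ⧸ N) = QuotientGroup.mk b) : ⁅a, z⁆ = ⁅b, z⁆ := by
  rw [QuotientGroup.eq] at h
  have : b = a * (a⁻¹ * b) := by group
  rw [this, cml_one (hN _ h)]

theorem comm_congr' {Q : Type*} [Group Q] {N : Subgroup Q} [N.Normal] {a b z : Q} (hN : ∀ n ∈ N, n * z = z * n)
    (h : (QuotientGroup.mk a : Q ⧸ N) = QuotientGroup.mk b) : ⁅z, a⁆ = ⁅z, b⁆ := by
  rw [QuotientGroup.eq] at h
  have : b = a * (a⁻¹ * b) := by group
  rw [this, cmr_one (hN _ h).symm]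

/-- the commutator form of a pair of elements -/
theorem comm_form {Q : Type*} [Group Q] (hG : Gn ζ) {ρ : MulAut Q} (hρ : ρ ^ (Fintype.card F - 1) = 1) (D : Subgroup Q)
    (hDρ : ∀ x ∈ D, ρ x ∈ D) (hDc : ∀ x ∈ D, ∀ y ∈ D, x * y = y * x) (hD2 : ∀ x ∈ D, x * x = 1)
    (hDt : ∀ l m : F, ∀ x ∈ D, tau ζ ρ l m x = 1) (N N' : Subgroup Q) [N.Normal] [N'.Normal] (x y : Q)
    (h1 : ∀ n ∈ N, ∀ m : F, n * sc ζ ρ m y = sc ζ ρ m y * n) (h2 : ∀ n ∈ N', ∀ m : F, n * sc ζ ρ m x = sc ζ ρ m x * n)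
    (hN : ∀ l m : F, (QuotientGroup.mk (sc ζ ρ (l + m) x) : Q ⧸ N) = QuotientGroup.mk (sc ζ ρ l x * sc ζ ρ m x))
    (hN' : ∀ l m : F, (QuotientGroup.mk (sc ζ ρ (l + m) y) : Q ⧸ N') = QuotientGroup.mk (sc ζ ρ l y * sc ζ ρ m y))
    (hD : ∀ l m : F, ⁅sc ζ ρ l x, sc ζ ρ m y⁆ ∈ D) (hcen : ∀ l m : F, ∀ w, w * ⁅sc ζ ρ l x, sc ζ ρ m y⁆ = ⁅sc ζ ρ l x, sc ζ ρ m y⁆ * w)
    (l m : F) : ⁅sc ζ ρ (l ^ 2) x, sc ζ ρ (m ^ 2) y⁆ = sc ζ ρ (l * m) ⁅x, y⁆ := by
  have := bil hG hρ D hDρ hDc hD2 hDt (fun l m => ⁅sc ζ ρ l x, sc ζ ρ m y⁆) hD (by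
      intro l l' m
      show ⁅sc ζ ρ (l + l') x, _⁆ = _
      rw [comm_congr (fun n hn => h1 n hn m) (hN l l'), cml (hcen l' m)]) (by
      intro l m m'
      show ⁅_, sc ζ ρ (m + m') y⁆ = _
      rw [comm_congr' (fun n hn => h2 n hn l) (hN' m m'), cmr (hcen l m')]) (by
      intro l a b
      show ⁅sc ζ ρ (l * a) x, sc ζ ρ (l * b) y⁆ = sc ζ ρ l ⁅sc ζ ρ a x, sc ζ ρ b y⁆
      rw [sc_comm hG hρ, sc_sc hG hρ, sc_sc hG hρ]) l m
  simp only [sc_one hG hρ] at this
  exact this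

end H98.TwD
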