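import Mathlib
import Cfsg.Agent.Lib.H98.TwD

/-!
2-groups with two commuting automorphisms: the case of an abelian quotient.
-/

set_option autoImplicit false
set_option linter.unusedSectionVars false

namespace H98.TwE

open Subgroup H98.TwB H98.TwC H98.TwD
open scoped commutatorElement

variable {F : Type} [Field F] [Fintype F] {ζ : F}

/-- the structure of `Q` -/
structure Str {Q : Type*} [Group Q] {α ρ : MulAut Q} {E : F → Q} (H : Hyp ζ Q α ρ E) : Prop where
  sq : ∀ x : Q, x * x ∈ H.A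
  cm : ∀ x y : Q, ⁅x, y⁆ ∈ H.A
  cen : ∀ x : Q, (∀ y, x * y = y * x) → x ∈ H.A
  tau : ∀ (l m : F) (x : Q), tau ζ ρ l m x ∈ H.A
  gen : ∀ x y : Q, ⁅x, y⁆ ≠ 1 → ∀ w : Q, ∃ l m : F, (sc ζ ρ (l ^ 2) x * sc ζ ρ (m ^ 2) y)⁻¹ * w ∈ H.A

theorem card_A {Q : Type*} [Group Q] {α ρ : MulAut Q} {E : F → Q} (H : Hyp ζ Q α ρ E) : Nat.card H.A = Fintype.card F := by
  rw [← Nat.card_eq_fintype_card]
  symm
  refine Nat.card_eq_of_bijective (fun s : F => (⟨E s, H.mem_A'.mpr ⟨s, rfl⟩⟩ : H.A)) ⟨?_, ?_⟩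
  · intro s t h
    exact H.Einj _ _ (congrArg Subtype.val h)
  · rintro ⟨x, hx⟩
    obtain ⟨s, rfl⟩ := H.mem_A'.mp hx
    exact ⟨s, rfl⟩

open Classical in
theorem fib {Q : Type*} [Group Q] [Fintype Q] {α ρ : MulAut Q} {E : F → Q} (H : Hyp ζ Q α ρ E) (s : Finset Q) :
    s.card ≤ Fintype.card F * (s.image (del α)).card := by
  apply Finset.card_le_mul_card_image
  intro a _
  rcases (s.filter (fun x => del α x = a)).eq_empty_or_nonempty with h | ⟨x₁, h1⟩
  · rw [h]; simp
  · rw [Finset.mem_filter] at h1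
    rw [← card_A H, ← Fintype.card_coe, ← Nat.card_eq_fintype_card]
    refine Nat.card_le_card_of_injective (fun x => (⟨(x : Q) * x₁⁻¹, ?_⟩ : H.A)) ?_
    · apply H.mem_A.mpr
      apply del_inj
      rw [h1.2]
      exact (Finset.mem_filter.mp x.2).2
    · intro x y hxy
      have := congrArg Subtype.val hxy
      exact Subtype.ext (mul_right_cancel this)

theorem A2 {Q : Type*} [Group Q] {α ρ : MulAut Q} {E : F → Q} (H : Hyp ζ Q α ρ E) (hG : Gn ζ) {x : Q} (hx : x ∈ H.A) : x * x = 1 := by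
  obtain ⟨s, rfl⟩ := H.mem_A'.mp hx
  exact H.Esq hG s

theorem Acomm {Q : Type*} [Group Q] {α ρ : MulAut Q} {E : F → Q} (H : Hyp ζ Q α ρ E) : ∀ x ∈ H.A, ∀ y ∈ H.A, x * y = y * x := by
  intro x hx y hy
  obtain ⟨s, rfl⟩ := H.mem_A'.mp hx
  obtain ⟨t, rfl⟩ := H.mem_A'.mp hy
  exact H.Ecomm s t

theorem Atau {Q : Type*} [Group Q] {α ρ : MulAut Q} {E : F → Q} (H : Hyp ζ Q α ρ E) (hG : Gn ζ) (l m : F) : ∀ x ∈ H.A, H98.TwC.tau ζ ρ l m x = 1 := by
  intro x hx
  obtain ⟨s, rfl⟩ := H.mem_A'.mp hx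
  exact tau_E H hG l m s

set_option maxHeartbeats 1000000 in
theorem case1 {Q : Type*} [Group Q] [Finite Q] {α ρ : MulAut Q} {E : F → Q} (H : Hyp ζ Q α ρ E) (hG : Gn ζ) (hQ : IsPGroup 2 Q)
    (hcm : ∀ x y : Q, ⁅x, y⁆ ∈ H.A) (hna : ∃ x y : Q, x * y ≠ y * x)
    (hτ : ∀ l m : F, ∃ k : ℕ, ∀ x, (H98.TwC.tau ζ ρ l m)^[k] x ∈ H.A) : Str H := by
  classical
  letI : Fintype Q := Fintype.ofFinite Q
  have hAc : H.A ≤ center Q := H.A_central hG hQ
  have hcc : ∀ x y w : Q, w * ⁅x, y⁆ = ⁅x, y⁆ * w := fun x y w => Subgroup.mem_center_iff.mp (hAc (hcm x y)) w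
  have hsqZ : ∀ x : Q, x * x ∈ center Q := by
    intro x
    rw [Subgroup.mem_center_iff]
    intro g
    have h1 : ⁅x * x, g⁆ = 1 := by rw [cml (hcc x g), A2 H hG (hcm x g)]
    exact (commutatorElement_eq_one_iff_mul_comm.mp h1).symm
  have hZα : ∀ x ∈ center Q, α x ∈ center Q := fun x hx =>
    (Subgroup.characteristic_iff_map_eq.mp (inferInstance : (center Q).Characteristic) α) ▸ ⟨x, hx, rfl⟩
  have hZρ : ∀ x ∈ center Q, ρ x ∈ center Q := fun x hx =>
    (Subgroup.characteristic_iff_map_eq.mp (inferInstance : (center Q).Characteristic) ρ) ▸ ⟨x, hx, rfl⟩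
  have hρV : qa (center Q) ρ hZρ ^ (Fintype.card F - 1) = 1 := by
    ext z
    obtain ⟨x, rfl⟩ := QuotientGroup.mk_surjective z
    rw [qa_pow, H.rord]; rfl
  have hτZ : ∀ l m x, H98.TwC.tau ζ ρ l m x ∈ center Q := by
    intro l m x
    obtain ⟨k, hk⟩ := hτ l m
    have h1 := tau_one (V := Q ⧸ center Q) hG (by
        intro a b
        obtain ⟨a, rfl⟩ := QuotientGroup.mk_surjective a
        obtain ⟨b, rfl⟩ := QuotientGroup.mk_surjective b
        rw [← QuotientGroup.mk_mul, ← QuotientGroup.mk_mul, QuotientGroup.eq]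
        have : (a * b)⁻¹ * (b * a) = ⁅b⁻¹, a⁻¹⁆ := by rw [commutatorElement_def]; group
        rw [this]
        exact hAc (hcm _ _)) (by
        intro a
        obtain ⟨a, rfl⟩ := QuotientGroup.mk_surjective a
        rw [← QuotientGroup.mk_mul]
        exact (QuotientGroup.eq_one_iff _).mpr (hsqZ a)) hρV l m (k := k) (by
        intro a
        obtain ⟨a, rfl⟩ := QuotientGroup.mk_surjective a
        have h2 := iter_map (f := H98.TwC.tau ζ ρ l m) (f' := H98.TwC.tau ζ (qa (center Q) ρ hZρ) l m) (QuotientGroup.mk' (center Q))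
          (fun x => tau_map hG H.rord hρV _ (fun x => rfl) l m x) k a
        have h3 : (QuotientGroup.mk' (center Q)) ((H98.TwC.tau ζ ρ l m)^[k] a) = 1 := (QuotientGroup.eq_one_iff _).mpr (hAc (hk a))
        rw [h3] at h2
        exact h2.symm) (QuotientGroup.mk x)
    have h2 := tau_map hG H.rord hρV (QuotientGroup.mk' (center Q)) (fun x => rfl) l m x
    have h3 : (QuotientGroup.mk' (center Q)) (H98.TwC.tau ζ ρ l m x) = 1 := h2.trans h1
    exact (QuotientGroup.eq_one_iff _).mp h3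
  have hadd : ∀ l m x, (QuotientGroup.mk (sc ζ ρ (l + m) x) : Q ⧸ center Q) = QuotientGroup.mk (sc ζ ρ l x * sc ζ ρ m x) :=
    fun l m x => sc_add_of_tau (center Q) (fun x y => hAc (hcm x y)) hsqZ hτZ l m x
  have hZc : ∀ n ∈ center Q, ∀ w : Q, n * w = w * n := fun n hn w => (Subgroup.mem_center_iff.mp hn w).symm
  have form : ∀ (x y : Q) (l m : F), ⁅sc ζ ρ (l ^ 2) x, sc ζ ρ (m ^ 2) y⁆ = sc ζ ρ (l * m) ⁅x, y⁆ := by
    intro x y l m
    exact comm_form hG H.rord H.A (A_ρ H) (Acomm H) (fun x hx => A2 H hG hx) (Atau H hG) (center Q) (center Q) x y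
      (fun n hn m => hZc n hn _) (fun n hn m => hZc n hn _) (fun l m => hadd l m x) (fun l m => hadd l m y)
      (fun l m => hcm _ _) (fun l m w => hcc _ _ w) l m
  have fself : ∀ (x : Q) (l m : F), ⁅sc ζ ρ (l ^ 2) x, sc ζ ρ (m ^ 2) x⁆ = 1 := by
    intro x l m
    rw [form, commutatorElement_self, sc_map_one hG H.rord]
  have hone : ∀ x : Q, sc ζ ρ ((1 : F) ^ 2) x = x := by
    intro x; rw [one_pow, sc_one hG H.rord]
  -- injectivity
  have inj : ∀ (x y : Q), ⁅x, y⁆ ≠ 1 → ∀ l m l' m' : F, (QuotientGroup.mk (sc ζ ρ (l ^ 2) x * sc ζ ρ (m ^ 2) y) : Q ⧸ center Q) =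
      QuotientGroup.mk (sc ζ ρ (l' ^ 2) x * sc ζ ρ (m' ^ 2) y) → l = l' ∧ m = m' := by
    intro x y hxy l m l' m' h
    obtain ⟨c, hc⟩ := H.mem_A'.mp (hcm x y)
    have hc0 : c ≠ 0 := by
      rintro rfl
      exact hxy (hc.symm.trans H.E0)
    have e1 : ∀ l m : F, ⁅sc ζ ρ (l ^ 2) x * sc ζ ρ (m ^ 2) y, y⁆ = E (l * c) := by
      intro l m
      have h1 := form x y l 1
      have h2 := fself y m 1
      rw [hone] at h1 h2
      rw [cml (hcc _ _), h1, h2, mul_one, mul_one, ← hc, H.Esc hG]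
    have e2 : ∀ l m : F, ⁅sc ζ ρ (l ^ 2) x * sc ζ ρ (m ^ 2) y, x⁆ = (E (m * c))⁻¹ := by
      intro l m
      have h1 := form y x m 1
      have h2 := fself x l 1
      rw [hone] at h1 h2
      rw [cml (hcc _ _), h1, h2, one_mul, mul_one, ← commutatorElement_inv, ← hc, sc_inv hG H.rord, H.Esc hG]
    have f1 := comm_congr (z := y) (fun n hn => hZc n hn _) h
    have f2 := comm_congr (z := x) (fun n hn => hZc n hn _) h
    rw [e1, e1] at f1
    rw [e2, e2, inv_inj] at f2
    exact ⟨mul_right_cancel₀ hc0 (H.Einj _ _ f1), mul_right_cancel₀ hc0 (H.Einj _ _ f2)⟩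
  obtain ⟨x₀, y₀, hxy₀⟩ := hna
  have hxy₀' : ⁅x₀, y₀⁆ ≠ 1 := fun h => hxy₀ (commutatorElement_eq_one_iff_mul_comm.mp h)
  -- counting
  have hZpos : 0 < Nat.card (center Q) := Nat.card_pos
  have hVlow : Fintype.card F * Fintype.card F ≤ Nat.card (Q ⧸ center Q) := by
    rw [← Fintype.card_prod, ← Nat.card_eq_fintype_card]
    refine Nat.card_le_card_of_injective (fun p : F × F => (QuotientGroup.mk (sc ζ ρ (p.1 ^ 2) x₀ * sc ζ ρ (p.2 ^ 2) y₀) : Q ⧸ center Q)) ?_
    rintro ⟨l, m⟩ ⟨l', m'⟩ h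
    obtain ⟨h1, h2⟩ := inj x₀ y₀ hxy₀' l m l' m' h
    rw [h1, h2]
  have hcardQ := (center Q).card_eq_card_quotient_mul_card_subgroup
  have hZfin : ∀ s : Finset Q, (∀ x ∈ s, x ∈ center Q) → s.card ≤ Nat.card (center Q) := by
    intro s hs
    rw [← Fintype.card_coe, ← Nat.card_eq_fintype_card]
    refine Nat.card_le_card_of_injective (fun x => (⟨(x : Q), hs x x.2⟩ : center Q)) ?_
    intro x y hxy
    exact Subtype.ext (congrArg (fun z : center Q => (z : Q)) hxy)
  have hq4 := hG.big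
  have hVup : Nat.card (Q ⧸ center Q) ≤ Fintype.card F * Fintype.card F := by
    have h1 := fib H (Finset.univ : Finset Q)
    have h2 := fib H ((Finset.univ : Finset Q).image (del α))
    have h3 := hZfin (((Finset.univ : Finset Q).image (del α)).image (del α)) (by
      intro z hz
      rw [Finset.mem_image] at hz
      obtain ⟨u, hu, rfl⟩ := hz
      rw [Finset.mem_image] at hu
      obtain ⟨x, -, rfl⟩ := hu
      have : del α (del α x) = (del α x)⁻¹ * (del α x)⁻¹ := by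
        conv_lhs => rw [del]
        rw [del_alpha H.a2]
      rw [this]
      exact hsqZ _)
    rw [Finset.card_univ, ← Nat.card_eq_fintype_card] at h1
    have h4 : Nat.card Q ≤ Fintype.card F * Fintype.card F * Nat.card (center Q) := by
      calc Nat.card Q ≤ Fintype.card F * ((Finset.univ : Finset Q).image (del α)).card := h1
        _ ≤ Fintype.card F * (Fintype.card F * (((Finset.univ : Finset Q).image (del α)).image (del α)).card) := Nat.mul_le_mul_left _ h2
        _ ≤ Fintype.card F * (Fintype.card F * Nat.card (center Q)) := Nat.mul_le_mul_left _ (Nat.mul_le_mul_left _ h3)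
        _ = _ := by ring
    rw [hcardQ] at h4
    exact Nat.le_of_mul_le_mul_right h4 hZpos
  have gen : ∀ x y : Q, ⁅x, y⁆ ≠ 1 → ∀ w, ∃ l m : F, (sc ζ ρ (l ^ 2) x * sc ζ ρ (m ^ 2) y)⁻¹ * w ∈ center Q := by
    intro x y hxy w
    have hb : Function.Bijective (fun p : F × F => (QuotientGroup.mk (sc ζ ρ (p.1 ^ 2) x * sc ζ ρ (p.2 ^ 2) y) : Q ⧸ center Q)) := by
      rw [Nat.bijective_iff_injective_and_card]
      refine ⟨?_, ?_⟩
      · rintro ⟨l, m⟩ ⟨l', m'⟩ h
        obtain ⟨h1, h2⟩ := inj x y hxy l m l' m' h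
        rw [h1, h2]
      · rw [Nat.card_eq_fintype_card, Fintype.card_prod]
        exact le_antisymm hVlow hVup
    obtain ⟨⟨l, m⟩, h⟩ := hb.2 (QuotientGroup.mk w)
    exact ⟨l, m, QuotientGroup.eq.mp h⟩
  -- an element outside
  obtain ⟨x, hx⟩ : ∃ x : Q, del α x ∉ center Q := by
    by_contra hcon
    push Not at hcon
    have h1 := fib H (Finset.univ : Finset Q)
    have h3 := hZfin ((Finset.univ : Finset Q).image (del α)) (by
      intro z hz
      rw [Finset.mem_image] at hz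
      obtain ⟨x, -, rfl⟩ := hz
      exact hcon x)
    rw [Finset.card_univ, ← Nat.card_eq_fintype_card] at h1
    have h4 : Nat.card Q ≤ Fintype.card F * Nat.card (center Q) := h1.trans (Nat.mul_le_mul_left _ h3)
    rw [hcardQ] at h4
    have h5 := Nat.le_of_mul_le_mul_right h4 hZpos
    nlinarith
  have hZA : center Q ≤ H.A := by
    by_contra hcon
    have hcon' : ∃ z ∈ center Q, z ∉ H.A := by
      by_contra h; push Not at h; exact hcon h
    obtain ⟨z₀, hz₀, hz₀A⟩ := hcon'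
    let Z1 : Subgroup Q :=
      { carrier := {w | ∃ z ∈ center Q, del α z = w}
        one_mem' := ⟨1, Subgroup.one_mem _, by unfold del; simp⟩
        mul_mem' := by
          rintro _ _ ⟨z, hz, rfl⟩ ⟨w, hw, rfl⟩
          refine ⟨z * w, Subgroup.mul_mem _ hz hw, del_mul (fun g => ?_)⟩
          have : del α z ∈ center Q := Subgroup.mul_mem _ (Subgroup.inv_mem _ hz) (hZα z hz)
          exact (hZc _ this g).symm
        inv_mem' := by
          rintro _ ⟨z, hz, rfl⟩
          refine ⟨z⁻¹, Subgroup.inv_mem _ hz, ?_⟩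
          unfold del
          rw [map_inv]
          have := hZc _ (hZα z hz) z⁻¹
          rw [mul_inv_rev, inv_inv]
          have h3 := hZc _ (Subgroup.inv_mem _ (hZα z hz)) z
          rw [h3] }
    have hAZ1 : H.A ≤ Z1 := by
      apply H.A_le hG hQ
      · rintro _ ⟨z, hz, rfl⟩
        refine ⟨α z, hZα z hz, ?_⟩
        unfold del
        rw [map_mul, map_inv]
      · rintro _ ⟨z, hz, rfl⟩
        exact ⟨ρ z, hZρ z hz, del_rho H.comm z⟩
      · intro h
        have : del α z₀ ∈ (⊥ : Subgroup Q) := by rw [← h]; exact ⟨z₀, hz₀, rfl⟩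
        rw [Subgroup.mem_bot, del_eq_one] at this
        exact hz₀A this
    have ha : del α (del α x) ∉ Z1 := by
      rintro ⟨z, hz, hzz⟩
      have h1 := del_inj hzz
      have h2 : z * (del α x)⁻¹ ∈ center Q := hAc (H.mem_A.mpr h1)
      apply hx
      have h3 : del α x = (z * (del α x)⁻¹)⁻¹ * z := by group
      rw [h3]
      exact Subgroup.mul_mem _ (Subgroup.inv_mem _ h2) hz
    have hb : del α (x * x) ∈ Z1 := ⟨x * x, hsqZ x, rfl⟩
    have hd : del α (x * x) = ⁅x⁻¹, del α x⁆ * (del α x * del α x) := by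
      have : α x = x * del α x := by unfold del; group
      conv_lhs => rw [del, map_mul, this]
      rw [commutatorElement_def]
      group
    have he : del α (del α x) = (del α x * del α x)⁻¹ := by
      conv_lhs => rw [del, del_alpha H.a2]
      group
    apply ha
    rw [he]
    apply Z1.inv_mem
    rw [hd] at hb
    exact (Subgroup.mul_mem_cancel_left _ (hAZ1 (hcm _ _))).mp hb
  exact
    { sq := fun x => hZA (hsqZ x)
      cm := hcm
      cen := fun x hx => hZA (Subgroup.mem_center_iff.mpr (fun y => (hx y).symm))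
      tau := fun l m x => hZA (hτZ l m x)
      gen := fun x y hxy w => by
        obtain ⟨l, m, h⟩ := gen x y hxy w
        exact ⟨l, m, hZA h⟩ }

end H98.TwE
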