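import Mathlib
import Cfsg.Agent.Lib.H98.TwE

/-!
2-groups with two commuting automorphisms: the structure theorem.
-/

set_option autoImplicit false
set_option linter.unusedSectionVars false

namespace H98.TwF

open Subgroup H98.TwB H98.TwC H98.TwD H98.TwE
open scoped commutatorElement

variable {F : Type} [Field F] [Fintype F] {ζ : F}

theorem Acen {Q : Type*} [Group Q] [Finite Q] {α ρ : MulAut Q} {E : F → Q} (H : Hyp ζ Q α ρ E) (hG : Gn ζ) (hQ : IsPGroup 2 Q) :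
    ∀ n ∈ H.A, ∀ w : Q, n * w = w * n := fun n hn w => (Subgroup.mem_center_iff.mp (H.A_central hG hQ hn) w).symm

theorem Sadd {Q : Type*} [Group Q] {α ρ : MulAut Q} {E : F → Q} {H : Hyp ζ Q α ρ E} [H.A.Normal] (S : Str H) (l m : F) (x : Q) :
    (QuotientGroup.mk (sc ζ ρ (l + m) x) : Q ⧸ H.A) = QuotientGroup.mk (sc ζ ρ l x * sc ζ ρ m x) :=
  sc_add_of_tau H.A S.cm S.sq S.tau l m x

theorem Sform {Q : Type*} [Group Q] [Finite Q] {α ρ : MulAut Q} {E : F → Q} {H : Hyp ζ Q α ρ E} (S : Str H) (hG : Gn ζ) (hQ : IsPGroup 2 Q)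
    (x y : Q) (l m : F) : ⁅sc ζ ρ (l ^ 2) x, sc ζ ρ (m ^ 2) y⁆ = sc ζ ρ (l * m) ⁅x, y⁆ := by
  haveI := A_normal H hG hQ
  exact comm_form hG H.rord H.A (A_ρ H) (Acomm H) (fun x hx => A2 H hG hx) (Atau H hG) H.A H.A x y
      (fun n hn m => Acen H hG hQ n hn _) (fun n hn m => Acen H hG hQ n hn _) (fun l m => Sadd S l m x) (fun l m => Sadd S l m y)
      (fun l m => S.cm _ _) (fun l m w => (Acen H hG hQ _ (S.cm _ _) w).symm) l m

theorem hall {Q : Type*} [Group Q] {x x' y : Q} (h : ∀ w, w * ⁅x, x'⁆ = ⁅x, x'⁆ * w) (h2 : ⁅x, y⁆ * ⁅x', y⁆ = ⁅x', y⁆ * ⁅x, y⁆) :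
    ⁅x, ⁅x', y⁆⁆ = ⁅x', ⁅x, y⁆⁆ := by
  have h3 : (x * x') * y * (x * x')⁻¹ = (x' * x) * y * (x' * x)⁻¹ := by
    have e : x * x' = ⁅x, x'⁆ * (x' * x) := by rw [commutatorElement_def]; group
    rw [e]
    have := h (x' * x * y * (x' * x)⁻¹)
    calc ⁅x, x'⁆ * (x' * x) * y * (⁅x, x'⁆ * (x' * x))⁻¹ = ⁅x, x'⁆ * (x' * x * y * (x' * x)⁻¹) * ⁅x, x'⁆⁻¹ := by group
      _ = _ := by rw [← this]; group
  have h4 : (x * x') * y * (x * x')⁻¹ = ⁅x, ⁅x', y⁆⁆ * (⁅x', y⁆ * ⁅x, y⁆) * y := by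
    simp only [commutatorElement_def]; group
  have h5 : (x' * x) * y * (x' * x)⁻¹ = ⁅x', ⁅x, y⁆⁆ * (⁅x, y⁆ * ⁅x', y⁆) * y := by
    simp only [commutatorElement_def]; group
  rw [h4, h5, h2] at h3
  exact mul_right_cancel (mul_right_cancel h3)

set_option maxHeartbeats 1000000 in
theorem case2 {Q : Type*} [Group Q] [Finite Q] {α ρ : MulAut Q} {E : F → Q} (H : Hyp ζ Q α ρ E) (hG : Gn ζ) (hQ : IsPGroup 2 Q) [H.A.Normal]
    {E' : F → Q ⧸ H.A} (H' : Hyp ζ (Q ⧸ H.A) (qa H.A α (A_α H)) (qa H.A ρ (A_ρ H)) E') (S' : Str H')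
    (hna : ∃ x y : Q ⧸ H.A, x * y ≠ y * x) : False := by
  classical
  have hQ' : IsPGroup 2 (Q ⧸ H.A) := hQ.to_quotient _
  have hAc := Acen H hG hQ
  have hAc' := Acen H' hG hQ'
  let π : Q →* Q ⧸ H.A := QuotientGroup.mk' H.A
  have hπs : Function.Surjective π := QuotientGroup.mk'_surjective _
  have hπk : ∀ x, π x = 1 ↔ x ∈ H.A := fun x => QuotientGroup.eq_one_iff x
  have hπsc : ∀ l x, π (sc ζ ρ l x) = sc ζ (qa H.A ρ (A_ρ H)) l (π x) :=
    fun l x => sc_map hG H.rord H'.rord π (fun x => rfl) l x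
  have hπtau : ∀ l m x, π (H98.TwC.tau ζ ρ l m x) = H98.TwC.tau ζ (qa H.A ρ (A_ρ H)) l m (π x) :=
    fun l m x => tau_map hG H.rord H'.rord π (fun x => rfl) l m x
  have hπc : ∀ x y : Q, π ⁅x, y⁆ = ⁅π x, π y⁆ := fun x y => map_commutatorElement π x y
  haveI : H'.A.Normal := A_normal H' hG hQ'
  let B : Subgroup Q := H'.A.comap π
  have hBm : ∀ x, x ∈ B ↔ π x ∈ H'.A := fun x => Iff.rfl
  have hBm' : ∀ x, x ∈ B ↔ ∃ s, E' s = π x := fun x => H'.mem_A'
  haveI hBn : B.Normal := inferInstanceAs (H'.A.comap π).Normal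
  have hAB : ∀ x ∈ H.A, x ∈ B := by
    intro x hx
    rw [hBm, (hπk x).mpr hx]
    exact H'.A.one_mem
  obtain ⟨z₀, hz₀⟩ := hπs (E' 1)
  have hz : ∀ l, π (sc ζ ρ l z₀) = E' l := by
    intro l; rw [hπsc, hz₀, H'.Esc hG, mul_one]
  have hBρ : ∀ x ∈ B, ρ x ∈ B := by
    intro x hx
    exact A_ρ H' _ hx
  have hz₀B : z₀ ∈ B := (hBm' _).mpr ⟨1, hz₀.symm⟩
  have hcr : ∀ (x w : Q) (p : F), π w = E' p → ⁅x, w⁆ = ⁅x, sc ζ ρ p z₀⁆ := by
    intro x w p h
    have h1 : (QuotientGroup.mk w : Q ⧸ H.A) = QuotientGroup.mk (sc ζ ρ p z₀) := h.trans (hz p).symm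
    exact comm_congr' (fun n hn => hAc n hn x) h1
  have hcl : ∀ (x w : Q) (p : F), π w = E' p → ⁅w, x⁆ = ⁅sc ζ ρ p z₀, x⁆ := by
    intro x w p h
    rw [← commutatorElement_inv, hcr x w p h, commutatorElement_inv]
  -- elements of `B` commute with everything modulo `A`
  have hBA : ∀ x : Q, ∀ z ∈ B, ⁅x, z⁆ ∈ H.A := by
    intro x z hz
    rw [← hπk, hπc, commutatorElement_eq_one_iff_mul_comm]
    exact (hAc' _ hz _).symm
  have hAcen : ∀ x ∈ H.A, ∀ w, w * x = x * w := fun x hx w => (hAc x hx w).symm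
  have hN' : ∀ l m : F, (QuotientGroup.mk (sc ζ ρ (l + m) z₀) : Q ⧸ H.A) = QuotientGroup.mk (sc ζ ρ l z₀ * sc ζ ρ m z₀) := by
    intro l m
    show π _ = π _
    rw [map_mul, hz, hz, hz, H'.Eadd]
  -- (1)
  have hzz : ∀ p q : F, ⁅sc ζ ρ p z₀, sc ζ ρ q z₀⁆ = 1 := by
    intro p q
    obtain ⟨p, rfl⟩ := exists_sqrt hG p
    obtain ⟨q, rfl⟩ := exists_sqrt hG q
    have := comm_form hG H.rord H.A (A_ρ H) (Acomm H) (fun x hx => A2 H hG hx) (Atau H hG) H.A H.A z₀ z₀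
      (fun n hn m => hAc n hn _) (fun n hn m => hAc n hn _) hN' hN'
      (fun l m => hBA _ _ (sc_mem hG H.rord hBρ _ hz₀B)) (fun l m => hAcen _ (hBA _ _ (sc_mem hG H.rord hBρ _ hz₀B))) p q
    rw [this, commutatorElement_self, sc_map_one hG H.rord]
  have hBc : ∀ x ∈ B, ∀ y ∈ B, x * y = y * x := by
    intro x hx y hy
    obtain ⟨p, hp⟩ := (hBm' x).mp hx
    obtain ⟨q, hq⟩ := (hBm' y).mp hy
    rw [← commutatorElement_eq_one_iff_mul_comm, hcr x y q hq.symm, hcl _ x p hp.symm, hzz]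
  have hBcm : ∀ x y : Q, ⁅x, y⁆ ∈ B := by
    intro x y
    rw [hBm, hπc]
    exact S'.cm _ _
  have hBsq : ∀ x : Q, x * x ∈ B := by
    intro x
    rw [hBm, map_mul]
    exact S'.sq _
  have hBtau : ∀ (l m : F) (x : Q), H98.TwC.tau ζ ρ l m x ∈ B := by
    intro l m x
    rw [hBm, hπtau]
    exact S'.tau _ _ _
  have hBadd : ∀ (l m : F) (x : Q), (QuotientGroup.mk (sc ζ ρ (l + m) x) : Q ⧸ B) = QuotientGroup.mk (sc ζ ρ l x * sc ζ ρ m x) :=
    fun l m x => sc_add_of_tau B hBcm hBsq hBtau l m x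
  -- (2)
  have form2 : ∀ (x : Q) (l m : F), ⁅sc ζ ρ (l ^ 2) x, sc ζ ρ (m ^ 2) z₀⁆ = sc ζ ρ (l * m) ⁅x, z₀⁆ := by
    intro x l m
    exact comm_form hG H.rord H.A (A_ρ H) (Acomm H) (fun x hx => A2 H hG hx) (Atau H hG) B H.A x z₀
      (fun n hn m => hBc n hn _ (sc_mem hG H.rord hBρ _ hz₀B)) (fun n hn m => hAc n hn _) (fun l m => hBadd l m x) hN'
      (fun l m => hBA _ _ (sc_mem hG H.rord hBρ _ hz₀B)) (fun l m => hAcen _ (hBA _ _ (sc_mem hG H.rord hBρ _ hz₀B))) l m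
  -- (4)
  have hζ1 : ζ ≠ 1 := by
    intro h1
    have h2 : (Finset.univ : Finset F) ⊆ {0, 1} := by
      intro s _
      rw [Finset.mem_insert, Finset.mem_singleton]
      by_cases hs : s = 0
      · exact Or.inl hs
      · right
        obtain ⟨k, hk⟩ := hG.gen s hs
        rw [h1, one_pow] at hk
        exact hk.symm
    have h3 := Finset.card_le_card h2
    rw [Finset.card_univ] at h3
    have h4 : ({0, 1} : Finset F).card ≤ 2 := Finset.card_le_two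
    have := hG.big
    omega
  have h4 : ∀ x y : Q, ⁅π x, π y⁆ ≠ 1 → ⁅x, z₀⁆ = 1 := by
    intro x y hxy
    obtain ⟨c, hc⟩ := H.mem_A'.mp (hBA x z₀ hz₀B)
    obtain ⟨f, hf⟩ := H'.mem_A'.mp (S'.cm (π x) (π y))
    have hf0 : f ≠ 0 := by
      rintro rfl
      exact hxy (hf.symm.trans H'.E0)
    obtain ⟨f1, rfl⟩ := exists_sqrt hG f
    have hf10 : f1 ≠ 0 := by
      rintro rfl
      exact hf0 (by ring)
    -- x' = sc (ζ^2)^2 x
    have hx' : π (sc ζ ρ ((ζ ^ 2) ^ 2) x) = sc ζ (qa H.A ρ (A_ρ H)) ((ζ ^ 2) ^ 2) (π x) := hπsc _ _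
    have e1 : ⁅x, sc ζ ρ ((ζ ^ 2) ^ 2) x⁆ ∈ H.A := by
      rw [← hπk, hπc, hx']
      have := Sform S' hG hQ' (π x) (π x) 1 (ζ ^ 2)
      rw [one_pow, sc_one hG H'.rord] at this
      rw [this, commutatorElement_self, sc_map_one hG H'.rord]
    have e2 := hall (x := x) (x' := sc ζ ρ ((ζ ^ 2) ^ 2) x) (y := y) (hAcen _ e1) (hBc _ (hBcm _ _) _ (hBcm _ _))
    have e3 : π ⁅x, y⁆ = E' (f1 ^ 2) := by rw [hπc, ← hf]
    have e4 : π ⁅sc ζ ρ ((ζ ^ 2) ^ 2) x, y⁆ = E' ((ζ * f1) ^ 2) := by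
      rw [hπc, hx']
      have := Sform S' hG hQ' (π x) (π y) (ζ ^ 2) 1
      rw [one_pow, sc_one hG H'.rord, mul_one] at this
      rw [this, ← hf, H'.Esc hG]
      congr 1; ring
    rw [hcr _ _ _ e4, hcr _ _ _ e3] at e2
    have e5 := form2 x 1 (ζ * f1)
    rw [one_pow, sc_one hG H.rord] at e5
    rw [e5, form2 x (ζ ^ 2) f1, ← hc, H.Esc hG, H.Esc hG] at e2
    have e6 := H.Einj _ _ e2
    have e7 : (ζ - 1) * (ζ * (f1 * c)) = 0 := by linear_combination -e6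
    have e8 : c = 0 := by
      rcases mul_eq_zero.mp e7 with h | h
      · exact absurd (sub_eq_zero.mp h) hζ1
      · rcases mul_eq_zero.mp h with h | h
        · exact absurd h hG.ne
        · rcases mul_eq_zero.mp h with h | h
          · exact absurd h hf10
          · exact h
    rw [← hc, e8, H.E0]
  have hz₀c : ∀ x : Q, ⁅x, z₀⁆ = 1 := by
    intro x
    by_cases hx : ∀ y : Q ⧸ H.A, π x * y = y * π x
    · have hxB : x ∈ B := S'.cen _ hx
      exact commutatorElement_eq_one_iff_mul_comm.mpr (hBc x hxB z₀ hz₀B)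
    · push Not at hx
      obtain ⟨y, hy⟩ := hx
      obtain ⟨y, rfl⟩ := hπs y
      exact h4 x y (fun h => hy (commutatorElement_eq_one_iff_mul_comm.mp h))
  have hBcen : ∀ z ∈ B, ∀ x : Q, z * x = x * z := by
    intro z hz x
    obtain ⟨p, hp⟩ := (hBm' z).mp hz
    have h1 := hcr x z p hp.symm
    obtain ⟨p1, rfl⟩ := exists_sqrt hG p
    have h2 := form2 x 1 p1
    rw [one_pow, sc_one hG H.rord, hz₀c, sc_map_one hG H.rord] at h2
    rw [h2] at h1
    exact (commutatorElement_eq_one_iff_mul_comm.mp h1).symm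
  -- (5)
  have hccen : ∀ x y w : Q, w * ⁅x, y⁆ = ⁅x, y⁆ * w := fun x y w => (hBcen _ (hBcm x y) w).symm
  have hcsq : ∀ x y : Q, ⁅x, y⁆ * ⁅x, y⁆ = 1 := by
    intro x y
    rw [← cml (hccen x y)]
    exact commutatorElement_eq_one_iff_mul_comm.mpr (hBcen _ (hBsq x) y)
  let D : Subgroup Q := commutator Q
  have hDB : D ≤ B := by
    show commutator Q ≤ B
    rw [_root_.commutator_def, Subgroup.commutator_le]
    intro x _ y _
    exact hBcm x y
  have hD2 : ∀ x ∈ D, x * x = 1 := by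
    let D2 : Subgroup Q :=
      { carrier := {x | x ∈ B ∧ x * x = 1}
        one_mem' := ⟨B.one_mem, mul_one 1⟩
        mul_mem' := by
          rintro a b ⟨ha, ha2⟩ ⟨hb, hb2⟩
          refine ⟨B.mul_mem ha hb, ?_⟩
          calc a * b * (a * b) = a * (b * a) * b := by group
            _ = a * (a * b) * b := by rw [hBcen b hb a]
            _ = (a * a) * (b * b) := by group
            _ = 1 := by rw [ha2, hb2, mul_one]
        inv_mem' := by
          rintro a ⟨ha, ha2⟩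
          refine ⟨B.inv_mem ha, ?_⟩
          rw [← mul_inv_rev, ha2, inv_one] }
    have h1 : D ≤ D2 := by
      show commutator Q ≤ D2
      rw [_root_.commutator_def, Subgroup.commutator_le]
      intro x _ y _
      exact ⟨hBcm x y, hcsq x y⟩
    intro x hx
    exact (h1 hx).2
  have hDβ : ∀ β : MulAut Q, ∀ x ∈ D, β x ∈ D := by
    intro β x hx
    have h1 := Subgroup.characteristic_iff_map_eq.mp (inferInstance : (commutator Q).Characteristic) β
    have h2 : β x ∈ (commutator Q).map (β : Q →* Q) := ⟨x, hx, rfl⟩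
    have h3 : (commutator Q).map (β : Q →* Q) = commutator Q := h1
    rw [h3] at h2
    exact h2
  have hDρ : ∀ x ∈ D, ρ x ∈ D := hDβ ρ
  have hDα : ∀ x ∈ D, α x ∈ D := hDβ α
  have hDc : ∀ x ∈ D, ∀ y ∈ D, x * y = y * x := fun x hx y _ => hBcen x (hDB hx) y
  have hDt : ∀ l m : F, ∀ x ∈ D, H98.TwC.tau ζ ρ l m x = 1 := by
    intro l m x hx
    obtain ⟨l, rfl⟩ := exists_sqrt hG l
    obtain ⟨m, rfl⟩ := exists_sqrt hG m
    rw [← tau_tau hG H.rord D hDρ hDc hD2 l m hx]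
    apply Atau H hG
    rw [← hπk, hπtau]
    exact Atau H' hG _ _ _ (hDB hx)
  have form3 : ∀ (x y : Q) (l m : F), ⁅sc ζ ρ (l ^ 2) x, sc ζ ρ (m ^ 2) y⁆ = sc ζ ρ (l * m) ⁅x, y⁆ := by
    intro x y l m
    exact comm_form hG H.rord D hDρ hDc hD2 hDt B B x y
      (fun n hn m => hBcen n hn _) (fun n hn m => hBcen n hn _) (fun l m => hBadd l m x) (fun l m => hBadd l m y)
      (fun l m => Subgroup.commutator_mem_commutator (mem_top _) (mem_top _)) (fun l m w => hccen _ _ w) l m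
  have hDadd : ∀ l m : F, ∀ x ∈ D, sc ζ ρ (l + m) x = sc ζ ρ l x * sc ζ ρ m x := by
    intro l m x hx
    have h1 := hDt l m x hx
    unfold H98.TwC.tau at h1
    have hm := sc_mem hG H.rord hDρ m hx
    have hl := sc_mem hG H.rord hDρ l hx
    have h2 := hD2 _ (D.mul_mem hl hm)
    rw [mul_assoc] at h1
    exact (eq_inv_of_mul_eq_one_left h1).trans (inv_eq_of_mul_eq_one_left h2)
  obtain ⟨x₀, y₀, hxy⟩ := hna
  obtain ⟨x₀, rfl⟩ := hπs x₀
  obtain ⟨y₀, rfl⟩ := hπs y₀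
  have hxy' : ⁅π x₀, π y₀⁆ ≠ 1 := fun h => hxy (commutatorElement_eq_one_iff_mul_comm.mp h)
  have hcD : ⁅x₀, y₀⁆ ∈ D := Subgroup.commutator_mem_commutator (mem_top _) (mem_top _)
  have hcom : ∀ w w' : Q, ∃ t : F, ⁅w, w'⁆ = sc ζ ρ t ⁅x₀, y₀⁆ := by
    intro w w'
    obtain ⟨l, m, h⟩ := S'.gen _ _ hxy' (π w)
    obtain ⟨l', m', h'⟩ := S'.gen _ _ hxy' (π w')
    refine ⟨l * m' + m * l', ?_⟩
    have h1 : (QuotientGroup.mk w : Q ⧸ B) = QuotientGroup.mk (sc ζ ρ (l ^ 2) x₀ * sc ζ ρ (m ^ 2) y₀) := by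
      symm
      rw [QuotientGroup.eq, hBm, map_mul, map_inv, map_mul, hπsc, hπsc]
      exact h
    have h2 : (QuotientGroup.mk w' : Q ⧸ B) = QuotientGroup.mk (sc ζ ρ (l' ^ 2) x₀ * sc ζ ρ (m' ^ 2) y₀) := by
      symm
      rw [QuotientGroup.eq, hBm, map_mul, map_inv, map_mul, hπsc, hπsc]
      exact h'
    rw [comm_congr (fun n hn => hBcen n hn w') h1, comm_congr' (fun n hn => hBcen n hn _) h2, cml (hccen _ _), cmr (hccen _ _),
      cmr (hccen _ _), form3, form3, form3, form3, commutatorElement_self, commutatorElement_self, sc_map_one hG H.rord,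
      sc_map_one hG H.rord, one_mul, mul_one, hDadd _ _ _ hcD]
    congr 2
    rw [← commutatorElement_inv, inv_eq_iff_mul_eq_one]
    exact hcsq _ _
  let M : Subgroup Q :=
    { carrier := {w | ∃ t : F, w = sc ζ ρ t ⁅x₀, y₀⁆}
      one_mem' := ⟨0, (sc_zero hG ρ _).symm⟩
      mul_mem' := by
        rintro _ _ ⟨s, rfl⟩ ⟨t, rfl⟩
        exact ⟨s + t, (hDadd _ _ _ hcD).symm⟩
      inv_mem' := by
        rintro _ ⟨s, rfl⟩
        refine ⟨s, ?_⟩
        rw [inv_eq_iff_mul_eq_one]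
        exact hD2 _ (sc_mem hG H.rord hDρ s hcD) }
  have hDM : D ≤ M := by
    show commutator Q ≤ M
    rw [_root_.commutator_def, Subgroup.commutator_le]
    intro x _ y _
    exact hcom x y
  have hDne : D ≠ ⊥ := by
    intro h
    rw [h, Subgroup.mem_bot] at hcD
    apply hxy'
    rw [← hπc, hcD, map_one]
  obtain ⟨t, ht⟩ := hDM (H.A_le hG hQ D hDα hDρ hDne (H.mem_A'.mpr ⟨1, rfl⟩))
  have ht0 : t ≠ 0 := by
    rintro rfl
    rw [sc_zero hG] at ht
    exact one_ne_zero (H.E1 ht)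
  apply hxy'
  rw [← hπc, hπk, H.mem_A']
  refine ⟨t⁻¹, ?_⟩
  have := congrArg (sc ζ ρ t⁻¹) ht
  rw [H.Esc hG, sc_sc hG H.rord, inv_mul_cancel₀ ht0, sc_one hG H.rord, mul_one] at this
  exact this

/-- the structure theorem -/
theorem str (hG : Gn ζ) : ∀ (N : ℕ) (Q : Type*) [Group Q] [Finite Q] (α ρ : MulAut Q) (E : F → Q), IsPGroup 2 Q →
    ∀ H : Hyp ζ Q α ρ E, (∃ x y : Q, x * y ≠ y * x) → Nat.card Q ≤ N → Str H := by
  intro N
  induction N with
  | zero =>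
    intro Q _ _ α ρ E hQ H hc hN
    have : 0 < Nat.card Q := Nat.card_pos
    omega
  | succ N ih =>
    intro Q _ _ α ρ E hQ H hc hN
    have htop : H.A ≠ ⊤ := by
      intro htop
      obtain ⟨x, y, hxy⟩ := hc
      exact hxy (Acomm H x (by rw [htop]; exact mem_top x) y (by rw [htop]; exact mem_top y))
    haveI := A_normal H hG hQ
    obtain ⟨E', H', -⟩ := quot H hG hQ htop
    have hcard : Nat.card (Q ⧸ H.A) ≤ N := by
      have h1 := H.A.card_eq_card_quotient_mul_card_subgroup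
      have h2 : 1 < Nat.card H.A := by
        have : Nontrivial H.A := ⟨⟨⟨E 1, H.mem_A'.mpr ⟨1, rfl⟩⟩, 1, fun h => one_ne_zero (H.E1 (congrArg Subtype.val h))⟩⟩
        exact Finite.one_lt_card
      have h3 : 0 < Nat.card (Q ⧸ H.A) := Nat.card_pos
      have : Nat.card (Q ⧸ H.A) * 2 ≤ Nat.card Q := by
        rw [h1]; exact Nat.mul_le_mul_left _ h2
      omega
    by_cases hab : ∀ x y : Q ⧸ H.A, x * y = y * x
    · apply case1 H hG hQ _ hc
      · intro l m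
        obtain ⟨k, hk⟩ := nilp hG l m N (Q ⧸ H.A) _ _ E' (hQ.to_quotient _) H' hab hcard
        refine ⟨k, fun x => ?_⟩
        have h1 : (QuotientGroup.mk' H.A) ((H98.TwC.tau ζ ρ l m)^[k] x) = 1 := by
          rw [iter_map (f' := H98.TwC.tau ζ (qa H.A ρ (A_ρ H)) l m) (QuotientGroup.mk' H.A) (fun x => tau_map hG H.rord H'.rord _ (fun x => rfl) l m x)]
          exact hk _
        exact (QuotientGroup.eq_one_iff _).mp h1
      · intro x y
        have h1 : (QuotientGroup.mk' H.A) ⁅x, y⁆ = 1 := by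
          rw [map_commutatorElement, commutatorElement_eq_one_iff_mul_comm]
          exact hab _ _
        exact (QuotientGroup.eq_one_iff _).mp h1
    · exfalso
      push Not at hab
      exact case2 H hG hQ H' (ih (Q ⧸ H.A) _ _ E' (hQ.to_quotient _) H' hab hcard) hab

end H98.TwF
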