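import Mathlib
import Cfsg.Agent.Lib.H98.TwF
import Cfsg.Agent.Lib.H98.TwG
import Cfsg.Agent.Lib.H98.TwH

/-!
2-groups with two commuting automorphisms: identification.
-/

set_option autoImplicit false
set_option linter.unusedSectionVars false

namespace H98.TwI

open Subgroup H98.TwB H98.TwC H98.TwD H98.TwE H98.TwF
open scoped commutatorElement

variable {F : Type} [Field F] [Fintype F] {ζ : F}

theorem ident {Q : Type*} [Group Q] [Finite Q] {α ρ : MulAut Q} {E : F → Q} {H : Hyp ζ Q α ρ E} (S : Str H) (hG : Gn ζ) (hQ : IsPGroup 2 Q)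
    (x y : Q) {a b c : F} (ha : x * x = E a) (hb : y * y = E b) (hc : ⁅x, y⁆ = E c) (hc0 : c ≠ 0) :
    ∃ π : Q →* Multiplicative (F × F), Function.Surjective π ∧ (∀ w, π w = 1 ↔ w ∈ H.A) ∧
      ∀ w, w * w = E (a * (π w).toAdd.1 ^ 2 + c * (π w).toAdd.1 * (π w).toAdd.2 + b * (π w).toAdd.2 ^ 2) := by
  classical
  have hAc := Acen H hG hQ
  have hEinv : ∀ s : F, (E s)⁻¹ = E s := fun s => inv_eq_of_mul_eq_one_left (H.Esq hG s)
  have hcen : ∀ u v w : Q, w * ⁅u, v⁆ = ⁅u, v⁆ * w := fun u v w => (hAc _ (S.cm u v) w).symm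
  have hex : ∀ w u : Q, ∃ s : F, E s = ⁅w, u⁆ := fun w u => H.mem_A'.mp (S.cm w u)
  choose k hk using hex
  have hkm : ∀ w w' u : Q, k (w * w') u = k w u + k w' u := by
    intro w w' u
    apply H.Einj
    rw [hk, H.Eadd, hk, hk, cml (hcen w' u)]
  let π : Q →* Multiplicative (F × F) :=
    { toFun := fun w => Multiplicative.ofAdd (k w y / c, k w x / c)
      map_one' := by
        have h1 : ∀ u : Q, k 1 u = 0 := by
          intro u
          have := hkm 1 1 u
          rw [mul_one] at this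
          exact left_eq_add.mp this
        rw [h1, h1, zero_div]; rfl
      map_mul' := by
        intro w w'
        rw [hkm, hkm, add_div, add_div]; rfl }
  have hπ0 : ∀ w, π w = Multiplicative.ofAdd (k w y / c, k w x / c) := fun w => rfl
  have hone : ∀ x : Q, sc ζ ρ ((1 : F) ^ 2) x = x := by
    intro x; rw [one_pow, sc_one hG H.rord]
  have hc' : ⁅y, x⁆ = E c := by rw [← commutatorElement_inv, hc, hEinv]
  have hπ : ∀ l m : F, ∀ d ∈ H.A, π (sc ζ ρ (l ^ 2) x * sc ζ ρ (m ^ 2) y * d) = Multiplicative.ofAdd (l, m) := by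
    intro l m d hd
    have h1 : ⁅sc ζ ρ (l ^ 2) x * sc ζ ρ (m ^ 2) y * d, y⁆ = E (l * c) := by
      rw [cml_one (hAc d hd y), cml (hcen _ _)]
      have e1 := Sform S hG hQ x y l 1
      have e2 := Sform S hG hQ y y m 1
      rw [hone] at e1 e2
      rw [e1, e2, commutatorElement_self, sc_map_one hG H.rord, mul_one, mul_one, hc, H.Esc hG]
    have h2 : ⁅sc ζ ρ (l ^ 2) x * sc ζ ρ (m ^ 2) y * d, x⁆ = E (m * c) := by
      rw [cml_one (hAc d hd x), cml (hcen _ _)]
      have e1 := Sform S hG hQ x x l 1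
      have e2 := Sform S hG hQ y x m 1
      rw [hone] at e1 e2
      rw [e1, e2, commutatorElement_self, sc_map_one hG H.rord, one_mul, mul_one, hc', H.Esc hG]
    have h3 := H.Einj _ _ ((hk _ y).trans h1)
    have h4 := H.Einj _ _ ((hk _ x).trans h2)
    rw [hπ0, h3, h4, mul_div_cancel_right₀ _ hc0, mul_div_cancel_right₀ _ hc0]
  have hxy : ⁅x, y⁆ ≠ 1 := by
    rw [hc]
    intro h
    exact hc0 (H.E1 h)
  have hform : ∀ w : Q, ∃ (l m : F) (d : Q), d ∈ H.A ∧ w = sc ζ ρ (l ^ 2) x * sc ζ ρ (m ^ 2) y * d := by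
    intro w
    obtain ⟨l, m, h⟩ := S.gen x y hxy w
    exact ⟨l, m, _, h, by group⟩
  refine ⟨π, ?_, ?_, ?_⟩
  · intro v
    refine ⟨sc ζ ρ (v.toAdd.1 ^ 2) x * sc ζ ρ (v.toAdd.2 ^ 2) y * 1, ?_⟩
    rw [hπ _ _ _ H.A.one_mem]
    rfl
  · intro w
    obtain ⟨l, m, d, hd, rfl⟩ := hform w
    rw [hπ _ _ _ hd]
    constructor
    · intro h
      have h1 : ((l, m) : F × F) = 0 := h
      rw [Prod.mk_eq_zero] at h1
      rw [h1.1, h1.2, zero_pow (by norm_num), sc_zero hG, sc_zero hG, one_mul, one_mul]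
      exact hd
    · intro h
      have h1 : sc ζ ρ (l ^ 2) x * sc ζ ρ (m ^ 2) y * d ∈ H.A := h
      rw [← hπ l m d hd, hπ0]
      obtain ⟨s, hs⟩ := H.mem_A'.mp h
      have h2 : ∀ u, k (sc ζ ρ (l ^ 2) x * sc ζ ρ (m ^ 2) y * d) u = 0 := by
        intro u
        apply H.Einj
        rw [hk, H.E0, commutatorElement_eq_one_iff_mul_comm]
        exact hAc _ h u
      rw [h2, h2, zero_div]; rfl
  · intro w
    obtain ⟨l, m, d, hd, rfl⟩ := hform w
    rw [hπ _ _ _ hd]
    show _ = E (a * l ^ 2 + c * l * m + b * m ^ 2)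
    set u := sc ζ ρ (l ^ 2) x with hu
    set v := sc ζ ρ (m ^ 2) y with hv
    have e1 : u * u = E (l ^ 2 * a) := by
      rw [hu, ← sc_mul hG H.rord, ha, H.Esc hG]
    have e2 : v * v = E (m ^ 2 * b) := by
      rw [hv, ← sc_mul hG H.rord, hb, H.Esc hG]
    have e3 : ⁅v, u⁆ = E (m * l * c) := by
      rw [hu, hv, Sform S hG hQ, hc', H.Esc hG]
    have e4 : d * d = 1 := A2 H hG hd
    have e5 : v * u = ⁅v, u⁆ * (u * v) := by rw [commutatorElement_def]; group
    calc u * v * d * (u * v * d) = u * v * (d * (u * v)) * d := by group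
      _ = u * v * ((u * v) * d) * d := by rw [hAc d hd (u * v)]
      _ = u * (v * u) * v * (d * d) := by group
      _ = u * (⁅v, u⁆ * (u * v)) * v := by rw [e4, mul_one, e5]
      _ = (u * ⁅v, u⁆) * u * (v * v) := by group
      _ = (⁅v, u⁆ * u) * u * (v * v) := by rw [hcen v u u]
      _ = ⁅v, u⁆ * (u * u) * (v * v) := by group
      _ = E (a * l ^ 2 + c * l * m + b * m ^ 2) := by
          rw [e1, e2, e3, ← H.Eadd, ← H.Eadd]
          congr 1; ring

/-- the isotropic case -/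
theorem iso_ut {Q : Type*} [Group Q] [Finite Q] {α ρ : MulAut Q} {E : F → Q} {H : Hyp ζ Q α ρ E} (S : Str H) (hG : Gn ζ) (hQ : IsPGroup 2 Q)
    (x : Q) (hx : x ∉ H.A) (hx2 : x * x = 1) : Nonempty (Q ≃* H54.L34.UT F) := by
  classical
  have hAc := Acen H hG hQ
  obtain ⟨y, hy⟩ : ∃ y, x * y ≠ y * x := by
    by_contra hcon
    push Not at hcon
    exact hx (S.cen x hcon)
  obtain ⟨c, hc⟩ := H.mem_A'.mp (S.cm x y)
  obtain ⟨b, hb⟩ := H.mem_A'.mp (S.sq y)
  have hc0 : c ≠ 0 := by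
    rintro rfl
    rw [H.E0] at hc
    exact hy (commutatorElement_eq_one_iff_mul_comm.mp hc.symm)
  obtain ⟨π, hπs, hπk, hπq⟩ := ident S hG hQ x y (a := 0) (b := b) (c := c) (by rw [H.E0, hx2]) hb.symm hc.symm hc0
  have two := hG.two
  let L : F × F →+ F × F :=
    { toFun := fun p => (c * p.1 + b * p.2, p.2)
      map_zero' := by simp
      map_add' := by
        rintro ⟨l, m⟩ ⟨l', m'⟩
        simp only [Prod.mk_add_mk]
        congr 1
        ring }
  let π₁ : Q →* Multiplicative (F × F) := (AddMonoidHom.toMultiplicative L).comp π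
  have hπ₁ : ∀ w, (π₁ w).toAdd = (c * (π w).toAdd.1 + b * (π w).toAdd.2, (π w).toAdd.2) := fun w => rfl
  let π₂ : H54.L34.UT F →* Multiplicative (F × F) :=
    { toFun := fun g => Multiplicative.ofAdd ((g : Matrix.SpecialLinearGroup (Fin 3) F).1 0 1, (g : Matrix.SpecialLinearGroup (Fin 3) F).1 1 2)
      map_one' := by
        show Multiplicative.ofAdd (((1 : Matrix.SpecialLinearGroup (Fin 3) F).1 0 1), ((1 : Matrix.SpecialLinearGroup (Fin 3) F).1 1 2)) = 1
        simp
      map_mul' := by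
        intro g h
        obtain ⟨a, b, c, rfl⟩ := H54.L34.exists_U g
        obtain ⟨a', b', c', rfl⟩ := H54.L34.exists_U h
        rw [H54.L34.U_mul]
        rfl }
  have hπ₂ : ∀ a b c : F, π₂ (H54.L34.U a b c) = Multiplicative.ofAdd (a, b) := fun a b c => rfl
  refine H98.TwG.glue (V := Multiplicative (F × F)) (A := F) E (fun s => H54.L34.U 0 0 s) H.Eadd ?_ (fun s => H.E1) ?_
    (fun s x => (hAc _ (H.mem_A'.mpr ⟨s, rfl⟩) x).symm) ?_ π₁ π₂ ?_ ?_ ?_ ?_ ?_ ?_ (fun v => v.toAdd.1 * v.toAdd.2) ?_ ?_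
  · intro s t
    rw [H54.L34.U_mul]
    apply H54.L34.U_congr <;> ring
  · intro s hs
    rw [← H54.L34.U_zero] at hs
    exact (H54.L34.U_inj hs).2.2
  · intro s g
    obtain ⟨a, b, c, rfl⟩ := H54.L34.exists_U g
    rw [H54.L34.U_mul, H54.L34.U_mul]
    apply H54.L34.U_congr <;> ring
  · intro v
    obtain ⟨w, hw⟩ := hπs (Multiplicative.ofAdd ((v.toAdd.1 - b * v.toAdd.2) / c, v.toAdd.2))
    refine ⟨w, ?_⟩
    apply Multiplicative.toAdd.injective
    rw [hπ₁, hw]
    apply Prod.ext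
    · show c * ((v.toAdd.1 - b * v.toAdd.2) / c) + b * v.toAdd.2 = v.toAdd.1
      field_simp
      try ring
    · rfl
  · intro v
    exact ⟨H54.L34.U v.toAdd.1 v.toAdd.2 0, rfl⟩
  · intro w hw
    apply H.mem_A'.mp
    rw [← hπk]
    have h1 : (π₁ w).toAdd = 0 := by rw [hw]; rfl
    rw [hπ₁, Prod.mk_eq_zero] at h1
    obtain ⟨h1, h2⟩ := h1
    rw [h2, mul_zero, add_zero] at h1
    have h3 := (mul_eq_zero.mp h1).resolve_left hc0
    apply Multiplicative.toAdd.injective
    exact Prod.ext h3 h2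
  · intro g hg
    obtain ⟨a, b, c, rfl⟩ := H54.L34.exists_U g
    rw [hπ₂] at hg
    have h1 : ((a, b) : F × F) = 0 := hg
    rw [Prod.mk_eq_zero] at h1
    exact ⟨c, H54.L34.U_congr h1.1.symm h1.2.symm rfl⟩
  · intro s
    apply Multiplicative.toAdd.injective
    rw [hπ₁, (hπk _).mpr (H.mem_A'.mpr ⟨s, rfl⟩)]
    apply Prod.ext
    · show c * (0 : F) + b * (0 : F) = 0
      ring
    · rfl
  · intro s
    rfl
  · intro w
    rw [hπq w, hπ₁]
    congr 1
    show _ = (c * (π w).toAdd.1 + b * (π w).toAdd.2) * (π w).toAdd.2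
    ring
  · intro g
    obtain ⟨a, b, c, rfl⟩ := H54.L34.exists_U g
    rw [hπ₂, H54.L34.U_mul]
    apply H54.L34.U_congr
    · linear_combination a * two
    · linear_combination b * two
    · show c + c + a * b = a * b
      linear_combination c * two

section mkU

variable {K : Type} [Field K] [Fintype K] {q : ℕ} (twoK : (2 : K) = 0) (hK : Fintype.card K = q ^ 2)

/-- elements of the unitary group -/
def mkU (s t : K) (h : H24.U3Syl.Good q s t) : H24.U3Syl.U twoK hK := ⟨H24.U3Syl.u q s t, s, t, h, rfl⟩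

theorem exists_mkU (g : H24.U3Syl.U twoK hK) : ∃ (s t : K) (h : H24.U3Syl.Good q s t), g = mkU twoK hK s t h := by
  obtain ⟨_, s, t, h, rfl⟩ := g
  exact ⟨s, t, h, rfl⟩

theorem mkU_mul {s t s' t' : K} (h : H24.U3Syl.Good q s t) (h' : H24.U3Syl.Good q s' t') :
    mkU twoK hK s t h * mkU twoK hK s' t' h' = mkU twoK hK (s + s') (t + t' + s ^ q * s') (H24.U3Syl.good_mul twoK hK h h') :=
  Subtype.ext (H24.U3Syl.u_mul hK s t s' t')

theorem mkU_congr {s t s' t' : K} (h : H24.U3Syl.Good q s t) (h' : H24.U3Syl.Good q s' t') (e1 : s = s') (e2 : t = t') :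
    mkU twoK hK s t h = mkU twoK hK s' t' h' := by
  subst e1; subst e2; rfl

theorem mkU_inj {s t s' t' : K} {h : H24.U3Syl.Good q s t} {h' : H24.U3Syl.Good q s' t'}
    (e : mkU twoK hK s t h = mkU twoK hK s' t' h') : s = s' ∧ t = t' :=
  H24.U3Syl.u_inj (congrArg Subtype.val e)

include twoK hK in
theorem good00 : H24.U3Syl.Good q (0 : K) 0 := (H24.U3Syl.good_zero twoK).mpr (H7.QuadExt.zero_pow_q hK)

theorem mkU_one : mkU twoK hK 0 0 (good00 twoK hK) = 1 := Subtype.ext (H24.U3Syl.u_zero hK)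

/-- the coordinate -/
def prA (g : H24.U3Syl.U twoK hK) : K := g.1.1 1 2

theorem prA_mkU (s t : K) (h : H24.U3Syl.Good q s t) : prA twoK hK (mkU twoK hK s t h) = s := by
  show (H24.U3Syl.um q s t) 1 2 = s
  simp [H24.U3Syl.um]

end mkU

set_option maxHeartbeats 1000000 in
/-- the anisotropic case -/
theorem aniso {Q : Type*} [Group Q] [Finite Q] {α ρ : MulAut Q} {E : F → Q} {H : Hyp ζ Q α ρ E} (S : Str H) (hG : Gn ζ) (hQ : IsPGroup 2 Q)
    (hna : ∃ x y : Q, x * y ≠ y * x) (hin : ∀ w : Q, w * w = 1 → w ∈ H.A) {n : ℕ} (hn : 2 ≤ n) (hF : Fintype.card F = 2 ^ n) :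
    ∃ (K : Type) (_ : Field K) (_ : Fintype K), Fintype.card K = 4 ^ n ∧
        ∃ S : Sylow 2 (Cfsg.PSU 3 K (2 ^ n)), Nonempty (Q ≃* ↥(S : Subgroup (Cfsg.PSU 3 K (2 ^ n)))) := by
  classical
  have hAc := Acen H hG hQ
  obtain ⟨x, y, hy⟩ := hna
  obtain ⟨c, hc⟩ := H.mem_A'.mp (S.cm x y)
  obtain ⟨a, ha⟩ := H.mem_A'.mp (S.sq x)
  obtain ⟨b, hb⟩ := H.mem_A'.mp (S.sq y)
  have hc0 : c ≠ 0 := by
    rintro rfl
    rw [H.E0] at hc
    exact hy (commutatorElement_eq_one_iff_mul_comm.mp hc.symm)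
  obtain ⟨π, hπs, hπk, hπq⟩ := ident S hG hQ x y ha.symm hb.symm hc.symm hc0
  have hS : ∀ l m : F, a * l ^ 2 + c * l * m + b * m ^ 2 = 0 → l = 0 ∧ m = 0 := by
    intro l m h
    obtain ⟨w, hw⟩ := hπs (Multiplicative.ofAdd (l, m))
    have h1 := hπq w
    rw [hw] at h1
    have h2 : w * w = E (a * l ^ 2 + c * l * m + b * m ^ 2) := h1
    rw [h, H.E0] at h2
    have h3 := (hπk w).mpr (hin w h2)
    rw [hw] at h3
    have h4 : ((l, m) : F × F) = 0 := h3
    rwa [Prod.mk_eq_zero] at h4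
  have ha0 : a ≠ 0 := by
    rintro rfl
    have := (hS 1 0 (by ring)).1
    exact one_ne_zero this
  have two := hG.two
  obtain ⟨K, iK1, iK2, j, ω, hK, hω, hbij⟩ := H98.TwH.exists_quad (c / a) (b / a) (by
    intro z hz
    have h1 : a * z ^ 2 + c * z * 1 + b * 1 ^ 2 = 0 := by
      have : a * (z ^ 2 + c / a * z + b / a) = 0 := by rw [hz, mul_zero]
      have e : a * (z ^ 2 + c / a * z + b / a) = a * z ^ 2 + c * z * 1 + b * 1 ^ 2 := by field_simp
      rw [← e, this]
    exact one_ne_zero (hS z 1 h1).2)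
  have twoK : (2 : K) = 0 := by
    have := congrArg j two
    rwa [map_ofNat, map_zero] at this
  set q := Fintype.card F with hq
  have hjq : ∀ s : F, (j s) ^ q = j s := by
    intro s
    rw [← map_pow, FiniteField.pow_card]
  have hpow : ∀ l m : F, (j l + j m * ω) ^ q = j l + j m * ω ^ q := by
    intro l m
    rw [H7.QuadExt.add_pow_q hK, mul_pow, hjq, hjq]
  have hωne : ω ^ q ≠ ω := by
    intro h
    obtain ⟨z, hz⟩ := H7.QuadExt.exists_trace_eq hK (one_pow q : (1 : K) ^ q = 1)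
    obtain ⟨⟨l, m⟩, hlm⟩ := hbij.2 z
    simp only at hlm
    rw [← hlm, hpow, h] at hz
    have : (1 : K) = 0 := by
      rw [← hz]
      linear_combination (j l + j m * ω) * twoK
    exact one_ne_zero this
  have hωq : (ω ^ q) ^ 2 + j (c / a) * ω ^ q + j (b / a) = 0 := by
    have h1 := congrArg (fun z => z ^ q) hω
    simp only [H7.QuadExt.add_pow_q hK, mul_pow, hjq, H7.QuadExt.zero_pow_q hK] at h1
    rw [← h1]
    ring
  have htr : ω ^ q + ω = j (c / a) := by
    have h1 : (ω ^ q - ω) * (ω ^ q + ω + j (c / a)) = 0 := by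
      linear_combination hωq - hω
    have h2 := (mul_eq_zero.mp h1).resolve_left (sub_ne_zero.mpr hωne)
    linear_combination h2 - (j (c / a)) * twoK
  have hnm : ω * ω ^ q = j (b / a) := by
    have h1 : ω ^ q = j (c / a) - ω := by linear_combination htr
    rw [h1]
    linear_combination -hω + j (c / a) * ω * twoK
  have hnorm : ∀ l m : F, (j l + j m * ω) ^ (q + 1) = j ((a * l ^ 2 + c * l * m + b * m ^ 2) / a) := by
    intro l m
    rw [pow_succ, hpow]
    have e : (a * l ^ 2 + c * l * m + b * m ^ 2) / a = l ^ 2 + (c / a) * (l * m) + (b / a) * m ^ 2 := by field_simp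
    rw [e, map_add, map_add, map_mul, map_mul, map_mul, map_pow, map_pow]
    linear_combination (j l * j m) * htr + (j m) ^ 2 * hnm
  have hfix : ∀ z : K, z ^ q = z → ∃ s, j s = z := by
    intro z hz
    obtain ⟨⟨l, m⟩, hlm⟩ := hbij.2 z
    simp only at hlm
    rw [← hlm, hpow] at hz
    have h1 : j m * (ω ^ q - ω) = 0 := by linear_combination hz
    have h2 := (mul_eq_zero.mp h1).resolve_right (sub_ne_zero.mpr hωne)
    exact ⟨l, by rw [← hlm, h2, zero_mul, add_zero]⟩
  -- the additive equivalence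
  let σ : F × F →+ K :=
    { toFun := fun p => j p.1 + j p.2 * ω
      map_zero' := by simp
      map_add' := by
        rintro ⟨l, m⟩ ⟨l', m'⟩
        simp only [Prod.mk_add_mk, map_add]
        ring }
  let σe : F × F ≃+ K := AddEquiv.ofBijective σ hbij
  have hσ : ∀ v : F × F, σe v = j v.1 + j v.2 * ω := fun v => rfl
  have hne : Nonempty (Q ≃* H24.U3Syl.U twoK hK) := by
    let π₂ : H24.U3Syl.U twoK hK →* Multiplicative (F × F) :=
      { toFun := fun g => Multiplicative.ofAdd (σe.symm (prA twoK hK g))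
        map_one' := by
          rw [← mkU_one twoK hK, prA_mkU, map_zero]; rfl
        map_mul' := by
          intro g g'
          obtain ⟨s, t, h, rfl⟩ := exists_mkU twoK hK g
          obtain ⟨s', t', h', rfl⟩ := exists_mkU twoK hK g'
          rw [mkU_mul, prA_mkU, prA_mkU, prA_mkU, map_add]
          rfl }
    have hπ₂ : ∀ (s t : K) (h : H24.U3Syl.Good q s t),
        π₂ (mkU twoK hK s t h) = Multiplicative.ofAdd (σe.symm s) := by
      intro s t h
      show Multiplicative.ofAdd (σe.symm (prA twoK hK _)) = _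
      rw [prA_mkU]
    have hE2 : ∀ s : F, H24.U3Syl.Good q (0 : K) (j (s / a)) := fun s => (H24.U3Syl.good_zero twoK).mpr (hjq _)
    refine H98.TwG.glue (V := Multiplicative (F × F)) (A := F) E (fun s => mkU twoK hK 0 (j (s / a)) (hE2 s)) H.Eadd ?_ (fun s => H.E1) ?_
      (fun s x => (hAc _ (H.mem_A'.mpr ⟨s, rfl⟩) x).symm) ?_ π π₂ hπs ?_ ?_ ?_ ?_ ?_
      (fun v => a * v.toAdd.1 ^ 2 + c * v.toAdd.1 * v.toAdd.2 + b * v.toAdd.2 ^ 2) hπq ?_
    · intro s t
      rw [mkU_mul]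
      apply mkU_congr
      · ring
      · rw [add_div, map_add]; ring
    · intro s hs
      rw [← mkU_one twoK hK] at hs
      have h2 := (mkU_inj twoK hK hs).2
      have h3 := j.injective (h2.trans (map_zero j).symm)
      rcases div_eq_zero_iff.mp h3 with h | h
      · exact h
      · exact absurd h ha0
    · intro s g
      obtain ⟨s', t', h', rfl⟩ := exists_mkU twoK hK g
      rw [mkU_mul, mkU_mul]
      apply mkU_congr
      · ring
      · rw [H7.QuadExt.zero_pow_q hK]; ring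
    · intro v
      obtain ⟨t, ht⟩ := H24.U3Syl.exists_gt twoK hK (σe v.toAdd)
      refine ⟨mkU twoK hK (σe v.toAdd) t ht, ?_⟩
      rw [hπ₂, AddEquiv.symm_apply_apply]
      rfl
    · intro w hw
      exact H.mem_A'.mp ((hπk w).mp hw)
    · intro g hg
      obtain ⟨s, t, h, rfl⟩ := exists_mkU twoK hK g
      rw [hπ₂] at hg
      have h1 : σe.symm s = 0 := hg
      have h2 : s = 0 := by
        have := congrArg σe h1
        rwa [AddEquiv.apply_symm_apply, map_zero] at this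
      subst h2
      obtain ⟨r, hr⟩ := hfix t ((H24.U3Syl.good_zero twoK).mp h)
      refine ⟨r * a, ?_⟩
      apply mkU_congr
      · rfl
      · rw [mul_div_cancel_right₀ _ ha0, hr]
    · intro s
      exact (hπk _).mpr (H.mem_A'.mpr ⟨s, rfl⟩)
    · intro s
      rw [hπ₂, map_zero]
      rfl
    · intro g
      obtain ⟨s, t, h, rfl⟩ := exists_mkU twoK hK g
      obtain ⟨⟨l, m⟩, hlm⟩ := hbij.2 s
      simp only at hlm
      have h1 : σe.symm s = (l, m) := by
        rw [AddEquiv.symm_apply_eq, hσ]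
        exact hlm.symm
      rw [hπ₂, h1]
      have h2 : mkU twoK hK s t h * mkU twoK hK s t h = mkU twoK hK 0 (j ((a * l ^ 2 + c * l * m + b * m ^ 2) / a)) (hE2 _) := by
        rw [mkU_mul]
        apply mkU_congr
        · linear_combination s * twoK
        · rw [← hnorm, hlm]
          linear_combination t * twoK
      exact h2
  obtain ⟨e⟩ := hne
  have hcK : Fintype.card K = 4 ^ n := by
    rw [hK, hF, ← pow_mul, mul_comm, pow_mul]; norm_num
  have hK' : Fintype.card K = (2 ^ n) ^ 2 := by rw [hK, hF]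
  refine ⟨K, iK1, iK2, hcK, ?_⟩
  rw [← hF]
  obtain ⟨P⟩ : Nonempty (Sylow 2 (Cfsg.PSU 3 K q)) := inferInstance
  obtain ⟨f⟩ := H24.U3Syl.main twoK hK hn hF P
  exact ⟨P, ⟨e.trans f.symm⟩⟩

end H98.TwI
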